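import Cfsg.Agent.H85.P6.H67_SPSpec
import Cfsg.Agent.H85.P6.H54_SPIFC
import Cfsg.Agent.H59.UniP
import Cfsg.Agent.H54.SpCard

namespace H54 end H54
open H54
namespace H85.P6

/-! STD-SP (row S3129), slot FW: Witt's theorem, generation, the Sylow `2`-subgroup. -/

set_option autoImplicit false
set_option linter.unusedSectionVars false

namespace H54.SPF

open H64.SG (Syl)
open H67.UA hiding Par
open H67.SP H54.SPI Matrix
open H86.SPI (hf_comm hf_self hf_split ok pp)
open H67.SA (la)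

variable {n : ℕ} {F : Type} [Field F] [StarRing F] [TrivialStar F] [CharP F 2] [Finite F]

theorem li_iff {u v : Vn n F} : Li u v ↔ LinearIndependent F ![u, v] :=
  LinearIndependent.pair_iff.symm

theorem li3_iff {u v w : Vn n F} : Li3 u v w ↔ LinearIndependent F ![u, v, w] := by
  rw [Fintype.linearIndependent_iff]
  refine ⟨fun h g hg => ?_, fun h a b c e => ?_⟩
  · obtain ⟨h0, h1, h2⟩ := h (g 0) (g 1) (g 2) (by simpa [Fin.sum_univ_three] using hg)
    intro i; fin_cases i <;> assumption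
  · have := h ![a, b, c] (by simpa [Fin.sum_univ_three] using e)
    exact ⟨this 0, this 1, this 2⟩

theorem v1 (h : 5 ≤ n) : ((1 : Fin (n + 1)) : ℕ) = 1 := by
  rw [Fin.val_one', Nat.mod_eq_of_lt (by omega)]

theorem v2 (h : 5 ≤ n) : ((2 : Fin (n + 1)) : ℕ) = 2 := by
  rw [Fin.coe_ofNat_eq_mod, Nat.mod_eq_of_lt (by omega)]

theorem m1 (h : 5 ≤ n) : 1 % (n + 1) = 1 := Nat.mod_eq_of_lt (by omega)
theorem m2 (h : 5 ≤ n) : 2 % (n + 1) = 2 := Nat.mod_eq_of_lt (by omega)

theorem li_ev {ι : Type} {f : ι → Fin (n + 1)} (hf : Function.Injective f) :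
    LinearIndependent F fun i => (ev (f i) : Vn n F) := by
  have := (Pi.basisFun F (Fin (n + 1))).linearIndependent.comp f hf
  convert this using 2 with i
  simp [ev]

theorem hf_evv (i j : Fin (n + 1)) :
    hf (ev i : Vn n F) (ev j) = if i.val + j.val = n then 1 else 0 := by
  rw [hf_ev]
  refine if_congr ?_ rfl rfl
  rw [Fin.ext_iff, Fin.val_rev]; omega

theorem sep (r : ℕ) (v : Fin r → Vn n F) (hv : LinearIndependent F v) (c : Fin r → F) :
    ∃ y, ∀ i, hf y (v i) = c i := by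
  obtain ⟨φ, hφ⟩ := LinearMap.exists_extend ((Module.Basis.span hv).constr F c)
  refine ⟨((BB n F).toDual BB_nd).symm φ, fun i => ?_⟩
  have h1 := LinearMap.congr_fun hφ (Module.Basis.span hv i)
  rw [Module.Basis.constr_basis, LinearMap.comp_apply, Submodule.subtype_apply,
    Module.Basis.span_apply] at h1
  rw [← h1]
  exact LinearMap.BilinForm.apply_toDual_symm_apply (B := BB n F) (hB := BB_nd) φ (v i)

theorem dual (u x : Vn n F) (hu : u ≠ 0) (h : ∀ y, hf y u = 0 → hf y x = 0) :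
    ∃ a : F, x = a • u := by
  obtain ⟨f, hf1⟩ := exists_hf hu
  refine ⟨hf x f, eq_of_hf fun v => ?_⟩
  obtain ⟨z, a, e⟩ := dec1 hf1 v
  rw [hf_smul_left]
  conv_lhs => rw [e]
  rw [hf_add_right, hf_sr, hf_symm (h z (hf_symm a))]
  ring

variable (n F) in
/-- `W_j` as a submodule -/
def WS (j : ℕ) : Submodule F (Vn n F) where
  carrier := {v | Wk j v}
  add_mem' := fun ha hb i hi => by rw [Pi.add_apply, ha i hi, hb i hi, add_zero]
  zero_mem' := fun _ _ => rfl
  smul_mem' := fun c _ ha i hi => by rw [Pi.smul_apply, ha i hi, smul_zero]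

theorem mem_WS {j : ℕ} {v : Vn n F} : v ∈ WS n F j ↔ Wk j v := Iff.rfl

theorem WS_mono : Monotone (WS n F) := fun _ _ h _ hv i hi => hv i (h.trans hi)

theorem wk_single {a b : Fin (n + 1)} (h : b < a) {j : ℕ} {v : Vn n F} (hv : Wk (j + 1) v) :
    Wk j (v a • ev b : Vn n F) := fun i hi => by
  rw [Pi.smul_apply, ev_apply]
  split_ifs with e
  · rw [hv a (by subst e; exact Nat.succ_le_of_lt (lt_of_le_of_lt hi h)), zero_smul]
  · exact smul_zero _

variable [p : Par n F]

variable (n F) in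
include p in
theorem two_kk : n + 1 = 2 * kk n := by
  obtain ⟨m, hm⟩ := p.odd
  rw [kk]; omega

omit p in
/-- the hyperbolic numbering of the basis -/
noncomputable def eps (n : ℕ) (F : Type) [Field F] [StarRing F] [TrivialStar F] [CharP F 2] [Finite F]
    [Par n F] : Fin (kk n) ⊕ Fin (kk n) ≃ Fin (n + 1) :=
  Equiv.ofBijective (Sum.elim (fun i => ⟨i, by have := two_kk n F; omega⟩)
    fun i => ⟨n - i, by omega⟩) ((Fintype.bijective_iff_injective_and_card _).2 ⟨by
      have := two_kk n F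
      rintro (i | i) (j | j) e <;> simp only [Sum.elim_inl, Sum.elim_inr, Fin.mk.injEq] at e
      · rw [Fin.ext e]
      · omega
      · omega
      · rw [show i = j from Fin.ext (by omega)], by
      have := two_kk n F
      simp only [Fintype.card_sum, Fintype.card_fin]; omega⟩)

theorem eps_inr (i : Fin (kk n)) : eps n F (Sum.inr i) = (eps n F (Sum.inl i)).rev :=
  Fin.ext (by simp [eps, Fin.val_rev])

theorem sum_eps (f : Fin (n + 1) → F) :
    ∑ i : Fin (kk n), f (eps n F (Sum.inl i)) = ∑ i with i.val < kk n, f i := by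
  refine Finset.sum_bij (fun i _ => eps n F (Sum.inl i)) (fun i _ => ?_) (fun i _ j _ e => ?_)
    (fun j hj => ?_) fun _ _ => rfl
  · exact Finset.mem_filter.2 ⟨Finset.mem_univ _, i.2⟩
  · exact Sum.inl_injective ((eps n F).injective e)
  · exact ⟨⟨j, (Finset.mem_filter.1 hj).2⟩, Finset.mem_univ _, rfl⟩

theorem tr : ∃ (φ : XU n F ≃* symplecticGroup (Fin (kk n)) F)
    (A : Vn n F ≃ₗ[F] (Fin (kk n) ⊕ Fin (kk n) → F)), (∀ g v, φ g • A v = A (ac g v)) ∧
      (∀ x y, H54.spB (Fin (kk n)) F (A x) (A y) = hf x y) ∧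
      ∀ σ : RingAut F, ∀ v i, A (fun j => σ (v j)) i = σ (A v i) := by
  have h : ∀ x y : Vn n F, H54.spB (Fin (kk n)) F (LinearEquiv.funCongrLeft F F (eps n F) x)
      (LinearEquiv.funCongrLeft F F (eps n F) y) = BB n F x y := fun x y => by
    rw [BB_apply, hf_split, spB_eq_sum, ← sum_eps, ← sum_eps, ← Finset.sum_add_distrib]
    refine Finset.sum_congr rfl fun i _ => ?_
    simp only [LinearEquiv.funCongrLeft_apply, LinearMap.funLeft_apply, eps_inr, CharTwo.sub_eq_add]
    ring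
  exact ⟨(MulEquiv.ofBijective _ lin_bij).trans (isomEquivSp _ h), _,
    fun g v => isomEquivSp_smul _ h _ v, h, fun _ _ _ => rfl⟩

theorem witt {ι : Type} (v w : ι → Vn n F) (hv : LinearIndependent F v)
    (hw : LinearIndependent F w) (h : ∀ i j, hf (v i) (v j) = hf (w i) (w j)) :
    ∃ g : XU n F, ∀ i, ac g (v i) = w i := by
  obtain ⟨k, hk⟩ := isom_witt BB_nd BB_alt v w hv hw h
  obtain ⟨g, rfl⟩ := lin_bij.2 k
  exact ⟨g, hk⟩

theorem w1 (v : Vn n F) (h0 : v ≠ 0) : ∃ g : XU n F, ac g (ev 0) = v := by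
  obtain ⟨g, hg⟩ := witt (fun _ : Unit => ev 0) (fun _ => v) (linearIndependent_unique_iff.2 (ev_ne 0))
    (linearIndependent_unique_iff.2 h0) fun _ _ => by rw [hf_self, hf_self]
  exact ⟨g, hg ()⟩

theorem w2 (u v : Vn n F) (h : hf u v = 0) (hl : Li u v) :
    ∃ g : XU n F, ac g (ev 0) = u ∧ ac g (ev 1) = v := by
  have := p.five
  have h1 := m1 p.five
  have hf' : Function.Injective ![(0 : Fin (n + 1)), 1] := fun i j e => by
    fin_cases i <;> fin_cases j <;> simp_all [Fin.ext_iff]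
  obtain ⟨g, hg⟩ := witt _ _ (li_ev hf') (li_iff.1 hl) fun i j => by
    fin_cases i <;> fin_cases j <;> simp [hf_evv, h1, hf_self, h, hf_symm h] <;> omega
  exact ⟨g, hg 0, hg 1⟩

theorem w3 (u v w : Vn n F) (h : hf u v = 0) (h' : hf u w = 0) (h'' : hf v w = 0) (hl : Li3 u v w) :
    ∃ g : XU n F, ac g (ev 0) = u ∧ ac g (ev 1) = v ∧ ac g (ev 2) = w := by
  have := p.five
  have hf' : Function.Injective ![(0 : Fin (n + 1)), 1, 2] := fun i j e => by
    fin_cases i <;> fin_cases j <;> simp_all [Fin.ext_iff, m1 this, m2 this]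
  obtain ⟨g, hg⟩ := witt _ _ (li_ev hf') (li3_iff.1 hl) fun i j => by
    fin_cases i <;> fin_cases j <;>
      simp [hf_evv, m1 this, m2 this, hf_self, h, hf_symm h, h', hf_symm h', h'', hf_symm h''] <;> omega
  exact ⟨g, hg 0, hg 1, hg 2⟩

theorem li_of {u v : Vn n F} (h : hf u v = 1) : Li u v := fun a b e => by
  have e1 := congrArg (fun x => hf x v) e
  have e2 := congrArg (fun x => hf u x) e
  simp only [hf_add_left, hf_add_right, hf_smul_left, hf_sr, h, hf_self, hf_zero_left, hf_zero_right,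
    mul_zero, mul_one, zero_add, add_zero] at e1 e2
  exact ⟨e1, e2⟩

theorem wh (u v : Vn n F) (h : hf u v = 1) :
    ∃ g : XU n F, ac g (ev 0) = u ∧ ac g (ev (la n)) = v := by
  have d := du_ev (n := n) (F := F)
  obtain ⟨g, hg⟩ := witt _ _ (li_iff.1 (li_of d.a)) (li_iff.1 (li_of h)) fun i j => by
    fin_cases i <;> fin_cases j <;> simp [hf_self, hf_comm v u, d.a, d.d, h]
  exact ⟨g, hg 0, hg 1⟩

theorem li3_of {u v w : Vn n F} (h : hf u v = 0) (h' : hf u w = 0) (h0 : u ≠ 0) (h1 : hf v w = 1) :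
    Li3 u v w := fun a b c e => by
  have e1 := congrArg (fun x => hf x w) e
  have e2 := congrArg (fun x => hf v x) e
  simp only [hf_add_left, hf_add_right, hf_smul_left, hf_sr, h, hf_symm h, h', h1, hf_self,
    hf_zero_left, hf_zero_right, mul_zero, mul_one, zero_add, add_zero] at e1 e2
  subst e1 e2
  simpa [h0] using e

theorem wh1 (u v w : Vn n F) (h : hf u v = 0) (h' : hf u w = 0) (h0 : u ≠ 0) (hvw : hf v w = 1) :
    ∃ g : XU n F, ac g (ev 0) = u ∧ ac g (ev 1) = v ∧ ac g (ev (1 : Fin (n + 1)).rev) = w := by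
  have := p.five
  have h1 := v1 p.five
  have a1 : hf (ev 0 : Vn n F) (ev 1) = 0 := by rw [hf_evv, if_neg (by simp [m1 this]; omega)]
  have a2 : hf (ev 0 : Vn n F) (ev (Fin.rev 1)) = 0 := by
    rw [hf_evv, if_neg (by simp [m1 this]; omega)]
  have a3 : hf (ev 1 : Vn n F) (ev (Fin.rev 1)) = 1 := by
    rw [hf_evv, if_pos (by rw [Fin.val_rev]; omega)]
  obtain ⟨g, hg⟩ := witt _ _ (li3_iff.1 (li3_of a1 a2 (ev_ne 0) a3))
    (li3_iff.1 (li3_of h h' h0 hvw)) fun i j => by
    fin_cases i <;> fin_cases j <;> simp [hf_self, h, hf_symm h, h', hf_symm h', hvw, hf_comm w v,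
      a1, hf_symm a1, a2, hf_symm a2, a3, hf_comm (ev (Fin.rev 1)) (ev 1 : Vn n F)]
  exact ⟨g, hg 0, hg 1, hg 2⟩

theorem genT (A : Subgroup (XU n F)) (h : ∀ v, TT v ∈ A) : A = ⊤ := by
  have h1 : A.map (lin n F) = ⊤ := isom_eq_top_of_tvV_mem BB_nd BB_alt _ fun v c =>
    ⟨Tc c v, by rw [Tc_eq]; exact h _, Isom_ext fun w => by rw [lin_smul, ac_T, tvV_smul]; rfl⟩
  refine eq_top_iff.2 fun g _ => ?_
  obtain ⟨a, ha, e⟩ : lin n F g ∈ A.map (lin n F) := h1 ▸ trivial
  exact lin_bij.1 e ▸ ha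

theorem genS (A : Subgroup (XU n F)) (h : ∀ y, Hy y → TT y ∈ A) : SS n F ≤ A := fun _ hg =>
  (Subgroup.closure_le A).2 (by rintro _ ⟨y, a, b, rfl⟩; exact h y ⟨a, b⟩) (gen2 du_ev hg.1 hg.2)

theorem genP (A : Subgroup (XU n F)) (h : ∀ v, hf v (ev 0) = 0 → TT v ∈ A) : PP n F ≤ A := by
  refine gen.trans (sup_le ((Subgroup.closure_le A).2 ?_) ((Subgroup.closure_le A).2 ?_))
  · rintro _ ⟨x, c, hx, rfl⟩
    have e : EE (ev 0) x c = qq x (ev 0) * Tc c (ev 0 : Vn n F) := by
      rw [EE_mul (ok hx 0) (ok (hf_zero_left _) c)]; simp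
    rw [e, qq_eq_TT (pp (hf_symm hx)), Tc_eq c]
    exact A.mul_mem (A.mul_mem (A.mul_mem (h _ (by rw [hf_add_left, hf_self, hx, add_zero]))
      (h _ (hf_self _))) (h _ hx)) (h _ (by rw [hf_smul_left, hf_self, mul_zero]))
  · rintro _ ⟨y, a, -, rfl⟩
    exact h y a

theorem ps (g : XU n F) (hg : g ∈ PP n F) : ∃ u ∈ QQ n F, ∃ s ∈ SS n F, g = u * s := by
  have d := du_ev (n := n) (F := F)
  have hg : ac g (ev 0) = ev 0 := hg
  have h1 : hf (ac g (ev (la n)) + ev (la n)) (ev 0) = 0 := hf_move hg _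
  set x := ac g (ev (la n)) + ev (la n) with hx
  have h3 : ac (EE (ev 0) x (hf (ev (la n)) x)) (ev (la n)) = ac g (ev (la n)) := by
    rw [ac_EE (ok h1 _), d.d, mul_one, one_smul, add_right_comm _ x, add_assoc (ev (la n)),
      v_add_self, add_zero, hx, add_left_comm, v_add_self, add_zero]
  refine ⟨EE (ev 0) x (hf (ev (la n)) x), Subgroup.subset_closure ⟨x, _, h1, rfl⟩, _, ⟨?_, ?_⟩,
    (mul_inv_cancel_left _ g).symm⟩
  · exact ac_inj (EE (ev 0) x (hf (ev (la n)) x)) (by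
      rw [ac_mul, ac_ac_inv, hg, ac_EE_self (ok h1 _)])
  · exact ac_inj (EE (ev 0) x (hf (ev (la n)) x)) (by rw [ac_mul, ac_ac_inv, h3])

/-- The root element that moves `e_i` by `e_j`. -/
theorem root {i j : Fin (n + 1)} (h : j < i) : ∃ u ∈ UU n F, ∀ y, (ac u y + y) j = y i := by
  by_cases e : i.rev = j
  · have h1 : ∀ y : Vn n F, ac (TT (ev j)) y + y = y i • ev j := fun y => by
      rw [ac_TT, hf_ev_right, ← e, Fin.rev_rev, add_right_comm, v_add_self, zero_add]
    exact ⟨TT (ev j), Subgroup.subset_closure fun k v hv => h1 v ▸ wk_single h hv,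
      fun y => by rw [h1]; simp [ev_apply]⟩
  · have h0 : hf (ev i.rev : Vn n F) (ev j) = 0 := by rw [hf_ev, Fin.rev_rev, if_neg h.ne]
    have h1 : ∀ y : Vn n F, ac (qq (ev j) (ev i.rev)) y + y = y j.rev • ev i.rev + y i • ev j :=
      fun y => by
        rw [ac_qq (pp h0), hf_ev_right, hf_ev_right, Fin.rev_rev, add_assoc y, add_right_comm,
          v_add_self, zero_add]
    exact ⟨_, Subgroup.subset_closure fun k v hv => h1 v ▸ (WS n F k).add_mem
      (wk_single (Fin.rev_lt_rev.2 h) hv) (wk_single h hv),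
      fun y => by rw [h1]; simp [ev_apply, Ne.symm e]⟩

theorem le_U {P : Subgroup (XU n F)} (hP : IsPGroup 2 P) (hU : UU n F ≤ P) : P ≤ UU n F := by
  have : Fact (Nat.Prime 2) := ⟨Nat.prime_two⟩
  have step : ∀ j, (∀ g ∈ P, ∀ v, Wk j v → Wk j (ac g v)) →
      ∀ g ∈ P, ∀ v, Wk (j + 1) v → Wk j (ac g v + v) := fun j hj g hg w hw => by
    by_cases hn : n < j
    · exact fun i hi => absurd i.2 (by omega)
    let j' : Fin (n + 1) := ⟨j, by omega⟩
    have : Finite (P.map ((Isom (BB n F)).subtype.comp (lin n F))) :=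
      Finite.of_surjective _ (MonoidHom.subgroupMap_surjective _ P)
    obtain ⟨v, -, hv, hf'⟩ := H59.exists_fixed_mod (hP.map ((Isom (BB n F)).subtype.comp (lin n F)))
      (U₁ := WS n F j) (U₂ := ⊤) (by rintro _ ⟨k, hk, rfl⟩ x hx; exact hj k hk x hx)
      (fun _ _ _ _ => trivial) fun h => by
        simpa [ev_apply] using (h (x := ev j') trivial) j' le_rfl
    have h1 : ∀ k ∈ P, Wk j (ac k v + v) := fun k hk => by
      have := hf' _ ⟨k, hk, rfl⟩
      rw [sub_eq_add_neg, neg_eq_of_add_eq_zero_left (v_add_self v)] at this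
      exact this
    have h2 : Wk (j + 1) v := fun i hi => by
      obtain ⟨u, hu, e⟩ := root (F := F) (show j' < i from hi)
      rw [← e v]
      exact h1 u (hU hu) j' le_rfl
    have h3 : v j' ≠ 0 := fun e => hv fun i hi => by
      rcases hi.eq_or_lt with h | h
      · rw [← show j' = i from Fin.ext h, e]
      · exact h2 i h
    have h4 : Wk j (w + (w j' / v j') • v) := fun i hi => by
      rw [Pi.add_apply, Pi.smul_apply, smul_eq_mul]
      rcases hi.eq_or_lt with h | h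
      · rw [← show j' = i from Fin.ext h, div_mul_cancel₀ _ h3, CharTwo.add_self_eq_zero]
      · rw [hw i h, h2 i h, mul_zero, add_zero]
    have h5 : ac g w + w = (w j' / v j') • (ac g v + v) +
        (ac g (w + (w j' / v j') • v) + (w + (w j' / v j') • v)) := by
      rw [ac_add, ac_smul, smul_add]
      ext i
      simp only [Pi.add_apply]
      linear_combination -(((w j' / v j') • ac g v) i + ((w j' / v j') • v) i) * two0 F
    rw [h5]
    exact (WS n F j).add_mem ((WS n F j).smul_mem _ (h1 g hg)) ((WS n F j).add_mem (hj g hg _ h4) h4)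
  have st : ∀ j, ∀ g ∈ P, ∀ v, Wk j v → Wk j (ac g v) := fun j => by
    induction j with
    | zero =>
      intro g _ v hv
      rw [show v = 0 from funext fun i => hv i (Nat.zero_le _), ac_zero]
      exact fun _ _ => rfl
    | succ j ih =>
      intro g hg v hv
      have := (WS n F (j + 1)).add_mem (WS_mono j.le_succ (step j ih g hg v hv)) hv
      rwa [add_assoc, v_add_self, add_zero] at this
  exact fun g hg => Subgroup.subset_closure fun j => step j (st j) g hg

theorem card_X : ∃ o, Odd o ∧ Nat.card (XU n F) = Nat.card F ^ (kk n ^ 2) * o := by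
  obtain ⟨φ, -⟩ := tr (n := n) (F := F)
  refine ⟨_, ?_, by rw [Nat.card_congr φ.toEquiv, card_sp, Fintype.card_fin, spOrder_def]⟩
  have := Fintype.ofFinite F
  obtain ⟨r, -, hr⟩ := FiniteField.card F 2
  refine Finset.prod_induction _ _ (fun _ _ => Odd.mul) odd_one fun i _ => ?_
  refine Nat.Even.sub_odd (Nat.one_le_iff_ne_zero.2 (pow_ne_zero _ Nat.card_pos.ne')) ?_ odd_one
  rw [Nat.card_eq_fintype_card, hr, ← pow_mul]
  exact Nat.even_pow.2 ⟨even_two, mul_ne_zero r.ne_zero (by omega)⟩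

theorem sylU [FV n F] : Syl (UU n F) ⊤ := by
  have : Fact (Nat.Prime 2) := ⟨Nat.prime_two⟩
  obtain ⟨R, hR, hm⟩ := FV.chain (n := n) (F := F) (n + 1) (WS n F) WS_mono
    (eq_bot_iff.2 fun v hv => funext fun i => hv i (Nat.zero_le _))
    (eq_top_iff.2 fun v _ i hi => absurd i.2 (by omega))
  have h1 : IsPGroup 2 (UU n F) := by
    rw [show UU n F = R from Subgroup.ext fun g => (FV.mem_U g).trans (hm g).symm]; exact hR
  obtain ⟨P, hP⟩ := h1.exists_le_sylow
  refine ⟨le_top, h1, ?_⟩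
  rw [Subgroup.relIndex_top_right, le_antisymm hP (le_U P.2 hP)]
  exact Nat.odd_iff.2 (Nat.two_dvd_ne_zero.1 P.not_dvd_index)

theorem cardU [FV n F] : Nat.card (UU n F) = Nat.card F ^ (kk n ^ 2) := by
  have : Fact (Nat.Prime 2) := ⟨Nat.prime_two⟩
  obtain ⟨-, h1, h2⟩ := sylU (n := n) (F := F)
  obtain ⟨o, ho, e⟩ := card_X (n := n) (F := F)
  rw [Subgroup.relIndex_top_right] at h2
  rw [← (UU n F).card_mul_index] at e
  obtain ⟨a, ha⟩ := IsPGroup.iff_card.1 h1
  have := Fintype.ofFinite F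
  obtain ⟨r, -, hr⟩ := FiniteField.card F 2
  rw [Nat.card_eq_fintype_card (α := F), hr, ← pow_mul, ha] at e ⊢
  exact Nat.dvd_antisymm
    (((Nat.coprime_two_left.2 ho).pow_left _).dvd_of_dvd_mul_right ⟨_, e.symm⟩)
    (((Nat.coprime_two_left.2 h2).pow_left _).dvd_of_dvd_mul_right ⟨_, e⟩)

theorem rkc (g g' : XU n F) (h : g * g = 1) (h' : g' * g' = 1) :
    IsConj g g' ↔ rk g = rk g' ∧ (Alt g ↔ Alt g') := by
  obtain ⟨φ, A, h1, h2, -⟩ := tr (n := n) (F := F)
  have e1 : ∀ k : XU n F, Module.finrank F (spMov (φ k)) = rk k := fun k => by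
    have : spMov (φ k) = (LinearMap.range (mt k - 1).mulVecLin).map A.toLinearMap := by
      ext w
      constructor
      · rintro ⟨v, rfl⟩
        obtain ⟨v, rfl⟩ := A.surjective v
        exact ⟨_, ⟨v, rfl⟩, by
          rw [spN_apply, h1, mulVecLin_apply, sub_mulVec, one_mulVec, map_sub]; rfl⟩
      · rintro ⟨_, ⟨v, rfl⟩, rfl⟩
        exact ⟨A v, by rw [spN_apply, h1, mulVecLin_apply, sub_mulVec, one_mulVec, map_sub]; rfl⟩
    rw [this, LinearEquiv.finrank_map_eq]; rfl
  have e2 : ∀ k : XU n F, IsAltType (φ k) ↔ Alt k := fun k =>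
    ⟨fun a v => by rw [hf_comm, ← h2, ← h1]; exact a _, fun a v => by
      obtain ⟨v, rfl⟩ := A.surjective v
      rw [h1, h2, hf_comm]; exact a v⟩
  rw [← e1, ← e1, ← e2, ← e2, ← isConj_iff_of_sq_eq_one (by rw [pow_two, ← map_mul, h, map_one])
    (by rw [pow_two, ← map_mul, h', map_one])]
  exact ⟨φ.toMonoidHom.map_isConj, fun c => by simpa using φ.symm.toMonoidHom.map_isConj c⟩

omit p in
theorem jobFW : JobFW := fun _ _ _ _ _ _ _ _ _ =>
  ⟨tr, fun _ => witt, sep, w1, w2, w3, wh, wh1, dual, genT, genP, genS, ps, sylU, cardU, rkc⟩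

end H54.SPF
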