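import Cfsg.Agent.H85.P6.H67_SPSpec

namespace H89 end H89
open H89
namespace H85.P6

/-! STD-SP (row S3129), slot MV: the Sylow trick; `H67.SP.JobMV`. -/

set_option autoImplicit false
set_option linter.unusedSectionVars false

namespace H89.SP

open H64.SG (O2 Syl Cz Cs Ns Is2 Inv2 IsO2 mem_Cz mem_Cs is2_of_sq isPGroup_iff_is2 syl_iff)
open Subgroup H67.UA H67.SP
open H67.SA (St)
open H59.SO (Ind B1 B0 CE NS exists_ind)

universe u

section Gen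

variable {X : Type} [Group X] {G : Type u} [Group G] {e : X →* G} {t g : G} {u v : X}

theorem same (H : B1 e t) (h1 : g * t * g⁻¹ = t * e u) (h2 : g * e v * g⁻¹ = e u)
    (h : IsConj u v) : Mv e t u := by
  obtain ⟨l, rfl⟩ := isConj_iff.1 h
  refine ⟨g * e l, ?_, ?_⟩
  · calc _ = g * (e l * t * (e l)⁻¹) * g⁻¹ := by group
      _ = _ := by rw [H.conj_t, h1]
  · rw [← mul_inv_eq_iff_eq_mul]
    calc _ = g * e (l * u * l⁻¹) * g⁻¹ := by simp only [map_mul, map_inv, mul_assoc, mul_inv_rev]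
      _ = _ := h2

theorem tt_conj (H : B1 e t) (h1 : g * t * g⁻¹ = t * e u) (l : X) :
    e l * g * t * (e l * g)⁻¹ = t * e (l * u * l⁻¹) := by
  calc _ = e l * (g * t * g⁻¹) * (e l)⁻¹ := by group
    _ = e l * t * (e l)⁻¹ * (e l * e u * (e l)⁻¹) := by rw [h1]; group
    _ = _ := by rw [H.conj_t, map_mul, map_mul, map_inv]

theorem mv_conj (H : B1 e t) (h : Mv e t u) (h' : IsConj u v) : Mv e t v := by
  obtain ⟨l, rfl⟩ := isConj_iff.1 h'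
  obtain ⟨g, h1, h2⟩ := h
  refine same H (tt_conj H h1 l) (v := u) ?_ h'.symm
  calc _ = e l * (g * e u * g⁻¹) * (e l)⁻¹ := by group
    _ = _ := by rw [h2, mul_inv_cancel_right, map_mul, map_mul, map_inv]

theorem fu_conj (H : B1 e t) (h : Fu e t u) (h' : IsConj u v) : Fu e t v := by
  obtain ⟨l, rfl⟩ := isConj_iff.1 h'
  obtain ⟨g, h1⟩ := isConj_iff.1 h
  exact isConj_iff.2 ⟨_, tt_conj H h1 l⟩

/-- `O₂` is transported along an edge. -/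
theorem cjs_O2 (hi : Function.Injective e) {A A' B B' : Subgroup X} (h : IsO2 A B)
    (h' : IsO2 A' B') (k : cjs g (B'.map e) = B.map e) : cjs g (A'.map e) = A.map e := by
  rw [h.eq, h'.eq, H98.map_pCoreOf_of_injective hi, H98.map_pCoreOf_of_injective hi, ← k]
  exact H98.cj_pCoreOf g _

theorem cjs_comm {A A' : Subgroup X} (k : cjs g (A'.map e) = A.map e) :
    cjs g (⁅A', A'⁆.map e) = ⁅A, A⁆.map e := by
  rw [map_commutator, map_commutator, ← k]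
  exact H98.cj_commutator g _ _

theorem mem_of_cjs (hi : Function.Injective e) {A A' : Subgroup X}
    (k : cjs g (A'.map e) = A.map e) (h : g * e v * g⁻¹ = e u) : v ∈ A' ↔ u ∈ A := by
  rw [← H59.SO.mem_map_e hi, ← H59.SO.mem_map_e (A := A) hi, ← k, ← h, H67.SA.conj_mem_cjs]

variable [Finite X] [Finite G]

/-- A Sylow subgroup of `C(t)` over `e U`. -/
theorem exists_S (H : B1 e t) {U : Subgroup X} (hU : Syl U ⊤) : ∃ S, H98.IsSyl 2 S (Cz t) ∧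
    t ∈ S ∧ U.map e ≤ S ∧ S ≤ Ns (U.map e) := by
  have h1 := syl_iff.1 (H59.SO.syl_map (e := e) hU)
  rw [← MonoidHom.range_eq_map] at h1
  obtain ⟨S, s1, s2⟩ := H98.exists_isSyl_le
    (H64.SG.isPGroup_sup_zpowers h1.isPGroup (H.t_mem_Ns U) (is2_of_sq H.inv.1))
    (sup_le ((map_le_range _ _).trans H.range_le) (zpowers_le.2 (mem_Cz.2 rfl)) : _ ≤ Cz t)
  have h2 : S ⊓ e.range = U.map e := h1.eq_of_le (s1.isPGroup.to_le inf_le_left)
    (le_inf (le_sup_left.trans s2) (map_le_range _ _)) inf_le_right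
  exact ⟨S, s1, s2 (mem_sup_right (mem_zpowers t)), le_sup_left.trans s2,
    h2 ▸ H98.le_normalizer_inf le_normalizer (s1.le.trans H.cz)⟩

theorem exists_fix (H : B1 e t) {U A : Subgroup X} {S : Subgroup G} (s1 : H98.IsSyl 2 S (Cz t))
    (s2 : S ≤ Ns (U.map e)) (hA : IsPGroup 2 A) (h0 : A ≠ ⊥) (h : ∀ α ∈ St U, α ∈ St A) :
    ∃ z ∈ A, z ≠ 1 ∧ e z ∈ Cs S := by
  obtain ⟨⟨_, ⟨z, z1, rfl⟩, z2⟩, z3⟩ := ne_bot_iff_exists_ne_one.1 (H98.inf_centralizer_ne_bot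
    (hA.map e) s1.isPGroup (fun s hs => by
      obtain ⟨β, hβ⟩ := exists_ind H.inj (H.cz (s1.le hs))
      exact hβ.mem_Ns_map (h β (hβ.st H.inj (s2 hs))))
    (fun h1 => h0 ((map_eq_bot_iff_of_injective _ H.inj).1 h1)))
  exact ⟨z, z1, fun h1 => z3 (Subtype.ext (by simp [h1])), z2⟩

theorem adjust {S : Subgroup G} (s1 : H98.IsSyl 2 S (Cz t)) (h : Fu e t u) (h1 : e u ∈ Cs S) :
    ∃ g, g * t * g⁻¹ = t * e u ∧ cjs g S = S := by
  obtain ⟨g, hg⟩ := isConj_iff.1 h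
  have h2 : H98.IsSyl 2 (cjs g S) (Cz (t * e u)) := by
    rw [← hg, ← H64.SG.cj_Cz]; exact s1.cj g
  obtain ⟨k, k1, k2⟩ := h2.exists_cj_eq (h2.of_card_ge s1.isPGroup (fun s hs => mem_Cz.2 (by
    rw [mul_assoc, ← h1 s hs, ← mul_assoc, mem_Cz.1 (s1.le hs), mul_assoc]))
    (H67.SA.card_cjs _ _).le)
  refine ⟨k * g, ?_, (H98.cj_cj k g S).symm.trans k2⟩
  rw [show k * g * t * (k * g)⁻¹ = k * (g * t * g⁻¹) * k⁻¹ by group, hg, ← mem_Cz.1 k1,
    mul_inv_cancel_right]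

/-- The other end of the edge. -/
theorem other (H : B0 e t) (ns : NS X) {U Z : Subgroup X} {S : Subgroup G}
    (s1 : H98.IsSyl 2 S (Cz t)) (s2 : t ∈ S) (s3 : U.map e ≤ S)
    (cU : ∀ α : MulAut X, (∀ u ∈ U, α u = u) → ∃ ζ ∈ Z, α = MulAut.conj ζ)
    (nr : ∀ ζ ∈ Z, ζ ≠ 1 → ¬ IsConj t (e ζ)) (hu : u * u = 1) (h1 : g * t * g⁻¹ = t * e u)
    (h2 : cjs g S = S) : ∃ ζ ∈ Z, g * e ζ * g⁻¹ = e u := by
  have h3 : ∀ s ∈ S, g⁻¹ * t * g * s = s * (g⁻¹ * t * g) := fun s hs => by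
    have := mem_Cz.1 (s1.le (h2 ▸ H67.SA.conj_mem_cjs.2 hs : g * s * g⁻¹ ∈ S))
    calc _ = g⁻¹ * (t * (g * s * g⁻¹)) * g := by group
      _ = _ := by rw [this]; group
  have h4 : IsConj t (g⁻¹ * t * g) := isConj_iff.2 ⟨g⁻¹, by rw [inv_inv]⟩
  have h5 := H9.UF.inv2_conj H.inv h4
  obtain ⟨β, hβ⟩ := exists_ind H.inj (H.cz (mem_Cz.2 (h3 t s2).symm))
  obtain ⟨ζ, z1, rfl⟩ := cU β fun a ha => (hβ.comm_iff H.inj).1 (h3 _ (s3 ⟨a, ha, rfl⟩))
  refine ⟨ζ, z1, ?_⟩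
  rcases (H.inner ns (h3 t s2).symm h5.1 hβ).2 with h6 | h6
  · exact absurd (h6 ▸ h4) (nr ζ z1 fun h7 => h5.2 (by rw [h6, h7, map_one]))
  · have h7 : t = t * e u * (g * e ζ * g⁻¹) := by rw [← h1, conj_mul, ← h6]; group
    rw [mul_assoc, left_eq_mul, mul_eq_one_iff_inv_eq, ← map_inv,
      inv_eq_of_mul_eq_one_right hu] at h7
    exact h7.symm

end Gen

variable {n : ℕ} {F : Type} [Field F] [StarRing F] [TrivialStar F] [CharP F 2] [Finite F]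
  [H67.SP.Par n F] [Base n F]

theorem hf10 : hf (ev 1 : Vn n F) (ev 0) = 0 := by
  have := H67.SP.Par.five (n := n) F
  rw [hf_ev, if_neg]
  intro h
  have := congrArg Fin.val h
  rw [Fin.val_rev, Fin.val_one', Nat.mod_eq_of_lt (by omega)] at this
  simp at this
  omega

theorem zu_zero : zu (n := n) (0 : F) 0 = 1 := by simp [zu]

theorem zu_left (a : F) : zu (n := n) a 0 = Tc a (ev 0) := by simp [zu]

theorem zu_right (b : F) : zu (n := n) 0 b = qq (b • ev 1) (ev 0) := by simp [zu]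

theorem mem_ZS {g : XU n F} : g ∈ ZS n F ↔ ∃ b, g = zu 0 b := by
  simp only [zu_right]
  exact FV.mem_Zs _ _ (hf_symm hf10) g

theorem mem_ZL {g : XU n F} : g ∈ ZL n F ↔ ∃ a, g = zu a 0 := by
  simp only [zu_left]
  exact FV.mem_Zl _ g

theorem rt_zu {a b : F} (h : zu (n := n) a b ≠ 1) : Rt (zu (n := n) a b) := by
  by_cases ha : a = 0 <;> by_cases hb : b = 0
  · exact absurd (by rw [ha, hb, zu_zero]) h
  · exact .inr (.inl (ha ▸ (FR.zc a b).2.1 hb))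
  · exact .inl (hb ▸ (FR.zc a b).1 ha)
  · exact .inr (.inr ((FR.zc a b).2.2 ha hb))

theorem rt_inv2 {g : XU n F} (h : Rt g) : Inv2 g := by
  rcases h with h | h | h
  exacts [((FR.rk g).1.1 h).1, ((FR.rk g).2.1.1 h).1, ((FR.rk g).2.2.1 h).1]

theorem not_cr_sr {g : XU n F} (h : Cr g) (h' : Sr g) : False :=
  ((FR.rk g).2.2.1 h).2.2 ((FR.rk g).2.1.1 h').2.2

theorem zu_mem_ZS {a b : F} (hb : b ≠ 0) : zu a b ∈ ZS n F ↔ a = 0 := by
  refine ⟨fun h => by_contra fun ha => ?_, fun h => mem_ZS.2 ⟨b, by rw [h]⟩⟩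
  obtain ⟨c, hc⟩ := mem_ZS.1 h
  have h1 := (FR.zc (n := n) a b).2.2 ha hb
  by_cases c0 : c = 0
  · exact (rt_inv2 (.inr (.inr h1))).2 (by rw [hc, c0, zu_zero])
  · exact not_cr_sr h1 (hc ▸ (FR.zc 0 c).2.1 c0)

theorem comm_Q : ⁅QQ n F, QQ n F⁆ = ⊥ :=
  commutator_eq_bot_iff_le_centralizer.2 (FR.cq (n := n) (F := F) _ (ev_ne 0)).ge

theorem ZS_ne : ZS n F ≠ ⊥ := fun h => (rt_inv2 (.inr (.inl ((FR.zc (n := n) (0 : F) 1).2.1
  one_ne_zero)))).2 (mem_bot.1 (h ▸ mem_ZS.2 ⟨1, rfl⟩))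

theorem ZL_ne : ZL n F ≠ ⊥ := fun h => (rt_inv2 (.inl ((FR.zc (n := n) (1 : F) 0).1
  one_ne_zero))).2 (mem_bot.1 (h ▸ mem_ZL.2 ⟨1, rfl⟩))

theorem zu_sq (a b : F) : zu (n := n) a b * zu a b = 1 := by
  by_cases h : zu (n := n) a b = 1
  · rw [h, one_mul]
  · exact (rt_inv2 (rt_zu h)).1

theorem isP_ZU : IsPGroup 2 ↥(ZL n F ⊔ ZS n F) := isPGroup_iff_is2.2 fun g hg => by
  obtain ⟨a, b, rfl⟩ := (FV.mem_ZU g).1 hg
  exact is2_of_sq (zu_sq a b)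

theorem conj_lr {g h : XU n F} (a : Lr g) (b : Lr h) : IsConj g h :=
  ((FR.lr g).1 a).symm.trans ((FR.lr h).1 b)
theorem conj_sr {g h : XU n F} (a : Sr g) (b : Sr h) : IsConj g h :=
  ((FR.sr g).1 a).symm.trans ((FR.sr h).1 b)
theorem conj_cr {g h : XU n F} (a : Cr g) (b : Cr h) : IsConj g h :=
  ((FR.cr g).1 a).symm.trans ((FR.cr h).1 b)

variable [FC n F] {G : Type u} [Group G] [Finite G] {e : XU n F →* G} {t g : G}

theorem F01 (q : Nat.card F = 2) (a : F) : a = 0 ∨ a = 1 := by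
  by_contra! h
  obtain ⟨b, -, hb⟩ := (Nat.card_eq_two_iff' (0 : F)).1 q
  exact h.2 ((hb a h.1).trans (hb 1 one_ne_zero).symm)

theorem o2_long {a : F} (ha : a ≠ 0) : IsO2 (QQ n F) (Pc (Cz (zu (n := n) a 0))) := by
  rw [zu_left, FR.cz _ a (ev_ne 0) ha]
  exact FC.ob

theorem o2_short (a b : F) (hb : b ≠ 0) :
    ∃ A, IsO2 A (Pc (Cz (zu (n := n) a b))) ∧ ⁅A, A⁆ = ZS n F := by
  obtain rfl := (F01 (FC.two n) b).resolve_left hb
  rcases F01 (FC.two n) a with rfl | rfl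
  · exact ⟨_, by rw [zu_right, one_smul]; exact FC.o2, FC.zq⟩
  · obtain ⟨A, h1, h2, -⟩ := FC.oz (n := n) (F := F)
    exact ⟨A, by rw [zu, one_smul]; exact h1, h2⟩

/-- The two ends of an edge in `Z(U)` have the same class. -/
theorem edge_class (H : B0 e t) {a b a' b' : F} (h0 : zu (n := n) a b ≠ 1)
    (h1 : g * t * g⁻¹ = t * e (zu a b)) (h2 : g * e (zu a' b') * g⁻¹ = e (zu a b)) :
    IsConj (zu (n := n) a b) (zu a' b') := by
  have k := (ab H).edge g _ _ h1 h2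
  have h0' : zu (n := n) a' b' ≠ 1 := fun h => h0 (H.inj (by rw [← h2, h]; simp))
  have ne : ∀ {a : F}, zu (n := n) a 0 ≠ 1 → a ≠ 0 := fun h h' => h (by rw [h', zu_zero])
  by_cases hb : b = 0 <;> by_cases hb' : b' = 0
  · subst hb hb'
    exact conj_lr ((FR.zc a 0).1 (ne h0)) ((FR.zc a' 0).1 (ne h0'))
  · subst hb
    obtain ⟨A, o, z⟩ := o2_short (n := n) a' b' hb'
    have := cjs_comm (cjs_O2 H.inj (o2_long (ne h0)) o k)
    rw [comm_Q, z, Subgroup.map_bot, map_eq_bot_iff_of_injective _ (MulAut.conj g).injective,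
      map_eq_bot_iff_of_injective _ H.inj] at this
    exact absurd this ZS_ne
  · subst hb'
    obtain ⟨A, o, z⟩ := o2_short (n := n) a b hb
    have := cjs_comm (cjs_O2 H.inj o (o2_long (ne h0')) k)
    rw [comm_Q, z, Subgroup.map_bot, cjs, Subgroup.map_bot, eq_comm,
      map_eq_bot_iff_of_injective _ H.inj] at this
    exact absurd this ZS_ne
  · obtain ⟨A, o, z⟩ := o2_short (n := n) a b hb
    obtain ⟨A', o', z'⟩ := o2_short (n := n) a' b' hb'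
    have := cjs_comm (cjs_O2 H.inj o o' k)
    rw [z, z'] at this
    have h3 := mem_of_cjs H.inj this h2
    rw [zu_mem_ZS hb, zu_mem_ZS hb'] at h3
    by_cases ha : a = 0
    · rw [ha, h3.2 ha]
      exact conj_sr ((FR.zc 0 b).2.1 hb) ((FR.zc 0 b').2.1 hb')
    · exact conj_cr ((FR.zc a b).2.2 ha hb) ((FR.zc a' b').2.2 (fun h => ha (h3.1 h)) hb')

theorem mv (H : B0 e t) {z : XU n F} (hz : Rt z) (h : Fu e t z) : Mv e t z := by
  obtain ⟨S, s1, s2, s3, s4⟩ := exists_S H.toB1 (FW.sylU (n := n) (F := F))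
  obtain ⟨_, z1, z2, z3⟩ := exists_fix H.toB1 s1 s4 (isP_ZU.to_le le_sup_left) ZL_ne
    fun α hα => (FR.stU α hα).1
  obtain ⟨_, z4, z5, z6⟩ := exists_fix H.toB1 s1 s4 (isP_ZU.to_le le_sup_right) ZS_ne
    fun α hα => (FR.stU α hα).2
  obtain ⟨a, rfl⟩ := mem_ZL.1 z1
  obtain ⟨b, rfl⟩ := mem_ZS.1 z4
  have ha : a ≠ 0 := fun h => z2 (by rw [h, zu_zero])
  have hb : b ≠ 0 := fun h => z5 (by rw [h, zu_zero])
  obtain ⟨c, d, c1, c2⟩ : ∃ c d : F, IsConj z (zu c d) ∧ e (zu c d) ∈ Cs S := by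
    rcases hz with hz | hz | hz
    · exact ⟨a, 0, conj_lr hz ((FR.zc a 0).1 ha), z3⟩
    · exact ⟨0, b, conj_sr hz ((FR.zc 0 b).2.1 hb), z6⟩
    · refine ⟨a, b, conj_cr hz ((FR.zc a b).2.2 ha hb), ?_⟩
      have := mul_mem z3 z6
      rwa [← map_mul, zu_left, zu_right] at this
  obtain ⟨g, g1, g2⟩ := adjust s1 (fu_conj H.toB1 h c1) c2
  obtain ⟨ζ, k1, k2⟩ := other H FA.ns s1 s2 s3 FC.cU (fun ζ h1 h2 => by
    obtain ⟨a, b, rfl⟩ := (FV.mem_ZU ζ).1 h1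
    exact (ab H).nr _ (rt_zu h2)) (zu_sq c d) g1 g2
  obtain ⟨a', b', rfl⟩ := (FV.mem_ZU ζ).1 k1
  exact mv_conj H.toB1 (same H.toB1 g1 k2 (edge_class H
    (H9.UF.inv2_conj (rt_inv2 hz) c1).2 g1 k2)) c1.symm

theorem jobMV : JobMV.{u} := fun _ _ _ _ _ _ _ _ _ _ _ _ _ _ _ H _ hz h => mv H hz h

end H89.SP
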