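import Cfsg.Agent.H85.P6.H34_SpQE
import Cfsg.Agent.H59.UniP

namespace H34 end H34
open H34
namespace H85.P6

/-! STD-SP (S3129): slot Z1, frames of involutions exist. -/

set_option autoImplicit false
set_option linter.unusedSectionVars false

namespace H34.SpQE

open H64.SG (O2 Syl Cz Cs Ns Is2 Inv2 mem_Cz)
open Matrix Subgroup H67.UA H67.SP
open H67.SA (la)
open H81.SU (rt rt_sq)

variable {n : ℕ} {F : Type} [Field F] [StarRing F] [TrivialStar F] [CharP F 2] [Finite F]

theorem sq_inj {a b : F} (h : a ^ 2 = b ^ 2) : a = b := by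
  have : (a + b) ^ 2 = 0 := by rw [CharTwo.add_sq, h, aa]
  exact CharTwo.add_eq_zero.1 (pow_eq_zero_iff two_ne_zero |>.1 this)

/-- the action on `V` by linear equivalences -/
def rho : XU n F →* (Vn n F ≃ₗ[F] Vn n F) where
  toFun g :=
    { toFun := ac g
      invFun := ac g⁻¹
      map_add' := ac_add g
      map_smul' := ac_smul g
      left_inv := ac_inv_ac g
      right_inv := ac_ac_inv g }
  map_one' := LinearEquiv.ext ac_one
  map_mul' g h := LinearEquiv.ext (ac_mul g h)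

theorem fixed_mod {P : Subgroup (XU n F)} (hP : IsPGroup 2 P) {A B : Submodule F (Vn n F)}
    (hA : ∀ g ∈ P, ∀ v ∈ A, ac g v ∈ A) (hB : ∀ g ∈ P, ∀ v ∈ B, ac g v ∈ B) (h : ¬ B ≤ A) :
    ∃ v ∈ B, v ∉ A ∧ ∀ g ∈ P, ac g v + v ∈ A := by
  have : Finite (P.map rho) := Finite.of_surjective _ (rho.subgroupMap_surjective P)
  obtain ⟨v, h1, h2, h3⟩ := H59.exists_fixed_mod (p := 2) (hP.map rho) (U₁ := A) (U₂ := B)
    (by rintro _ ⟨g, hg, rfl⟩; exact hA g hg) (by rintro _ ⟨g, hg, rfl⟩; exact hB g hg) h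
  refine ⟨v, h1, h2, fun g hg => ?_⟩
  have := h3 _ ⟨g, hg, rfl⟩
  rwa [sub_eq_add_neg, neg_eq_of_add_eq_zero_right (v_add_self v)] at this

/-- every linear functional is `hf · d` -/
theorem exists_dual (ψ : Vn n F →ₗ[F] F) : ∃ d, ∀ v, hf v d = ψ v := by
  refine ⟨fun i => ψ (ev i.rev), fun v => ?_⟩
  rw [LinearMap.pi_apply_eq_sum_univ ψ v]
  refine Finset.sum_congr rfl fun i _ => ?_
  simp only [Fin.rev_rev, star_trivial, smul_eq_mul]
  congr 2
  ext j
  rw [ev_apply]
  exact if_congr eq_comm rfl rfl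

/-- `N = x + 1` -/
def NN (x : XU n F) : Vn n F →ₗ[F] Vn n F := (rho x).toLinearMap + LinearMap.id

theorem NN_apply (x : XU n F) (v : Vn n F) : NN x v = ac x v + v := rfl

theorem rk_eq (x : XU n F) : rk x = Module.finrank F (LinearMap.range (NN x)) := by
  have : (mt x - 1).mulVecLin = NN x := LinearMap.ext fun v => by
    rw [mulVecLin_apply, sub_mulVec, one_mulVec, sub_eq_add_neg,
      neg_eq_of_add_eq_zero_right (v_add_self v)]
    rfl
  rw [rk, Matrix.rank, this]

theorem hf_inv {x : XU n F} (h : x * x = 1) (a b : Vn n F) : hf (ac x a) b = hf a (ac x b) := by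
  rw [hf_ac_left, inv_eq_of_mul_eq_one_right h]

theorem hf_NN {x : XU n F} (h : x * x = 1) (a b : Vn n F) : hf (NN x a) b = hf a (NN x b) := by
  rw [NN_apply, NN_apply, hf_add_left, hf_add_right, hf_inv h]

theorem ac_NN {x g : XU n F} (h : g ∈ Cz x) (a : Vn n F) : ac g (NN x a) = NN x (ac g a) := by
  rw [NN_apply, NN_apply, ac_add, ← ac_mul, ← mem_Cz.1 h, ac_mul]

variable [FV n F]

/-- the diagonal vector -/
theorem exists_diag {x : XU n F} (h : x * x = 1) : ∃ d, (∀ v, hf (ac x v) v = hf v d ^ 2) ∧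
    d ∈ LinearMap.range (NN x) ∧ ∀ g ∈ Cz x, ac g d = d := by
  obtain ⟨d, hd⟩ := exists_dual (n := n) (F := F)
    { toFun := fun v => rt (hf (ac x v) v)
      map_add' := fun v w => sq_inj (by
        rw [CharTwo.add_sq, rt_sq, rt_sq, rt_sq, ac_add, hf_add_left, hf_add_right, hf_add_right,
          hf_inv h w v, hf_comm w (ac x v), add_assoc, ← add_assoc (hf (ac x v) w), aa, zero_add])
      map_smul' := fun a v => sq_inj (by
        rw [RingHom.id_apply, smul_eq_mul, mul_pow, rt_sq, rt_sq, ac_smul, hf_smul_left,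
          hf_smul_right, star_trivial]; ring) }
  have e : ∀ v, hf (ac x v) v = hf v d ^ 2 := fun v => by rw [hd]; exact (rt_sq _).symm
  refine ⟨d, e, ?_, fun g hg => eq_of_hf fun v => sq_inj ?_⟩
  · by_contra hn
    obtain ⟨f, f1, f2⟩ := Submodule.exists_dual_map_eq_bot_of_notMem hn inferInstance
    obtain ⟨v, hv⟩ := exists_dual f
    have n0 : NN x v = 0 := eq_of_hf fun a => by
      rw [hf_zero_left, hf_comm, ← hf_NN h, hv]
      exact (Submodule.mem_bot F).1 (f2 ▸ Submodule.mem_map_of_mem ⟨a, rfl⟩)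
    rw [NN_apply, CharTwo.add_eq_zero] at n0
    have := e v
    rw [n0, hfs, hf_comm, hv] at this
    exact f1 (pow_eq_zero_iff two_ne_zero |>.1 this.symm)
  · rw [hf_ac_left, hf_comm d, hf_comm d, ← e, ← e, ← ac_mul, mem_Cz.1 (inv_mem hg), ac_mul, hf_ac]

theorem z1 [FR n F] : Z1 n F := by
  classical
  intro x hx hr
  have xx := hx.1
  have r3 := FR.r3 x hx hr
  rw [rk_eq] at r3
  obtain ⟨S⟩ : Nonempty (Sylow 2 (Cz x)) := inferInstance
  set P : Subgroup (XU n F) := (S : Subgroup (Cz x)).map (Cz x).subtype with hP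
  have Ple : P ≤ Cz x := map_subtype_le _
  have P2 : IsPGroup 2 P := S.isPGroup'.map _
  have syl : Syl P (Cz x) := ⟨Ple, P2, by
    rw [relIndex, hP, subgroupOf, comap_map_eq_self_of_injective (subtype_injective _)]
    exact Nat.odd_iff.2 (Nat.two_dvd_ne_zero.1 S.not_dvd_index)⟩
  set W := LinearMap.range (NN x) with hW
  have Winv : ∀ g ∈ P, ∀ v ∈ W, ac g v ∈ W := by
    rintro g hg _ ⟨a, rfl⟩
    exact ⟨_, (ac_NN (Ple hg) a).symm⟩
  obtain ⟨p, pW, p0, pf, pd⟩ : ∃ p ∈ W, p ≠ 0 ∧ (∀ g ∈ P, ac g p = p) ∧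
      (Alt x ∨ ∀ v, hf (ac x v) v = hf v p ^ 2) := by
    by_cases al : Alt x
    · obtain ⟨p, h1, h2, h3⟩ := fixed_mod P2 (A := ⊥) (B := W)
        (fun g _ v hv => by rw [(Submodule.mem_bot F).1 hv, ac_zero]; exact zero_mem _) Winv
        (fun h => by rw [le_bot_iff.1 h, finrank_bot] at r3; omega)
      exact ⟨p, h1, h2, fun g hg => CharTwo.add_eq_zero.1 (h3 g hg), .inl al⟩
    · obtain ⟨d, h1, h2, h3⟩ := exists_diag xx
      exact ⟨d, h2, fun h => al fun v => by rw [h1, h, hf_zero_right]; simp,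
        fun g hg => h3 g (Ple hg), .inr h1⟩
  obtain ⟨y0, hy0⟩ := pW
  let lam : Vn n F →ₗ[F] F :=
    { toFun := fun y => hf y p
      map_add' := fun a b => hf_add_left a b p
      map_smul' := fun a b => hf_smul_left a b p }
  let W0 := (LinearMap.ker lam).map (NN x)
  have sp : ∀ g ∈ P, ∀ v ∈ F ∙ p, ac g v ∈ F ∙ p := fun g hg v hv => by
    obtain ⟨a, rfl⟩ := Submodule.mem_span_singleton.1 hv
    rw [ac_smul, pf g hg]; exact hv
  obtain ⟨_, ⟨y, hy, rfl⟩, r1, r2⟩ := fixed_mod P2 (A := F ∙ p) (B := W0) sp (by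
      rintro g hg _ ⟨a, ha, rfl⟩
      refine ⟨ac g a, ?_, (ac_NN (Ple hg) a).symm⟩
      show hf (ac g a) p = 0
      rw [← pf g hg, hf_ac]; exact ha) fun hle => by
    obtain ⟨a0, ha0⟩ : ∃ a0, hf a0 p ≠ 0 := by
      by_contra! h
      exact p0 (eq_of_hf fun v => by rw [hf_comm, h, hf_zero_left])
    have : W ≤ Submodule.span F (({NN x a0, p} : Finset (Vn n F)) : Set (Vn n F)) := by
      rintro _ ⟨a, rfl⟩
      have m : NN x (a + (hf a p / hf a0 p) • a0) ∈ F ∙ p := hle ⟨_, by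
        show hf _ p = 0
        rw [hf_add_left, hf_smul_left, div_mul_cancel₀ _ ha0, aa], rfl⟩
      have e : NN x a = NN x (a + (hf a p / hf a0 p) • a0) + (hf a p / hf a0 p) • NN x a0 := by
        rw [map_add, map_smul, add_assoc, v_add_self, add_zero]
      rw [e]
      exact add_mem (Submodule.span_mono (by simp) m)
        (Submodule.smul_mem _ _ (Submodule.subset_span (by simp)))
    have h1 := (Submodule.finrank_mono this).trans (finrank_span_finset_le_card _)
    have h2 := Finset.card_le_two (a := NN x a0) (b := p)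
    omega
  have yp : hf y p = 0 := hy
  refine ⟨P, p, NN x y, y, syl, ⟨y0, hy0.symm⟩, rfl, fun a b e => ?_, yp, ?_, pd, pf,
    fun g hg => ?_⟩
  · have b0 : b = 0 := by
      by_contra hb
      refine r1 (Submodule.mem_span_singleton.2 ⟨b⁻¹ * a, ?_⟩)
      rw [mul_smul, CharTwo.add_eq_zero.1 e, inv_smul_smul₀ hb]
    rw [b0, zero_smul, add_zero, smul_eq_zero] at e
    exact ⟨e.resolve_right p0, b0⟩
  · rw [NN_apply, hf_add_right, hfs, add_zero, hf_comm]
    exact pd.elim (fun h => h y) fun h => by rw [h, yp]; simp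
  · obtain ⟨c, hc⟩ := Submodule.mem_span_singleton.1 (r2 g hg)
    exact ⟨c, by rw [hc, add_comm (ac g _), ← add_assoc, v_add_self, zero_add]⟩

theorem jobZ1 : JobZ1 := fun _ _ _ _ _ _ _ _ _ => z1

end H34.SpQE
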