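import Cfsg.Agent.H85.P6.H67_SPDef
import Cfsg.Agent.H64.SFSpec
import Cfsg.Agent.H4.SFAB
import Cfsg.Agent.H54.SpInvTwo
import Cfsg.Agent.H21.MultCard

namespace H57 end H57
open H57
namespace H67 end H67
open H67
namespace H85.P6

/-! STD-SP (row S3129), piece 2: the fact slots on `X = Sp_(n+1)(q)` and the head.
Notes: `blueprints/STDSP.md`.  `H = ⟨e₀, e_n⟩^⊥`. -/

set_option autoImplicit false
set_option linter.unusedSectionVars false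

namespace H67.SP

open H64.SG (O2 Syl Cz Cs Ns Is2 Inv2 UF IsO2 fx mem_fx Cov mem_Cz)
open Matrix H57 Subgroup H67.UA
open H67.SA (SLn Au la St cI cm)
open H59.SO (Ind B1 B0 CE CW NS AutOn)
open H64.SF (Bl0)

universe u

export H64.SG (cjs)

/-- `O^{2'}(O²(H))` -/
def Pc {G : Type*} [Group G] (H : Subgroup G) : Subgroup G := closure {g | g ∈ O2 H ∧ Is2 g}

theorem Pc_le_O2 {G : Type*} [Group G] (H : Subgroup G) : Pc H ≤ O2 H :=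
  (closure_le _).2 fun _ h => h.1
theorem Pc_le {G : Type*} [Group G] (H : Subgroup G) : Pc H ≤ H :=
  (Pc_le_O2 H).trans ((closure_le _).2 fun _ h => h.1)
theorem mem_Pc {G : Type*} [Group G] {H : Subgroup G} {g : G} (h : g ∈ O2 H) (h2 : Is2 g) :
    g ∈ Pc H := subset_closure ⟨h, h2⟩
theorem O2_mono' {G : Type*} [Group G] {A B : Subgroup G} (h : A ≤ B) : O2 A ≤ O2 B :=
  (closure_le _).2 fun _ k => Subgroup.subset_closure ⟨h k.1, k.2⟩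
theorem Pc_mono {G : Type*} [Group G] {A B : Subgroup G} (h : A ≤ B) : Pc A ≤ Pc B :=
  (closure_le _).2 fun _ k => mem_Pc (O2_mono' h k.1) k.2
theorem map_O2_le {G G' : Type*} [Group G] [Group G'] (f : G →* G') (A : Subgroup G) :
    (O2 A).map f ≤ O2 (A.map f) := map_le_iff_le_comap.2 ((closure_le _).2 fun a h =>
  subset_closure ⟨⟨a, h.1, rfl⟩, h.2.of_dvd_nat (orderOf_map_dvd f a)⟩)
theorem map_Pc_le' {G G' : Type*} [Group G] [Group G'] (f : G →* G') (A : Subgroup G) :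
    (Pc A).map f ≤ Pc (A.map f) := map_le_iff_le_comap.2 ((closure_le _).2 fun a h =>
  mem_Pc (map_O2_le f A ⟨a, h.1, rfl⟩) (h.2.map f))

/-- The automorphism induced on the quotient by the centre. -/
def qa {Y : Type*} [Group Y] (τ : MulAut Y) : MulAut (Y ⧸ center Y) :=
  QuotientGroup.congr _ _ τ (by
    ext a
    constructor
    · rintro ⟨b, hb, rfl⟩
      exact mem_center_iff.2 fun c => by
        simpa using congrArg τ (mem_center_iff.1 hb (τ.symm c))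
    · exact fun ha => ⟨τ.symm a, mem_center_iff.2 fun c => τ.injective (by
        simpa using mem_center_iff.1 ha (τ c)), τ.apply_symm_apply a⟩)

theorem qa_mk {Y : Type*} [Group Y] (τ : MulAut Y) (y : Y) :
    qa τ (y : Y ⧸ center Y) = (τ y : Y ⧸ center Y) := rfl

section Facts

variable {n : ℕ} {F : Type} [Field F] [StarRing F] [TrivialStar F] [CharP F 2] [Finite F]

/-- the `2`-central classes -/
def Rt (g : XU n F) : Prop := Lr g ∨ Sr g ∨ Cr g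
/-- `y ∈ H` -/
def Hy (y : Vn n F) : Prop := hf y (ev 0) = 0 ∧ hf y (ev (la n)) = 0
/-- the general element of `Z(U)` -/
noncomputable abbrev zu (a b : F) : XU n F := Tc a (ev 0) * qq (b • ev 1) (ev 0)

variable (n F)

/-- the field automorphisms -/
def fs (σ : RingAut F) : MulAut (XU n F) := fa σ fun a => by rw [star_trivial, star_trivial]
/-- the torus element `diag (l, 1, .., 1, l⁻¹)` -/
noncomputable def hT (l : F) : XU n F :=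
  mk (diagonal fun i => if i = 0 then l else if i = la n then l⁻¹ else 1)
/-- the Levi factor `Sp(H)` of `P` -/
abbrev SS : Subgroup (XU n F) := Stab (ev 0) ⊓ Stab (ev (la n))
/-- `O₂(C c₂)` -/
abbrev Qc : Subgroup (XU n F) := QQ n F ⊔ Qk n F 2
/-- its derived group -/
def Qd : Subgroup (XU n F) := closure {g | ∃ y c, Wk (n - 1) y ∧ g = EE (ev 0) y c}

/-- Elements and subgroups in terms of vectors. -/
class FV : Prop where
  iso : ∀ v : Vn n F, Iso v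
  ok : ∀ (u x : Vn n F) (c : F), hf x u = 0 → Ok u x c
  pp : ∀ u v : Vn n F, hf u v = 0 → Pp u v
  q0_add : ∀ x y : Vn n F, q0 (x + y) = q0 x + q0 y + hf x y
  q0_smul : ∀ (a : F) (x : Vn n F), q0 (a • x) = a ^ 2 * q0 x
  q0_W : ∀ x : Vn n F, Wk (kk n) x → q0 x = 0
  q0_ev : ∀ i, q0 (ev i : Vn n F) = 0
  mem_Qv : ∀ (u : Vn n F) g, g ∈ Qv u ↔ ∃ x c, hf x u = 0 ∧ g = EE u x c
  mem_QQ : ∀ g, g ∈ QQ n F ↔ ∃ x c, Hy x ∧ g = EE (ev 0) x c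
  mem_Zl : ∀ (u : Vn n F) g, g ∈ Zl u ↔ ∃ c, g = Tc c u
  mem_Zs : ∀ u v : Vn n F, hf u v = 0 → ∀ g, g ∈ Zs u v ↔ ∃ c : F, g = qq (c • v) u
  mem_ZU : ∀ g, g ∈ ZL n F ⊔ ZS n F ↔ ∃ a b, g = zu a b
  mem_U : ∀ g, g ∈ UU n F ↔ ∀ j v, Wk (j + 1) v → Wk j (ac g v + v)
  mem_M : ∀ j g, g ∈ Mk n F j ↔ ∀ v, Wk j (ac g v + v)
  mem_M2 : ∀ g, g ∈ Mk n F 2 ↔ ∃ a b c, g = zu a b * Tc c (ev 1)
  mem_Qk : ∀ j, 2 * j ≤ n + 1 → ∀ g, g ∈ Qk n F j ↔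
    (∀ v, Wk j v → ac g v = v) ∧ ∀ v, Wk (n + 1 - j) v → Wk j (ac g v + v)
  mem_Qd : ∀ g, g ∈ Qd n F ↔ ∃ y c, Wk (n - 1) y ∧ g = EE (ev 0) y c
  wk_perp : ∀ j, j ≤ n + 1 → ∀ v : Vn n F, Wk (n + 1 - j) v ↔ ∀ w, Wk j w → hf v w = 0
  gen_Q : ∀ j, 2 * j ≤ n + 1 → ∀ A : Subgroup (XU n F),
    (∀ u x c, Wk j u → Wk (n + 1 - j) x → EE u x c ∈ A) → Qk n F j ≤ A
  EE_Q : ∀ j, 2 * j ≤ n + 1 → ∀ u x c, Wk j u → Wk (n + 1 - j) x → EE u x c ∈ Qk n F j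
  Q_one : Qk n F 1 = QQ n F
  diag : ∀ d : Fin (n + 1) → F, (∀ i, d i * d i.rev = 1) →
    ∃ g : XU n F, mt g = diagonal d ∧ Odd (orderOf g) ∧ ∀ v i, ac g v i = d i * v i
  tor : ∀ l : F, l ≠ 0 → Odd (orderOf (hT n F l)) ∧ ac (hT n F l) (ev 0) = l • ev 0 ∧
    ac (hT n F l) (ev (la n)) = l⁻¹ • ev (la n) ∧ ∀ y, Hy y → ac (hT n F l) y = y
  perm : ∀ π : Equiv.Perm (Fin (n + 1)), (∀ i, π i.rev = (π i).rev) →
    ∃ g : XU n F, ∀ i, ac g (ev i) = ev (π i)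
  /-- every isometry has determinant `1` -/
  isom : ∀ M : Matrix (Fin (n + 1)) (Fin (n + 1)) F, (∀ x y, hf (M *ᵥ x) (M *ᵥ y) = hf x y) →
    ∃ g : XU n F, mt g = M
  chain : ∀ (m : ℕ) (W : ℕ → Submodule F (Vn n F)), Monotone W → W 0 = ⊥ → W m = ⊤ →
    ∃ R : Subgroup (XU n F),
    IsPGroup 2 R ∧ ∀ g, g ∈ R ↔ ∀ j, ∀ v ∈ W (j + 1), ac g v + v ∈ W j
  ins : ∃ j, IsIns n F j

/-- Witt's theorem, generation, Mathlib's symplectic group. -/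
class FW : Prop where
  tr : ∃ (φ : XU n F ≃* symplecticGroup (Fin (kk n)) F)
    (A : Vn n F ≃ₗ[F] (Fin (kk n) ⊕ Fin (kk n) → F)), (∀ g v, φ g • A v = A (ac g v)) ∧
      (∀ x y, H54.spB (Fin (kk n)) F (A x) (A y) = hf x y) ∧
      ∀ σ : RingAut F, ∀ v i, A (fun j => σ (v j)) i = σ (A v i)
  witt : ∀ (r : ℕ) (v w : Fin r → Vn n F), LinearIndependent F v → LinearIndependent F w →
    (∀ i j, hf (v i) (v j) = hf (w i) (w j)) → ∃ g : XU n F, ∀ i, ac g (v i) = w i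
  sep : ∀ (r : ℕ) (v : Fin r → Vn n F), LinearIndependent F v → ∀ c : Fin r → F,
    ∃ y, ∀ i, hf y (v i) = c i
  w1 : ∀ v : Vn n F, v ≠ 0 → ∃ g : XU n F, ac g (ev 0) = v
  w2 : ∀ u v : Vn n F, hf u v = 0 → Li u v → ∃ g : XU n F, ac g (ev 0) = u ∧ ac g (ev 1) = v
  w3 : ∀ u v w : Vn n F, hf u v = 0 → hf u w = 0 → hf v w = 0 → Li3 u v w → ∃ g : XU n F,
    ac g (ev 0) = u ∧ ac g (ev 1) = v ∧ ac g (ev 2) = w
  wh : ∀ u v : Vn n F, hf u v = 1 → ∃ g : XU n F, ac g (ev 0) = u ∧ ac g (ev (la n)) = v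
  wh1 : ∀ u v w : Vn n F, hf u v = 0 → hf u w = 0 → u ≠ 0 → hf v w = 1 → ∃ g : XU n F,
    ac g (ev 0) = u ∧ ac g (ev 1) = v ∧ ac g (ev (1 : Fin (n + 1)).rev) = w
  dual : ∀ u x : Vn n F, u ≠ 0 → (∀ y, hf y u = 0 → hf y x = 0) → ∃ a : F, x = a • u
  genT : ∀ A : Subgroup (XU n F), (∀ v, TT v ∈ A) → A = ⊤
  genP : ∀ A : Subgroup (XU n F), (∀ v, hf v (ev 0) = 0 → TT v ∈ A) → PP n F ≤ A
  genS : ∀ A : Subgroup (XU n F), (∀ y, Hy y → TT y ∈ A) → SS n F ≤ A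
  ps : ∀ p ∈ PP n F, ∃ u ∈ QQ n F, ∃ s ∈ SS n F, p = u * s
  sylU : Syl (UU n F) ⊤
  cardU : Nat.card (UU n F) = Nat.card F ^ (kk n ^ 2)
  rkc : ∀ g g' : XU n F, g * g = 1 → g' * g' = 1 → (IsConj g g' ↔ rk g = rk g' ∧ (Alt g ↔ Alt g'))

/-- Automorphisms. -/
class FA : Prop where
  ns : NS (XU n F)
  psp : Nonempty (XU n F ≃* Cfsg.PSp (kk n) F)
  mult : 4 ≤ Nat.card F → H21.multCard (XU n F) = 1
  semi : ∀ α : MulAut (XU n F), ∃ g σ, α = MulAut.conj g * fs n F σ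
  fs_mul : ∀ σ ρ, fs n F (σ * ρ) = fs n F σ * fs n F ρ
  fs_EE : ∀ σ u x c, hf x u = 0 →
    fs n F σ (EE u x c) = EE (fun i => σ (u i)) (fun i => σ (x i)) (σ c)
  fs_ac : ∀ σ g v, ac (fs n F σ g) (fun i => σ (v i)) = fun i => σ (ac g v i)
  out : ∃ o : MulAut (XU n F) →* RingAut F, ∀ g σ, o (MulAut.conj g * fs n F σ) = σ
  a3 : ∀ α : MulAut (XU n F), Is2 α → α ∈ O2 (⊤ : Subgroup (MulAut (XU n F))) →
    ∃ g, α = MulAut.conj g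
  sol : ∀ D : Subgroup (MulAut (XU n F)), D ≤ ⁅D, D⁆ → D ≤ Cfsg.Inn (XU n F)
  lin : ∀ (α : MulAut (XU n F)) (v : Vn n F), v ≠ 0 → (∀ c, α (Tc c v) = Tc c v) →
    ∃ g, α = MulAut.conj g
  two : Nat.card F = 2 → ∀ α : MulAut (XU n F), ∃ g, α = MulAut.conj g
  cls : ∀ (α : MulAut (XU n F)) g, (Lr g → Lr (α g)) ∧ (Sr g → Sr (α g)) ∧ (Cr g → Cr (α g))

/-- Outer involutions. -/
class FO : Prop where
  std : ∀ α : MulAut (XU n F), α * α = 1 → (∀ g, α ≠ MulAut.conj g) → ∃ g σ, σ * σ = 1 ∧ σ ≠ 1 ∧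
    α = MulAut.conj g * fs n F σ * (MulAut.conj g)⁻¹
  a4 : ∀ α : MulAut (XU n F), α * α = 1 → (∀ g, α ≠ MulAut.conj g) → fx α ≤ ⁅fx α, fx α⁆

/-- The `2`-central classes. -/
class FR : Prop where
  cz : ∀ (v : Vn n F) c, v ≠ 0 → c ≠ 0 → Cz (Tc c v) = Stab v
  o2 : ∀ v : Vn n F, v ≠ 0 → IsO2 (Qv v) (Stab v)
  perf : 4 ≤ Nat.card F → ∀ v : Vn n F, v ≠ 0 → Stab v ≤ ⁅Stab v, Stab v⁆
  perfS : 4 ≤ Nat.card F → SS n F ≤ ⁅SS n F, SS n F⁆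
  zP : ∀ v : Vn n F, v ≠ 0 → Cs (Stab v) = Zl v
  cq : ∀ v : Vn n F, v ≠ 0 → Cs (Qv v) = Qv v
  qP : QQ n F ≤ ⁅QQ n F, PP n F⁆
  cE : ∀ p ∈ PP n F, (∀ u ∈ QQ n F, cm p u ∈ ZL n F) → p ∈ QQ n F
  zU : Cs (UU n F) = ZL n F ⊔ ZS n F
  lr : ∀ g : XU n F, Lr g ↔ IsConj (xb n F) g
  sr : ∀ g : XU n F, Sr g ↔ IsConj (xa n F) g
  cr : ∀ g : XU n F, Cr g ↔ IsConj (xc n F) g
  zc : ∀ a b : F, (a ≠ 0 → Lr (zu (n := n) a 0)) ∧ (b ≠ 0 → Sr (zu (n := n) 0 b)) ∧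
    (a ≠ 0 → b ≠ 0 → Cr (zu (n := n) a b))
  rk : ∀ g : XU n F, (Lr g ↔ Inv2 g ∧ rk g = 1) ∧ (Sr g ↔ Inv2 g ∧ rk g = 2 ∧ Alt g) ∧
    (Cr g ↔ Inv2 g ∧ rk g = 2 ∧ ¬ Alt g)
  r3 : ∀ g : XU n F, Inv2 g → ¬ Rt g → 3 ≤ SP.rk g
  stU : ∀ α ∈ St (UU n F), α ∈ St (ZL n F) ∧ α ∈ St (ZS n F)

/-- The classes `a₂`, `c₂`; centralisers in `Aut X` (any `q`). -/
class FC0 : Prop where
  zq : ⁅Qk n F 2, Qk n F 2⁆ = ZS n F
  cq : Cs (Qk n F 2) = Mk n F 2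
  oc : IsO2 (Qc n F) (Cz (xc n F))
  zc : Cs (Cz (xc n F)) ≤ ZL n F ⊔ ZS n F
  cU : ∀ α : MulAut (XU n F), (∀ u ∈ UU n F, α u = u) → ∃ ζ ∈ ZL n F ⊔ ZS n F, α = MulAut.conj ζ
  cQ : ∀ α : MulAut (XU n F), (∀ u ∈ QQ n F, α u = u) → ∃ ζ ∈ QQ n F, α = MulAut.conj ζ
  cQ2 : ∀ α : MulAut (XU n F), (∀ u ∈ Qk n F 2, α u = u) → ∃ ζ ∈ Mk n F 2, α = MulAut.conj ζ

/-- `q = 2`: the groups `Pc (C z)`. -/
structure PCQ : Prop where
  ob : IsO2 (QQ n F) (Pc (PP n F))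
  o2 : IsO2 (Qk n F 2) (Pc (Cz (xa n F)))
  /-- `A = 2^(1+4)` -/
  oz : ∃ A, IsO2 A (Pc (Cz (xc n F))) ∧ ⁅A, A⁆ = ZS n F ∧ A ⊔ Cs A ⊓ Cz (xc n F) = Qk n F 2
  cc : xc n F ∈ ⁅Qc n F, Qc n F⁆

/-- The classes `a₂`, `c₂`; centralisers in `Aut X`; `q = 2`. -/
class FC : Prop where
  two : Nat.card F = 2
  zq : ⁅Qk n F 2, Qk n F 2⁆ = ZS n F
  cq : Cs (Qk n F 2) = Mk n F 2
  oc : IsO2 (Qc n F) (Cz (xc n F))
  zc : Cs (Cz (xc n F)) ≤ ZL n F ⊔ ZS n F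
  cU : ∀ α : MulAut (XU n F), (∀ u ∈ UU n F, α u = u) → ∃ ζ ∈ ZL n F ⊔ ZS n F, α = MulAut.conj ζ
  cQ : ∀ α : MulAut (XU n F), (∀ u ∈ QQ n F, α u = u) → ∃ ζ ∈ QQ n F, α = MulAut.conj ζ
  cQ2 : ∀ α : MulAut (XU n F), (∀ u ∈ Qk n F 2, α u = u) → ∃ ζ ∈ Mk n F 2, α = MulAut.conj ζ
  ob : IsO2 (QQ n F) (Pc (PP n F))
  o2 : IsO2 (Qk n F 2) (Pc (Cz (xa n F)))
  oz : ∃ A, IsO2 A (Pc (Cz (xc n F))) ∧ ⁅A, A⁆ = ZS n F ∧ A ⊔ Cs A ⊓ Cz (xc n F) = Qk n F 2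
  cc : xc n F ∈ ⁅Qc n F, Qc n F⁆

theorem FC.of (h : FC0 n F) (k : PCQ n F) (q : Nat.card F = 2) : FC n F :=
  ⟨q, h.zq, h.cq, h.oc, h.zc, h.cU, h.cQ, h.cQ2, k.ob, k.o2, k.oz, k.cc⟩

theorem FC.to0 (h : FC n F) : FC0 n F := ⟨h.zq, h.cq, h.oc, h.zc, h.cU, h.cQ, h.cQ2⟩

/-- Automorphisms of `Q` and `P`. -/
def QE : Prop := ∀ θ, AutOn (QQ n F) θ →
  (∀ p ∈ PP n F, ∀ u ∈ QQ n F, θ (p * u * p⁻¹) = p * θ u * p⁻¹) →
  ∃ l : F, l ≠ 0 ∧ ∀ u ∈ QQ n F, θ u = hT n F l * u * (hT n F l)⁻¹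

def COC : Prop := ∀ θ, AutOn (PP n F) θ → (∀ u ∈ QQ n F, θ u = u) → ∃ ζ ∈ QQ n F, ∃ κ δ : F,
  ∀ y, Hy y → y ≠ 0 →
    θ (TT y) = ζ * (TT y * EE (ev 0) ((κ * rt (1 + q0 y)) • y) (κ ^ 2 * q0 y + δ)) * ζ⁻¹

/-- The function-theoretic half of `COC`. -/
def CF : Prop := ∀ f : Vn n F → F,
  (∀ y y', Hy y → Hy y' → y ≠ 0 → y' ≠ 0 → f (y' + hf y' y • y) = f y' + hf y' y ^ 2 * f y) →
  ∃ (κ : F) (z : Vn n F), Hy z ∧ ∀ y, Hy y → y ≠ 0 → f y = κ ^ 2 * (1 + q0 y) + hf z y ^ 2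

/-- `q = 2`: the automorphisms of `P / Q` are inner. -/
def FB : Prop := Nat.card F = 2 → ∀ θ, AutOn (PP n F) θ → ∃ p ∈ PP n F, ∀ y ∈ PP n F,
  θ y * (p * y * p⁻¹)⁻¹ ∈ QQ n F

/-- `q = 2`: no affine map of `Qd` moves `1` and respects the classes. -/
structure FM : Prop where
  der : Nat.card F = 2 → ⁅Qc n F, Qc n F⁆ = Qd n F
  mem : xc n F ∈ Qd n F
  m : Nat.card F = 2 → ∀ θ, AutOn (Qd n F) θ → ∀ T : XU n F → Prop, T 1 → (∀ w, Cr w → T w) →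
    (∀ w, Lr w ∨ Sr w → ¬ T w) → ¬ ∀ w ∈ Qd n F, T w ↔ T (xc n F * θ w)

variable {n F}

/-- `W = [V, x]` -/
def Wx (x : XU n F) (w : Vn n F) : Prop := ∃ y, w = ac x y + y

/-- The frame of an involution `x`: `N = x + 1`, `r = N y`, `β (N a) (N b) = hf (N a) b`; `p` is the
diagonal vector of `x` if `x` is not alternating; `p` and `r` modulo `p` are fixed by a Sylow
`2`-subgroup `P` of `C(x)`. -/
structure Fm (x : XU n F) (P : Subgroup (XU n F)) (p r y : Vn n F) : Prop where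
  syl : Syl P (Cz x)
  wp : Wx x p
  wr : r = ac x y + y
  li : Li p r
  yp : hf y p = 0
  yr : hf y r = 0
  dg : Alt x ∨ ∀ v, hf (ac x v) v = hf v p ^ 2
  fp : ∀ g ∈ P, ac g p = p
  fr : ∀ g ∈ P, ∃ c : F, ac g r = r + c • p

variable (n F)

/-- Frames exist. -/
def Z1 : Prop := ∀ x : XU n F, Inv2 x → ¬ Rt x → ∃ P p r y, Fm x P p r y
/-- Translation by `ζ = qq r p` keeps the classes in `C(P)`. -/
def Z2 : Prop := ∀ (x : XU n F) P p r y, Inv2 x → ¬ Rt x → Fm x P p r y →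
  qq r p ∈ Cs P ∧ ∀ z ∈ Cs P, Inv2 z → ¬ Rt z → IsConj z (z * qq r p)
/-- The normal closure of `ζ`. -/
def Z3 : Prop := ∀ (x : XU n F) P p r y, Inv2 x → ¬ Rt x → Fm x P p r y →
  ∃ N : Subgroup (XU n F), qq r p ∈ N ∧ (∀ α : MulAut (XU n F), α x = x → α ∈ St N) ∧
    N ≤ O2 (Cz x) ∧ (∀ a ∈ N, a * a = 1) ∧
    ∀ w ∈ N, w ∈ Cs (Cz x) → w = 1 ∨ IsConj x w ∧ (x * w = 1 ∨ IsConj x (x * w))

/-- What `JB` uses. -/
def JZ : Prop := ∀ x : XU n F, Inv2 x → ¬ Rt x → ∃ N : Subgroup (XU n F),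
  (∀ α : MulAut (XU n F), α x = x → α ∈ St N) ∧ N ≤ O2 (Cz x) ∧ (∀ a ∈ N, a * a = 1) ∧
  (∀ w ∈ N, w ∈ Cs (Cz x) → w = 1 ∨ IsConj x w ∧ (x * w = 1 ∨ IsConj x (x * w))) ∧
  ∃ P, Syl P (Cz x) ∧ ∃ ζ ∈ N, ζ ≠ 1 ∧ ζ ∈ Cs P ∧ ∀ z ∈ Cs P, Inv2 z → ¬ Rt z → IsConj z (z * ζ)

/-- The facts that every later slot may use. -/
class Base : Prop extends FV n F, FW n F, FA n F, FR n F

end Facts

/-- A statement that may use `Base`. -/
def AllB (P : ∀ (_ : ℕ) (F : Type) [Field F] [StarRing F] [TrivialStar F] [CharP F 2] [Finite F],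
    Prop) : Prop :=
  All fun n F _ _ _ _ _ => Base n F → P n F

/-- An ambient statement that may use `Base` and `FC`. -/
def AllA (P : ∀ (n : ℕ) (F : Type) [Field F] [StarRing F] [TrivialStar F] [CharP F 2] [Finite F]
    (G : Type u) [Group G], (XU n F →* G) → G → Prop) : Prop :=
  AllG.{u} fun n F _ _ _ _ _ G _ e t => Base n F → FC n F → P n F G e t

def JobFV : Prop := All fun n F _ _ _ _ _ => FV n F
def JobFW : Prop := All fun n F _ _ _ _ _ => FV n F → FW n F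
def JobFA : Prop := All fun n F _ _ _ _ _ => FV n F → FW n F → FA n F
def JobFR : Prop := All fun n F _ _ _ _ _ => FV n F → FW n F → FA n F → FR n F
def JobFO : Prop := AllB fun n F _ _ _ _ _ => FO n F
def JobPC : Prop := AllB fun n F _ _ _ _ _ => FC0 n F → Nat.card F = 2 → PCQ n F
def JobFC : Prop := AllB fun n F _ _ _ _ _ => FC0 n F
def JobQE : Prop := AllB fun n F _ _ _ _ _ => QE n F
def JobCF : Prop := AllB fun n F _ _ _ _ _ => CF n F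
def JobCOC : Prop := AllB fun n F _ _ _ _ _ => Nat.card F = 2 → CF n F → COC n F
def JobFB : Prop := AllB fun n F _ _ _ _ _ => FB n F
def JobFM : Prop := AllB fun n F _ _ _ _ _ => FM n F
def JobZ1 : Prop := AllB fun n F _ _ _ _ _ => Z1 n F
def JobZ2 : Prop := AllB fun n F _ _ _ _ _ => Z2 n F
def JobZ3 : Prop := AllB fun n F _ _ _ _ _ => Z3 n F

section Amb

variable {n : ℕ} {F : Type} [Field F] [StarRing F] [TrivialStar F] [CharP F 2] [Finite F]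
  {G : Type u} [Group G]

/-- The structure of `C(t)` (proved below: `ab`). -/
structure AB (e : XU n F →* G) (t : G) : Prop where
  ol : ∀ y ∈ O2 (Cz t), Is2 y → y ∈ e.range
  pf : ∀ N ≤ Cz t, N ≤ ⁅N, N⁆ → N ≤ e.range
  nr : ∀ z, Rt z → ¬ IsConj t (e z)
  edge : ∀ g u u', g * t * g⁻¹ = t * e u → g * e u' * g⁻¹ = e u →
    cjs g ((Pc (Cz u')).map e) = (Pc (Cz u)).map e

/-- The `2`-central fusion pattern. -/
def Fz (e : XU n F →* G) (t : G) (z : XU n F) : Prop := Rt z ∧ Fu e t z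

/-- A result of the chapters: the wreath case or a model from the list `P`. -/
def Res (P : ∀ (Y : Type) [Group Y], (XU n F →* Y) → MulAut Y → (XU n F → Prop) → Prop)
    (e : XU n F →* G) (t : G) : Prop :=
  RW e t ∨ ∃ (Y : Type) (_ : Group Y) (ι : XU n F →* Y) (τ : MulAut Y), P Y ι τ (Fz e t) ∧
    ∃ (G₁ : Subgroup G) (c : Cov Y G₁), Bl0 ι τ e t G₁ c

variable [Finite G] {e : XU n F →* G} {t : G}

theorem commutator_le_left' {G : Type*} [Group G] (A : Subgroup G) : ⁅A, A⁆ ≤ A :=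
  commutator_le.2 fun _ ha _ hb => mul_mem (mul_mem (mul_mem ha hb) (inv_mem ha)) (inv_mem hb)

theorem map_Pc_le (e : XU n F →* G) (u : XU n F) : (Pc (Cz u)).map e ≤ Cz (e u) := by
  rintro _ ⟨a, ha, rfl⟩
  rw [mem_Cz, ← map_mul, ← map_mul, mem_Cz.1 (Pc_le _ ha)]

theorem conj_inj [FA n F] {a b : XU n F} (h : MulAut.conj a = MulAut.conj b) : a = b :=
  mul_inv_eq_one.1 (FA.ns.2 _ (by rw [map_mul, map_inv, h, mul_inv_cancel]))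

/-- `Pc (C(t) ∩ C(e u)) = e (Pc (C u))` -/
theorem Pc_inf [FA n F] [FC n F] (h : B0 e t) (u : XU n F) :
    Pc (Cz t ⊓ Cz (e u)) = (Pc (Cz u)).map e := by
  refine le_antisymm ((closure_le _).2 ?_) ((map_Pc_le' e _).trans (Pc_mono ?_))
  · rintro y ⟨y1, y2⟩
    have k : ∀ y ∈ O2 (Cz t ⊓ Cz (e u)), ∃ x ∈ O2 (Cz u), Ind e y (MulAut.conj x) := fun y hy => by
      induction hy using closure_induction with
      | mem d hd =>
        obtain ⟨β, hβ⟩ := H59.SO.exists_ind h.inj (h.cz hd.1.1)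
        obtain ⟨x, rfl⟩ := FA.two (FC.two n) β
        refine ⟨x, subset_closure ⟨mem_Cz.2 ?_, hd.2.of_dvd_nat (orderOf_dvd_of_pow_eq_one
          (conj_inj ?_))⟩, hβ⟩
        · have := (hβ.comm_iff h.inj).1 (mem_Cz.1 hd.1.2).symm
          rw [MulAut.conj_apply, mul_inv_eq_iff_eq_mul] at this
          exact this.symm
        · rw [map_pow, map_one]; exact hβ.pow_eq_one h.inj (pow_orderOf_eq_one d)
      | one => exact ⟨1, one_mem _, by rw [map_one]; exact H59.SO.ind_one⟩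
      | mul a b _ _ ha hb =>
        obtain ⟨x, x1, x2⟩ := ha
        obtain ⟨z, z1, z2⟩ := hb
        exact ⟨_, mul_mem x1 z1, by rw [map_mul]; exact x2.mul z2⟩
      | inv a _ ha =>
        obtain ⟨x, x1, x2⟩ := ha
        exact ⟨_, inv_mem x1, by rw [map_inv]; exact x2.inv⟩
    obtain ⟨x, x1, x2⟩ := k y y1
    obtain ⟨x', rfl⟩ := H4.SFAB.ol0 FA.a3 h (O2_mono' inf_le_left y1) y2
    obtain rfl := conj_inj (x2.unique h.inj (H59.SO.ind_conj x'))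
    exact ⟨x, mem_Pc x1 (y2.imp fun k hk => h.inj (by rw [map_pow, hk, map_one])), rfl⟩
  · rintro _ ⟨a, ha, rfl⟩
    exact ⟨h.mem_Cz a, mem_Cz.2 (by rw [← map_mul, ← map_mul, mem_Cz.1 ha])⟩

/-- The commutator of two elements of a `2`-subgroup of `C(t)` lies in `L`. -/
theorem cm_range [FA n F] [FC n F] (h : B0 e t) {R : Subgroup G} (r1 : R ≤ Cz t)
    (r2 : IsPGroup 2 R) : ⁅R, R⁆ ≤ e.range := by
  have : (e.range.subgroupOf (Cz t)).Normal := normal_subgroupOf_of_le_normalizer h.cz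
  let π := QuotientGroup.mk' (e.range.subgroupOf (Cz t))
  let K : Subgroup (Cz t) := (Cs e.range).subgroupOf (Cz t)
  have hs : Function.Surjective (π.comp K.subtype) := fun a => by
    obtain ⟨a, rfl⟩ := QuotientGroup.mk'_surjective _ a
    obtain ⟨β, hβ⟩ := H59.SO.exists_ind h.inj (h.cz a.2)
    obtain ⟨x, rfl⟩ := FA.two (FC.two n) β
    refine ⟨⟨a * (⟨e x, h.mem_Cz x⟩ : Cz t)⁻¹, H59.SO.ind_conj_iff.1 hβ⟩, ?_⟩
    change π _ = π a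
    rw [Subgroup.subtype_apply, map_mul, map_inv,
      show π ⟨e x, h.mem_Cz x⟩ = 1 from (QuotientGroup.eq_one_iff _).2 ⟨x, rfl⟩, inv_one, mul_one]
  have hR : IsPGroup 2 ((R.subgroupOf (Cz t)).map π) := (r2.comap_of_injective _
    (Cz t).subtype_injective).map π
  obtain ⟨S, hS⟩ := hR.exists_le_sylow
  obtain ⟨T, rfl⟩ := Sylow.mapSurjective_surjective hs 2 S
  have cy : IsCyclic ((T.1.map K.subtype).map (Cz t).subtype) := h.cyc _ (by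
    rintro _ ⟨_, ⟨a, -, rfl⟩, rfl⟩; exact a.2) ((T.2.map _).map _)
  refine commutator_le.2 fun a ha b hb => ?_
  obtain ⟨a', a1, a2⟩ := hS ⟨⟨a, r1 ha⟩, ha, rfl⟩
  obtain ⟨b', b1, b2⟩ := hS ⟨⟨b, r1 hb⟩, hb, rfl⟩
  have c0 := congrArg Subtype.val
    (cy.isMulCommutative.is_comm.comm ⟨_, _, ⟨a', a1, rfl⟩, rfl⟩ ⟨_, _, ⟨b', b1, rfl⟩, rfl⟩)
  have c : a' * b' = b' * a' := Subtype.ext (Subtype.ext c0)
  have k : π ((⟨a, r1 ha⟩ : Cz t) * ⟨b, r1 hb⟩ * (⟨a, r1 ha⟩ : Cz t)⁻¹ * (⟨b, r1 hb⟩ : Cz t)⁻¹) = 1 := by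
    rw [map_mul, map_mul, map_mul, map_inv, map_inv, ← a2, ← b2, ← map_mul, c, map_mul]
    group
  exact mem_subgroupOf.1 ((QuotientGroup.eq_one_iff _).1 k)

theorem ab [Base n F] [FC n F] (h : B0 e t) : AB e t := by
  refine ⟨fun _ => H4.SFAB.ol0 FA.a3 h, fun _ => H4.SFAB.pf0 FA.a3 h, fun z hz c => ?_,
    fun g u u' h1 h2 => ?_⟩
  · have key : ∀ x : XU n F, IsConj x z → (x ∈ Pc (Cz x) ∨ ∃ R ≤ Cz x, IsPGroup 2 R ∧ x ∈ ⁅R, R⁆) →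
        Is2 x → False := fun x hx k x2 => by
      obtain ⟨g, hg⟩ := isConj_iff.1 (c.trans (e.map_isConj hx).symm)
      have h' := h.cje g
      rw [hg] at h'
      have m : (Cz x).map e ≤ Cz (e x) := by
        rintro _ ⟨a, ha, rfl⟩
        rw [mem_Cz, ← map_mul, ← map_mul, mem_Cz.1 ha]
      refine h'.toB1.not_mem FA.ns ?_
      rcases k with k | ⟨R, k1, k2, k3⟩
      · exact H4.SFAB.ol0 FA.a3 h' (O2_mono' m
          (map_O2_le e _ ⟨x, Pc_le_O2 _ k, rfl⟩)) (x2.map e)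
      · exact cm_range h' ((map_mono k1).trans m) (k2.map e)
          (map_commutator _ _ e ▸ mem_map_of_mem e k3)
    have i2 : ∀ x : XU n F, IsConj x z → Is2 x := fun x hx => by
      have : z * z = 1 := by
        rcases hz with k | k | k
        exacts [((FR.rk z).1.1 k).1.1, ((FR.rk z).2.1.1 k).1.1, ((FR.rk z).2.2.1 k).1.1]
      obtain ⟨g, rfl⟩ := isConj_iff.1 hx.symm
      exact H64.SG.is2_of_sq (by rw [conj_mul, this, mul_one, mul_inv_cancel])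
    rcases hz with k | k | k
    · refine key _ ((FR.lr z).1 k) (Or.inl ?_) (i2 _ ((FR.lr z).1 k))
      rw [show Cz (xb n F) = PP n F from FR.cz _ 1 (ev_ne 0) one_ne_zero]
      exact FC.ob.1 ((FV.mem_Qv _ _).2 ⟨0, 1, hf_zero_left _, rfl⟩)
    · refine key _ ((FR.sr z).1 k) (Or.inl (FC.o2.1 ?_)) (i2 _ ((FR.sr z).1 k))
      have k1 : ZS n F ≤ Qk n F 2 := (FC.zq (n := n) (F := F)).ge.trans (commutator_le_left' _)
      exact k1 (subset_closure ⟨1, by rw [one_smul]⟩)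
    · exact key _ ((FR.cr z).1 k) (Or.inr ⟨_, FC.oc.1, FC.oc.2.2.1, FC.cc⟩) (i2 _ ((FR.cr z).1 k))
  · have h' := h.cje g
    have k : Cz (g * t * g⁻¹) ⊓ Cz (e u) = Cz t ⊓ Cz (e u) := Subgroup.ext fun a =>
      and_congr_left fun ha => by
        change a ∈ Cz _ ↔ a ∈ Cz t
        rw [h1, mem_Cz, mem_Cz, mul_assoc, mem_Cz.1 ha, ← mul_assoc, ← mul_assoc, mul_left_inj]
    rw [← H59.SO.map_cje, ← Pc_inf h', ← Pc_inf h, H59.SO.cje_apply, h2, k]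

end Amb

def JobJB : Prop := AllA.{u} fun n F _ _ _ _ _ _ _ e t => FO n F → JZ n F → B0 e t →
  (∃ s, IsConj t s ∧ s ≠ t ∧ s * t = t * s) → ∃ z, Rt z ∧ Fu e t z

def JobMV : Prop := AllA.{u} fun _ _ _ _ _ _ _ _ _ e t => B0 e t → ∀ z, Rt z → Fu e t z → Mv e t z

def JobJC : Prop := AllA.{u} fun n F _ _ _ _ _ _ _ e t => FM n F → B0 e t →
  (Mv e t (xc n F) → Fu e t (xb n F) ∨ Fu e t (xa n F)) ∧
    (Mv e t (xb n F) ∨ Mv e t (xa n F) → CE e t)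

def JobP2a : Prop := AllA.{u} fun n F _ _ _ _ _ _ _ e t => QE n F → COC n F → FB n F → CH e t →
  CB e t → ∃ κ, Tr e t κ

/-- Pass to `N(O) / O` and lift back. -/
def JobH : Prop := JobMV.{u} → AllA.{u} fun n F _ _ _ _ _ _ _ e t =>
  ∀ P : ∀ (Y : Type) [Group Y], (XU n F →* Y) → MulAut Y → (XU n F → Prop) → Prop,
    (∀ (Y : Type) [Group Y] ι τ T, P Y ι τ T → NS Y) →
    (∀ (G' : Type u) [Group G'] [Finite G'] (e' : XU n F →* G') (t' : G'), CH e' t' →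
      CB e' t' ∨ CA e' t' → Res P e' t') → CE e t → CB e t ∨ CA e t → Res P e t

/-- From a homomorphism to a cover of the simple quotient. -/
def JobHB : Prop := ∀ (X Y : Type) [Group X] [Group Y] [Finite Y] (G : Type u) [Group G] [Finite G]
  (ι : X →* Y) (τ : MulAut Y) (e : X →* G) (t : G) (Φ : Y →* G), commutator Y = ⊤ →
  Odd (Nat.card (center Y)) → Hm ι τ e t Φ → ∃ c : Cov (Y ⧸ center Y) Φ.range,
    Bl0 ((QuotientGroup.mk' _).comp ι) (qa τ) e t Φ.range c ∧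
      ∀ y, c.pi (Φ y) = (y : Y ⧸ center Y)

theorem jz (z1 : JobZ1) (z2 : JobZ2) (z3 : JobZ3) : AllB fun n F _ _ _ _ _ => JZ n F := by
  intro n F _ _ _ _ _ _ b x h1 h2
  obtain ⟨P, p, r, y, f⟩ := z1 n F b x h1 h2
  obtain ⟨N, k1, k2, k3, k4, k5⟩ := z3 n F b x P p r y h1 h2 f
  obtain ⟨k6, k7⟩ := z2 n F b x P p r y h1 h2 f
  refine ⟨N, k2, k3, k4, k5, P, f.syl, _, k1, fun h => ?_, k6, k7⟩
  have hp : p ≠ 0 := fun h0 => one_ne_zero (f.li 1 0 (by simp [h0])).1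
  have h3 : hf r p = 0 := by
    obtain ⟨a, ha⟩ := f.wp
    have h4 : x⁻¹ = x := inv_eq_of_mul_eq_one_right h1.1
    rw [f.wr, hf_add_left, f.yp, add_zero, hf_ac_left, h4, ha, ac_add, ← ac_mul, h1.1, ac_one,
      add_comm a, ← ha, f.yp]
  obtain ⟨a, h5, -⟩ := EE_inj hp (FV.ok p 0 0 (by simp)) (FV.ok p r 0 h3)
    ((EE_zero p).trans h.symm)
  exact one_ne_zero (f.li a 1 (by rw [h5]; simp)).2

end H67.SP
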