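import Cfsg.Agent.H85.P6.H67_SPDef
import Cfsg.Agent.H59.SOBasic

namespace H56 end H56
open H56
namespace H58 end H58
open H58
namespace H86 end H86
open H86
namespace H85.P6

/-! STD-SP (row S3129), chapter I: `κ ≠ 0` gives `Ω^±_(2k+2)(q)`.  The model, the facts, the slots.
`W = U ⊕ F w₀ ⊕ F w₁`, `Q_δ (v, a, b) = q₀ v + a² + a b + δ b²`, `X` is the stabiliser of `w₀` in
`Ω(W, Q_δ)`, `t` acts as the reflection in `w₀`.  Notes: `blueprints/STDSP_I.md`. -/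

set_option autoImplicit false
set_option linter.unusedSectionVars false

namespace H86.SPI

open H64.SG (Cz Cs Ns cjs Inv2)
open H67.UA hiding Par
open H67.SP
open H67.SA (la cm)
open H59.SO (Om E gam Ind)
open H56 H58 QuadraticMap

universe u

/-- `W = U ⊕ F w₀ ⊕ F w₁` -/
abbrev WW (n : ℕ) (F : Type) : Type := Vn n F × F × F

section Model

variable (n : ℕ) (F : Type) [Field F] [StarRing F] [TrivialStar F] [CharP F 2] [Finite F]

/-- the bilinear form behind `QD` -/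
def bD (δ : F) : LinearMap.BilinForm F (WW n F) := LinearMap.mk₂ F
  (fun x y => (∑ i with i.val < kk n, x.1 i * y.1 i.rev) + x.2.1 * y.2.1 + x.2.1 * y.2.2 +
    δ * (x.2.2 * y.2.2))
  (fun x x' y => by simp only [Prod.fst_add, Prod.snd_add, Pi.add_apply, add_mul,
    Finset.sum_add_distrib]; ring)
  (fun c x y => by simp only [Prod.smul_fst, Prod.smul_snd, Pi.smul_apply, smul_eq_mul, mul_add,
    Finset.mul_sum, mul_assoc]; ring)
  (fun x y y' => by simp only [Prod.fst_add, Prod.snd_add, Pi.add_apply, mul_add,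
    Finset.sum_add_distrib]; ring)
  (fun c x y => by simp only [Prod.smul_fst, Prod.smul_snd, Pi.smul_apply, smul_eq_mul, mul_add,
    Finset.mul_sum, mul_left_comm c])

/-- `Q_δ` -/
def QD (δ : F) : QuadraticForm F (WW n F) := LinearMap.BilinMap.toQuadraticMap (bD n F δ)

/-- `w₀` -/
def w0 : WW n F := (0, 1, 0)
/-- `w₁` -/
def w1 : WW n F := (0, 0, 1)

variable {n F}

/-- the singular vector of `w₀^⊥` over `v` -/
noncomputable def lf (v : Vn n F) : WW n F := (v, rt (q0 v), 0)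

theorem QD_apply (δ : F) (v : Vn n F) (a b : F) :
    QD n F δ (v, a, b) = q0 v + a ^ 2 + a * b + δ * b ^ 2 := by
  simp only [QD, LinearMap.BilinMap.toQuadraticMap_apply, bD, LinearMap.mk₂_apply, q0, pow_two]

theorem hf_comm (x y : Vn n F) : hf x y = hf y x := by rw [← star_hf, star_trivial]

theorem hf_split [p : Par n F] (x y : Vn n F) : hf x y =
    (∑ i with i.val < kk n, x i * y i.rev) + ∑ i with i.val < kk n, y i * x i.rev := by
  obtain ⟨m, hm⟩ := p.odd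
  rw [hf, ← Finset.sum_filter_add_sum_filter_not Finset.univ fun i : Fin (n + 1) => i.val < kk n]
  simp only [star_trivial]
  congr 1
  have h : ∀ i : Fin (n + 1), ¬ i.val < kk n ↔ i.rev.val < kk n := fun i => by
    have := i.2
    simp only [Fin.val_rev, kk]
    omega
  refine Finset.sum_nbij' Fin.rev Fin.rev (fun i hi => ?_) (fun i hi => ?_) (by simp) (by simp)
    fun i _ => by simp [mul_comm]
  · exact Finset.mem_filter.2 ⟨Finset.mem_univ _, (h i).1 (Finset.mem_filter.1 hi).2⟩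
  · exact Finset.mem_filter.2 ⟨Finset.mem_univ _, (h _).2 (by
      rw [Fin.rev_rev]; exact (Finset.mem_filter.1 hi).2)⟩

theorem polar_QD [Par n F] (δ : F) (x y : WW n F) :
    polar (QD n F δ) x y = hf x.1 y.1 + x.2.1 * y.2.2 + x.2.2 * y.2.1 := by
  rw [QD, LinearMap.BilinMap.polar_toQuadraticMap, hf_split]
  simp only [bD, LinearMap.mk₂_apply]
  linear_combination (x.2.1 * y.2.1 + δ * x.2.2 * y.2.2) * two0 F

theorem q0_add [Par n F] (x y : Vn n F) : q0 (x + y) = q0 x + q0 y + hf x y := by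
  rw [hf_split]
  simp only [q0, Pi.add_apply, add_mul, mul_add, Finset.sum_add_distrib]
  ring

theorem q0_smul (c : F) (x : Vn n F) : q0 (c • x) = c ^ 2 * q0 x := by
  simp only [q0, Pi.smul_apply, smul_eq_mul, Finset.mul_sum]
  exact Finset.sum_congr rfl fun _ _ => by ring

@[simp] theorem q0_zero : q0 (0 : Vn n F) = 0 := by simp [q0]

theorem hf_self [Par n F] (x : Vn n F) : hf x x = 0 := by
  rw [hf_split, CharTwo.add_self_eq_zero]

theorem q0_ev [p : Par n F] (i : Fin (n + 1)) : q0 (ev i : Vn n F) = 0 := by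
  obtain ⟨m, hm⟩ := p.odd
  refine Finset.sum_eq_zero fun j hj => ?_
  simp only [ev_apply, mul_ite, mul_one, mul_zero, ite_eq_right_iff]
  intro h1 h2
  have := congrArg Fin.val (h1.trans h2.symm)
  have := j.2
  simp only [Fin.val_rev] at *
  omega

theorem ok [Par n F] {u x : Vn n F} (h : hf x u = 0) (c : F) : Ok u x c :=
  ⟨hf_self u, h, by rw [hf_self, tr_eq_zero.2 (star_trivial c)]⟩

theorem pp [Par n F] {u x : Vn n F} (h : hf u x = 0) : Pp u x := ⟨hf_self u, hf_self x, h⟩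

theorem rt_zero : rt (0 : F) = 0 := sq_inj (by rw [rt_sq]; simp)

theorem rt_add (a b : F) : rt (a + b) = rt a + rt b :=
  sq_inj (by rw [rt_sq, CharTwo.add_sq, rt_sq, rt_sq])

theorem lf_of {x : Vn n F} (h : q0 x = 0) : lf x = (x, 0, 0) := by rw [lf, h, rt_zero]

theorem QD_lf (δ : F) (v : Vn n F) : QD n F δ (lf v) = 0 := by
  rw [lf, QD_apply, rt_sq]; simp [CharTwo.add_self_eq_zero]

theorem QD_w0 (δ : F) : QD n F δ (w0 n F) = 1 := by simp [w0, QD_apply]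

theorem QD_w1 (δ : F) : QD n F δ (w1 n F) = δ := by simp [w1, QD_apply]

variable (n F)

/-- `j` is the embedding of `X` as the stabiliser of `w₀`. -/
def IsIo (δ : F) (j : XU n F →* Om (QD n F δ)) : Prop :=
  ∀ g, (j g).1 (w0 n F) = w0 n F ∧ ∀ v, ((j g).1 (v, 0, 0)).1 = ac g v

/-- `X ≤ Ω(W, Q_δ)` (fact `MI.isIo`) -/
noncomputable def iO (δ : F) : XU n F →* Om (QD n F δ) :=
  open Classical in if h : ∃ j, IsIo n F δ j then h.choose else 1

/-- conjugation by the reflection in `w₀` -/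
noncomputable def tO (δ : F) : MulAut (Om (QD n F δ)) :=
  gam (QD n F δ) (Gam.ofO _ (refl (QD n F δ) (w0 n F)))

/-- `X₀ = Ω(U, q₀)`, the stabiliser of `w₁` -/
noncomputable def X0 : Subgroup (XU n F) :=
  (MulAction.stabilizer (O (QD n F 0)) (w1 n F)).comap ((EG (QD n F 0)).subtype.comp (iO n F 0))

variable {n F}

theorem mem_X0 {g : XU n F} : g ∈ X0 n F ↔ (iO n F 0 g).1 (w1 n F) = w1 n F := Iff.rfl

/-- `E(x, w₁)` -/
noncomputable abbrev Ew (δ : F) (x : Vn n F) : Om (QD n F δ) := E (QD n F δ) (lf x) (w1 n F)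

/-- conjugation by `E(x, w₁)` on the stabiliser of `x` (`q₀ x = 0`) -/
noncomputable def th (x : Vn n F) (p : XU n F) : XU n F :=
  Function.invFun (iO n F 0) (Ew 0 x * iO n F 0 p * Ew 0 x)

/-- `x`, `x'` span a totally singular line of `(U, q₀)`. -/
structure Ts (x x' : Vn n F) : Prop where
  l : q0 x = 0
  r : q0 x' = 0
  p : hf x x' = 0
  li : Li x x'

/-- `x'`, `f` is a hyperbolic pair of `(U, q₀)` orthogonal to the singular vector `x`. -/
structure Tri (x x' f : Vn n F) : Prop extends Ts x x' where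
  s : q0 f = 0
  xf : hf x f = 0
  one : hf x' f = 1

variable (n F)

/-- The embedding exists. -/
structure MI1 : Prop where
  par : ∀ δ, H59.SO.Par0 (QD n F δ)
  simple : ∀ δ, IsSimpleGroup (Om (QD n F δ))
  isIo : ∀ δ, IsIo n F δ (iO n F δ)
  inj : ∀ δ, Function.Injective (iO n F δ)
  rng : ∀ δ (y : Om (QD n F δ)), y.1 (w0 n F) = w0 n F → ∃ g, iO n F δ g = y

/-- The embedding. -/
structure MI : Prop extends MI1 n F where
  lf : ∀ δ g v, (iO n F δ g).1 (lf v) = lf (ac g v)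
  ee : ∀ δ u x a, hf x u = 0 → iO n F δ (EE u x (q0 x + a ^ 2)) = E (QD n F δ) (SPI.lf u) (x, a, 0)
  ind : ∀ δ g w, (iO n F δ g).1 w = (iO n F 0 g).1 w
  ti : ∀ δ g, tO n F δ (iO n F δ g) = iO n F δ g
  tw : ∀ δ x, q0 x = 0 → tO n F δ (Ew δ x) = Ew δ x * iO n F δ (TT x)

/-- The maps `th x`. -/
structure MT : Prop where
  io : ∀ δ (x : Vn n F) p, q0 x = 0 → ac p x = x →
    iO n F δ (th x p) = Ew δ x * iO n F δ p * Ew δ x
  mul : ∀ (x : Vn n F) p p', q0 x = 0 → ac p x = x → ac p' x = x → th x (p * p') = th x p * th x p'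
  zero : ∀ p : XU n F, th 0 p = p
  fix : ∀ (x x' : Vn n F) p, q0 x = 0 → hf x x' = 0 → ac p x = x → ac p x' = x' →
    ac (th x p) x' = x'
  add : ∀ (x x' : Vn n F) p, q0 x = 0 → q0 x' = 0 → hf x x' = 0 → ac p x = x → ac p x' = x' →
    th x (th x' p) = th (x + x') p
  x0 : ∀ (x : Vn n F), ∀ p ∈ X0 n F, q0 x = 0 → ac p x = x → th x p = p
  ee : ∀ (x v : Vn n F) c, q0 x = 0 → hf v x = 0 → th x (EE x v c) = EE x v c
  tt : ∀ x y : Vn n F, q0 x = 0 → hf y x = 0 →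
    th x (TT y) = TT y * EE x (rt (1 + q0 y) • y) (q0 y)
  conj : ∀ (x : Vn n F) p, ∀ g ∈ X0 n F, q0 x = 0 → ac p x = x →
    th (ac g x) (g * p * g⁻¹) = g * th x p * g⁻¹

/-- Witt's theorem in `X₀` and in `X`; vectors of `W`. -/
structure MW : Prop where
  q : ∀ g ∈ X0 n F, ∀ v, q0 (ac g v) = q0 v
  ee : ∀ x v : Vn n F, q0 x = 0 → hf v x = 0 → EE x v (q0 v) ∈ X0 n F
  ex1 : ∀ x : Vn n F, q0 x = 0 → x ≠ 0 → ∃ x', Ts x x'
  ex2 : ∀ x x' : Vn n F, Ts x x' → ∃ f, Tri x x' f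
  wt1 : ∀ x z : Vn n F, q0 x = 0 → x ≠ 0 → q0 z = 0 → z ≠ 0 → ∃ g ∈ X0 n F, ac g x = z
  wt2 : ∀ x x' z z' : Vn n F, Ts x x' → Ts z z' → ∃ g ∈ X0 n F, ac g x = z ∧ ac g x' = z'
  wt3 : ∀ x x' f z z' f' : Vn n F, Tri x x' f → Tri z z' f' →
    ∃ g ∈ X0 n F, ac g x = z ∧ ac g x' = z' ∧ ac g f = f'
  /-- two orthogonal vectors can be moved to singular vectors -/
  sp : ∀ u v : Vn n F, hf u v = 0 → ∃ g : XU n F, q0 (ac g u) = 0 ∧ q0 (ac g v) = 0
  perp : ∀ (δ : F) (a b c : WW n F), ∃ w, QD n F δ w = 1 ∧ polar (QD n F δ) w (w0 n F) = 0 ∧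
    polar (QD n F δ) w a = 0 ∧ polar (QD n F δ) w b = 0 ∧ polar (QD n F δ) w c = 0

/-- Automorphisms of `X`; generation of `P`. -/
structure FC : Prop where
  c1 : ∀ (β : MulAut (XU n F)) (x : Vn n F), x ≠ 0 → (∀ p, ac p x = x → β p = p) →
    ∃ a : F, β = MulAut.conj (TT (a • x))
  c2 : ∀ (β : MulAut (XU n F)) (x x' : Vn n F), hf x x' = 0 → Li x x' →
    (∀ p, ac p x = x → ac p x' = x' → β p = p) →
    ∃ a b c : F, β = MulAut.conj (TT (a • x + b • x') * qq (c • x') x)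
  lr : ∀ (β : MulAut (XU n F)) g, Lr g → Lr (β g)
  ncr : ∀ x x' : Vn n F, hf x x' = 0 → Li x x' → ¬ Lr (TT x' * qq x' x)
  gen : PP n F ≤ QQ n F ⊔ Subgroup.closure
    {g | ∃ y, hf y (ev 0) = 0 ∧ hf y (ev (la n)) = 0 ∧ g = TT y}
  /-- unique factorisation in `M₂` -/
  uq : ∀ x x' : Vn n F, hf x x' = 0 → Li x x' → ∀ a b c a' b' c' : F,
    TT (a • x + b • x') * qq (c • x') x = TT (a' • x + b' • x') * qq (c' • x') x →
      a = a' ∧ b = b' ∧ c = c'

/-- The model is one of the two groups of the statement. -/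
def MO : Prop := ∀ δ : F, [Fintype F] →
  Nonempty (Om (QD n F δ) ≃* Cfsg.POmega F (Cfsg.quadFormPlus (kk n + 1) F)) ∨
    ∃ a b : F, (∀ z₁ z₂ : F, z₁ ^ 2 + a * z₁ * z₂ + b * z₂ ^ 2 = 0 → z₁ = 0 ∧ z₂ = 0) ∧
      Nonempty (Om (QD n F δ) ≃* Cfsg.POmega F (Cfsg.quadFormMinus (kk n) F a b))

end Model

section Amb

variable {n : ℕ} {F : Type} [Field F] [StarRing F] [TrivialStar F] [CharP F 2] [Finite F]
  {G : Type u} [Group G] (e : XU n F →* G) (t : G)

/-- `Ω^±_(2k+2)(q)` -/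
def RO : Prop := ∃ (δ : F) (Φ : Om (QD n F δ) →* G), Hm (iO n F δ) (tO n F δ) e t Φ

/-- What is used about `C(t)`. -/
structure AV : Prop where
  inj : Function.Injective e
  tt : t * t = 1
  cen : ∀ g, t * e g = e g * t
  ne : ∀ g, t ≠ e g
  v1 : ∀ g (x : Vn n F), g * t = t * g → x ≠ 0 → (∀ p, ac p x = x → g * e p = e p * g) →
    ∃ a : F, g = e (TT (a • x)) ∨ g = t * e (TT (a • x))
  v2 : ∀ g (x x' : Vn n F), g * t = t * g → hf x x' = 0 → Li x x' →
    (∀ p, ac p x = x → ac p x' = x' → g * e p = e p * g) → ∃ a b c : F,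
      g = e (TT (a • x + b • x') * qq (c • x') x) ∨ g = t * e (TT (a • x + b • x') * qq (c • x') x)
  lr : ∀ g u, g * t = t * g → Lr u → ∃ u', Lr u' ∧ g * e u * g⁻¹ = e u'

/-- `y x` stands for `E(x, w₁)`. -/
structure Fam (k : F) (y : Vn n F → G) : Prop where
  zero : y 0 = 1
  eqv : ∀ g ∈ X0 n F, ∀ x, q0 x = 0 → e g * y x * (e g)⁻¹ = y (ac g x)
  act : ∀ x p, q0 x = 0 → ac p x = x → y x * e p * (y x)⁻¹ = e (th x p)
  tr : ∀ x, q0 x = 0 → y x * t * (y x)⁻¹ = t * e (TT (k • x))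

/-- Squares and commutators, first form. -/
def Rho (y : Vn n F → G) (ρ : F) : Prop :=
  (∀ x, q0 x = 0 → y x * y x = e (TT (ρ • x))) ∧ ∀ x x', Ts x x' → ∃ c : F,
    y x' * y x * (y x')⁻¹ = y x * e (TT (ρ • (x + x')) * qq (c • x') x)

/-- The `y x` are involutions that commute modulo the short root subgroups. -/
structure Fam2 (k : F) (y : Vn n F → G) : Prop extends Fam e t k y where
  sq : ∀ x, q0 x = 0 → y x * y x = 1
  com : ∀ x x', Ts x x' → ∃ c : F, y x' * y x = y x * y x' * e (qq (c • x') x)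

/-- The triangle relations. -/
structure Fam3 (δ : F) (y : Vn n F → G) : Prop extends Fam e t 1 y where
  tri : ∀ x x', q0 x = 0 → q0 x' = 0 → hf x x' = 0 → y x * y x' = y (x + x') * e (qq (δ • x') x)

/-- The defect of additivity. -/
def dd (y : Vn n F → G) (x x' : Vn n F) : G := y (x + x') * y x * y x'

/-- The defect centralises the stabiliser of `x`, `x'` and translates `t`. -/
def DD (k : F) (y : Vn n F → G) : Prop := ∀ x x', q0 x = 0 → q0 x' = 0 → hf x x' = 0 →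
  (∀ p, ac p x = x → ac p x' = x' → dd y x x' * e p = e p * dd y x x') ∧
    dd y x x' * t * (dd y x x')⁻¹ = t * e (qq ((k + k ^ 2) • x') x)

/-- The defect centralises `Q_x` modulo the short root subgroup. -/
def DQ (y : Vn n F → G) : Prop := ∀ x x' f, Tri x x' f → ∀ s : F, ∃ ν : F,
  dd y x x' * e (qq (s • f) x) * (dd y x x')⁻¹ = e (qq (s • f) x * qq (ν • x') x)

end Amb

def JobM1 : Prop := All fun n F _ _ _ _ _ => MI1 n F
def JobMI : Prop := All fun n F _ _ _ _ _ => MI1 n F → MI n F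
def JobMT : Prop := All fun n F _ _ _ _ _ => MI n F → MT n F
def JobMW : Prop := All fun n F _ _ _ _ _ => MI n F → MW n F
def JobFC : Prop := All fun n F _ _ _ _ _ => FC n F
def JobMO : Prop := All fun n F _ _ _ _ _ => MI1 n F → MO n F

/-- An ambient statement that may use all the facts. -/
def AllI (P : ∀ (n : ℕ) (F : Type) [Field F] [StarRing F] [TrivialStar F] [CharP F 2] [Finite F]
    (G : Type u) [Group G], (XU n F →* G) → G → Prop) : Prop :=
  AllG.{u} fun n F _ _ _ _ _ G _ e t => MI n F → MT n F → MW n F → FC n F → P n F G e t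

def JobA0 : Prop := AllI.{u} fun _ _ _ _ _ _ _ _ _ e t => CH e t → AV e t
def JobA1 : Prop := AllI.{u} fun _ _ _ _ _ _ _ _ _ e t => AV e t → ∀ κ, κ ≠ 0 → Tr e t κ →
  ∃ y, Fam e t κ⁻¹ y
def JobA2 : Prop := AllI.{u} fun _ _ _ _ _ _ _ _ _ e t => AV e t → ∀ k y, k ≠ 0 → Fam e t k y →
  DD e t k y → ∃ ρ, Rho e y ρ
def JobA3 : Prop := AllI.{u} fun _ _ _ _ _ _ _ _ _ e t => AV e t → ∀ k y ρ, k ≠ 0 → Fam e t k y →
  DD e t k y → Rho e y ρ → ρ = 0 ∨ ρ = k
def JobDD : Prop := AllI.{u} fun _ _ _ _ _ _ _ _ _ e t => AV e t → ∀ k y, Fam e t k y → DD e t k y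
def JobDQ : Prop := AllI.{u} fun _ _ _ _ _ _ _ _ _ e t => AV e t → ∀ k y, k ≠ 0 → Fam2 e t k y →
  DD e t k y → DQ e y
def JobK1 : Prop := AllI.{u} fun _ _ _ _ _ _ _ _ _ e t => AV e t → ∀ k y, k ≠ 0 → Fam2 e t k y →
  DD e t k y → DQ e y → k = 1
def JobA5 : Prop := AllI.{u} fun _ _ _ _ _ _ _ _ _ e t => AV e t → ∀ y, Fam2 e t 1 y →
  DD e t 1 y → ∃ δ, Fam3 e t δ y

/-- Tits' lemma for a graph of diameter two whose triangles lift. -/
def JobR0 : Prop := ∀ (Γ : Type u) [Group Γ] (Ω : Type) [MulAction Γ Ω] (R : Ω → Ω → Prop) (o : Ω)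
  (H : Subgroup Γ) (D : Set Γ), (∀ a b, R a b → R b a) → (∀ (g : Γ) a b, R a b → R (g • a) (g • b)) →
  (∀ a b c, ∃ w, R w o ∧ R w a ∧ R w b ∧ R w c) → (∀ h ∈ H, h • o = o) → (∀ h ∈ H, h ∈ D) →
  (∀ d ∈ D, ∀ h ∈ H, d * h ∈ D) → (∀ d ∈ D, d⁻¹ ∈ D) → (∀ d ∈ D, R (d • o) o) →
  (∀ w, R w o → ∃ d ∈ D, d • o = w) → (∀ d ∈ D, ∀ d' ∈ D, d • o = d' • o → d⁻¹ * d' ∈ H) →
  (∀ d ∈ D, ∀ d' ∈ D, R (d • o) (d' • o) → d⁻¹ * d' ∈ D) →
  (∀ g ∈ Subgroup.closure D, g • o = o → g ∈ H) ∧ ∀ w, ∃ g ∈ Subgroup.closure D, g • o = w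

def JobR1 : Prop := JobR0.{u} → AllI.{u} fun _ _ _ _ _ _ _ _ _ e t => AV e t → ∀ δ y, Fam3 e t δ y → RO e t

/-- Chapter I. -/
def JobI : Prop := AllG.{u} fun _ _ _ _ _ _ _ _ _ e t => CH e t → ∀ κ, κ ≠ 0 → Tr e t κ → RO e t

end H86.SPI
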