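import Cfsg.Agent.H85.P6.H86_SPIKit
import Cfsg.Agent.H59.SOFrame

namespace H56 end H56
open H56
namespace H58 end H58
open H58
namespace H96 end H96
open H96
namespace H85.P6

/-! STD-SP chapter I (row S3129): the facts `MI` (API of the embedding `X ≤ Ω(W, Q_δ)`) and `MT`
(the maps `th x`). -/

set_option autoImplicit false
set_option linter.unusedSectionVars false

namespace H96.SPM

open H64.SG (Cz Cs Ns cjs Inv2)
open H67.UA hiding Par
open H67.SP
open H67.SA (la cm)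
open H59.SO (Om E gam Ind)
open H56 H58 QuadraticMap
open H86.SPI

variable {n : ℕ} {F : Type} [Field F] [StarRing F] [TrivialStar F] [CharP F 2] [Finite F] [Par n F]

theorem polar_w0 (δ : F) (z : WW n F) : polar (QD n F δ) (w0 n F) z = z.2.2 := by
  rw [polar_QD]; simp [w0]

theorem polar_w0' (δ : F) (z : WW n F) : polar (QD n F δ) z (w0 n F) = z.2.2 := by
  rw [polar_comm, polar_w0]

theorem polar_w1 (δ : F) (z : WW n F) : polar (QD n F δ) (w1 n F) z = z.2.1 := by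
  rw [polar_QD]; simp [w1]

theorem polar_lf (δ : F) (x : Vn n F) (z : WW n F) :
    polar (QD n F δ) (lf x) z = hf x z.1 + rt (q0 x) * z.2.2 := by
  rw [polar_QD]; simp [lf]

theorem polar_ind (δ : F) (y z : WW n F) : polar (QD n F δ) y z = polar (QD n F 0) y z := by
  rw [polar_QD, polar_QD]

theorem QD_eq (δ : F) (z : WW n F) : QD n F δ z = QD n F 0 z + δ * z.2.2 ^ 2 := by
  obtain ⟨v, a, b⟩ := z
  rw [QD_apply, QD_apply]; ring

theorem lf_eq (v : Vn n F) : lf v = ((v, 0, 0) : WW n F) + rt (q0 v) • w0 n F := by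
  simp [lf, w0]

theorem eq_lf {δ : F} {z : WW n F} (h : z.2.2 = 0) (hq : QD n F δ z = 0) : z = lf z.1 := by
  obtain ⟨v, a, b⟩ := z
  obtain rfl : b = 0 := h
  rw [QD_apply] at hq
  have : a = rt (q0 v) := sq_inj (by rw [rt_sq]; linear_combination hq - q0 v * two0 F)
  rw [this]; rfl

theorem snd_fix {δ : F} {k : O (QD n F δ)} (h : k (w0 n F) = w0 n F) (z : WW n F) :
    (k z).2.2 = z.2.2 := by
  rw [← polar_w0 δ, ← polar_w0 δ z]
  conv_lhs => rw [← h]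
  exact k.map_polar _ _

theorem uniq (h : MI1 n F) {δ : F} (y : Om (QD n F δ)) (g : XU n F) (h0 : y.1 (w0 n F) = w0 n F)
    (h1 : ∀ v, (y.1 (v, 0, 0)).1 = ac g v) : iO n F δ g = y := by
  obtain ⟨g', rfl⟩ := h.rng δ y h0
  exact congrArg _ (ac_ext fun v => (h1 v).symm.trans ((h.isIo δ g').2 v))

theorem mi_lf (h : MI1 n F) (δ : F) (g : XU n F) (v : Vn n F) :
    (iO n F δ g).1 (lf v) = lf (ac g v) := by
  have h0 := (h.isIo δ g).1
  have h1 : ((iO n F δ g).1 (lf v)).1 = ac g v := by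
    rw [lf_eq, map_add, map_smul, h0, Prod.fst_add, (h.isIo δ g).2]
    simp [w0]
  rw [← h1]
  exact eq_lf (δ := δ) (snd_fix h0 _) (by rw [O.map_Q, QD_lf])

theorem mi_ee (h : MI1 n F) (δ : F) (u x : Vn n F) (a : F) (hx : hf x u = 0) :
    iO n F δ (EE u x (q0 x + a ^ 2)) = E (QD n F δ) (lf u) (x, a, 0) := by
  refine uniq h _ _ (H59.SO.E_fix (polar_w0' δ _) (polar_w0' δ _)) fun v => ?_
  rw [H59.SO.E_apply (QD_lf δ u) (by rw [polar_lf, hf_comm, hx]; simp), ac_EE (ok hx _), polar_lf,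
    polar_QD, QD_apply]
  simp [lf, hf_comm v]

theorem mi_ind (h : MI1 n F) (δ : F) (g : XU n F) (w : WW n F) :
    (iO n F δ g).1 w = (iO n F 0 g).1 w := by
  have h0 := (h.isIo 0 g).1
  let k : O (QD n F δ) := ⟨(iO n F 0 g).1.1, fun z => by
    rw [QD_eq, QD_eq δ z]
    exact congrArg₂ (fun a b => a + δ * b ^ 2) ((iO n F 0 g).1.map_Q z) (snd_fix h0 z)⟩
  have hk : k ∈ EG (QD n F δ) :=
    (h.par δ).mem_EG.2 ((h.par 0).mem_EG.1 (iO n F 0 g).2)
  rw [uniq h ⟨k, hk⟩ g h0 (h.isIo 0 g).2]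
  rfl

theorem mi_ti (h : MI1 n F) (δ : F) (g : XU n F) : tO n F δ (iO n F δ g) = iO n F δ g := by
  refine Subtype.ext ?_
  rw [tO, H59.SO.gam_ofO_val, mul_inv_eq_iff_eq_mul, mul_refl, (h.isIo δ g).1]

theorem io_TT (h : MI1 n F) (δ : F) (x : Vn n F) :
    iO n F δ (TT x) = E (QD n F δ) (lf x) (w0 n F) := by
  have := mi_ee h δ x 0 1 (hf_zero_left x)
  rwa [q0_zero, zero_add, one_pow] at this

theorem polar_lf_w1 (δ : F) {x : Vn n F} (hx : q0 x = 0) :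
    polar (QD n F δ) (lf x) (w1 n F) = 0 := by
  rw [polar_lf, hx, rt_zero]; simp [w1]

theorem mi_tw (h : MI1 n F) (δ : F) (x : Vn n F) (hx : q0 x = 0) :
    tO n F δ (Ew δ x) = Ew δ x * iO n F δ (TT x) := by
  rw [tO, H59.SO.gam_E_one (Gam.ofO_c _), Gam.ofO_apply, Gam.ofO_apply,
    refl_apply_of_orth (polar_w0 δ _), refl_apply, QD_w0, polar_w0, io_TT h,
    ← H59.SO.E_add (QD_lf δ x) (polar_lf_w1 δ hx) (polar_w0' δ _), H59.SO.sub2 F]
  simp [w1]

theorem jobMI : H86.SPI.JobMI := fun _ _ _ _ _ _ _ _ h =>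
  { h with lf := mi_lf h, ee := mi_ee h, ind := mi_ind h, ti := mi_ti h, tw := mi_tw h }

section MT

variable {x x' : Vn n F} {p : XU n F}

theorem Ew_w0 (δ : F) (hx : q0 x = 0) : (Ew δ x).1 (w0 n F) = w0 n F + lf x := by
  rw [H59.SO.E_apply_orth (QD_lf δ x) (polar_lf_w1 δ hx) (polar_w0' δ _), polar_w1]
  simp [w0]

theorem Ew_lf (δ : F) (hx : q0 x = 0) (h0 : hf x x' = 0) :
    (Ew δ x).1 (lf x') = lf x' + rt (q0 x') • lf x := by
  rw [H59.SO.E_apply_orth (QD_lf δ x) (polar_lf_w1 δ hx) (by rw [polar_lf]; simpa [lf] using h0),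
    polar_w1]
  rfl

theorem Ew_self (δ : F) (hx : q0 x = 0) : (Ew δ x).1 (lf x) = lf x :=
  H59.SO.E_apply_self (QD_lf δ x) (polar_lf_w1 δ hx)

theorem Ew_Ew (δ : F) (z : WW n F) : (Ew δ x).1 ((Ew δ x).1 z) = z := by
  rw [← O.mul_apply, ← Subgroup.coe_mul, H59.SO.E_sq]; rfl

theorem Ew_ind (δ : F) (hx : q0 x = 0) (z : WW n F) :
    (Ew δ x).1 z = (Ew 0 x).1 z + (δ * polar (QD n F 0) (lf x) z) • lf x := by
  rw [H59.SO.E_apply (QD_lf δ x) (polar_lf_w1 δ hx), H59.SO.E_apply (QD_lf 0 x) (polar_lf_w1 0 hx),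
    QD_w1, QD_w1, polar_ind δ, polar_ind δ, zero_mul, zero_smul, add_zero]

theorem io0 (h : MI n F) (hx : q0 x = 0) (hp : ac p x = x) :
    iO n F 0 (th x p) = Ew 0 x * iO n F 0 p * Ew 0 x := by
  refine Function.invFun_eq (h.rng 0 _ ?_)
  simp only [Subgroup.coe_mul, O.mul_apply]
  rw [Ew_w0 0 hx, map_add, (h.isIo 0 p).1, h.lf, hp, ← Ew_w0 0 hx, Ew_Ew]

theorem mt_io (h : MI n F) (δ : F) (x : Vn n F) (p : XU n F) (hx : q0 x = 0) (hp : ac p x = x) :
    iO n F δ (th x p) = Ew δ x * iO n F δ p * Ew δ x := by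
  refine H59.SO.Om.ext fun z => ?_
  have h1 : (iO n F 0 p).1 (lf x) = lf x := by rw [h.lf, hp]
  have h2 : polar (QD n F 0) (lf x) ((iO n F 0 p).1 ((Ew 0 x).1 z)) = polar (QD n F 0) (lf x) z := by
    conv_lhs => rw [← h1, O.map_polar, ← Ew_self 0 hx, O.map_polar]
  rw [h.ind, io0 h hx hp]
  simp only [Subgroup.coe_mul, O.mul_apply]
  rw [h.ind δ, Ew_ind δ hx, Ew_ind δ hx, map_add, map_smul, h1, map_add, map_smul, Ew_self 0 hx,
    polar_add_right, polar_smul_right, h2, H59.SO.polar_self2, smul_zero, add_zero, add_assoc,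
    H59.SO.add_self2 F, add_zero]

theorem mt_mul (h : MI n F) (x : Vn n F) (p p' : XU n F) (hx : q0 x = 0) (hp : ac p x = x)
    (hp' : ac p' x = x) : th x (p * p') = th x p * th x p' := by
  refine h.inj 0 ?_
  rw [map_mul, io0 h hx hp, io0 h hx hp', io0 h hx (by rw [ac_mul, hp', hp]), map_mul]
  simp only [mul_assoc]
  rw [← mul_assoc (Ew 0 x) (Ew 0 x), H59.SO.E_sq, one_mul]

theorem mt_zero (h : MI n F) (p : XU n F) : th 0 p = p := by
  refine h.inj 0 ?_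
  rw [io0 h q0_zero (ac_zero p), Ew, lf_of q0_zero, show ((0, 0, 0) : WW n F) = 0 from rfl,
    H59.SO.E_zero_left, one_mul, mul_one]

theorem mt_fix (h : MI n F) (x x' : Vn n F) (p : XU n F) (hx : q0 x = 0) (h0 : hf x x' = 0)
    (hp : ac p x = x) (hp' : ac p x' = x') : ac (th x p) x' = x' := by
  have := h.lf 0 (th x p) x'
  rw [io0 h hx hp] at this
  simp only [Subgroup.coe_mul, O.mul_apply] at this
  rw [Ew_lf 0 hx h0, map_add, map_smul, h.lf, h.lf, hp, hp', ← Ew_lf 0 hx h0, Ew_Ew] at this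
  exact (congrArg Prod.fst this).symm

theorem Ew_add (hx : q0 x = 0) (hx' : q0 x' = 0) (h0 : hf x x' = 0) :
    Ew 0 (x + x') = Ew 0 x * Ew 0 x' := by
  have h1 : lf (x + x') = lf x + lf x' := by
    rw [lf_of hx, lf_of hx', lf_of (by rw [q0_add, hx, hx', h0]; simp)]; simp
  rw [Ew, h1, H59.SO.E_add_left (QD_lf 0 x) (QD_lf 0 x') (by rw [polar_lf]; simpa [lf] using h0)
    (polar_lf_w1 0 hx) (polar_lf_w1 0 hx'), QD_w1, zero_smul, H59.SO.E_zero, mul_one]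

theorem mt_add (h : MI n F) (x x' : Vn n F) (p : XU n F) (hx : q0 x = 0) (hx' : q0 x' = 0)
    (h0 : hf x x' = 0) (hp : ac p x = x) (hp' : ac p x' = x') : th x (th x' p) = th (x + x') p := by
  refine h.inj 0 ?_
  rw [io0 h hx (mt_fix h x' x p hx' (hf_symm h0) hp' hp), io0 h hx' hp',
    io0 h (by rw [q0_add, hx, hx', h0]; simp) (by rw [ac_add, hp, hp'])]
  have h1 : Ew 0 (x + x') = Ew 0 x' * Ew 0 x := by rw [add_comm x, Ew_add hx' hx (hf_symm h0)]
  calc _ = (Ew 0 x * Ew 0 x') * iO n F 0 p * (Ew 0 x' * Ew 0 x) := by simp only [mul_assoc]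
    _ = _ := by rw [← h1, ← Ew_add hx hx' h0]

theorem mt_x0 (h : MI n F) (x : Vn n F) (p : XU n F) (h1 : p ∈ X0 n F) (hx : q0 x = 0)
    (hp : ac p x = x) : th x p = p := by
  refine h.inj 0 ?_
  rw [io0 h hx hp, ← H59.SO.comm_E (by rw [h.lf, hp]) (mem_X0.1 h1), mul_assoc, H59.SO.E_sq, mul_one]

theorem mt_ee (h : MI n F) (x v : Vn n F) (c : F) (hx : q0 x = 0) (hv : hf v x = 0) :
    th x (EE x v c) = EE x v c := by
  refine h.inj 0 ?_
  obtain ⟨a, rfl⟩ : ∃ a, c = q0 v + a ^ 2 :=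
    ⟨rt (c + q0 v), by rw [rt_sq]; linear_combination -q0 v * two0 F⟩
  rw [io0 h hx (ac_EE_self (ok hv _)), h.ee 0 x v a hv, H59.SO.E_comm, mul_assoc, H59.SO.E_sq,
    mul_one]

theorem mt_tt (h : MI n F) (x y : Vn n F) (hx : q0 x = 0) (hy : hf y x = 0) :
    th x (TT y) = TT y * EE x (rt (1 + q0 y) • y) (q0 y) := by
  have hxy := hf_symm hy
  have h1 : iO n F 0 (th x (TT y)) =
      E (QD n F 0) ((Ew 0 x).1 (lf y)) ((Ew 0 x).1 (w0 n F)) := by
    rw [io0 h hx (by rw [ac_TT, hxy, zero_smul, add_zero]), io_TT h.toMI1, ← H59.SO.E_conj,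
      H59.SO.E_inv]
  refine ac_ext fun v => ?_
  rw [← (h.isIo 0 _).2, h1, H59.SO.E_apply (by rw [O.map_Q, QD_lf])
    (by rw [O.map_polar, polar_w0']; rfl), O.map_Q, QD_w0, Ew_w0 0 hx, Ew_lf 0 hx hxy, ac_mul,
    ac_TT, ac_EE (ok (by rw [hf_smul_left, hy, mul_zero]) _), polar_QD, polar_QD, rt_add,
    show rt (1 : F) = 1 from sq_inj (rt_sq 1 |>.trans (one_pow 2).symm)]
  have hs := rt_sq (q0 y)
  generalize rt (q0 y) = s at hs ⊢
  funext i
  simp only [lf, w0, Prod.fst_add, Prod.smul_fst, Prod.snd_add, Prod.smul_snd, hf_add_left,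
    hf_smul_left, hf_smul_right', hxy, hf_self, hf_comm x v, hf_comm y v, hf_zero_left, Pi.add_apply,
    Pi.smul_apply, smul_eq_mul, Pi.zero_apply, mul_zero, zero_mul, add_zero, zero_add, ← hs]
  linear_combination (s * hf v x * x i) * two0 F

theorem mt_conj (h : MI n F) (x : Vn n F) (p g : XU n F) (hg : g ∈ X0 n F) (hx : q0 x = 0)
    (hp : ac p x = x) : th (ac g x) (g * p * g⁻¹) = g * th x p * g⁻¹ := by
  have h1 := mem_X0.1 hg
  have h2 : q0 (ac g x) = 0 := by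
    have : rt (q0 (ac g x)) = 0 := by
      have := (iO n F 0 g).1.map_polar (w1 n F) (lf x)
      rwa [h1, h.lf, polar_w1, polar_w1, lf_of hx] at this
    rw [← rt_sq (q0 _), this, zero_pow two_ne_zero]
  have h3 : Ew 0 (ac g x) = iO n F 0 g * Ew 0 x * (iO n F 0 g)⁻¹ := by
    rw [H59.SO.E_conj, h1, h.lf]
  refine h.inj 0 ?_
  rw [io0 h h2 (by rw [ac_mul, ac_mul, ac_inv_ac, hp]), h3]
  simp only [map_mul, map_inv, io0 h hx hp]
  group

end MT

theorem jobMT : H86.SPI.JobMT := fun _ _ _ _ _ _ _ _ h =>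
  ⟨mt_io h, mt_mul h, mt_zero h, mt_fix h, mt_add h, mt_x0 h, mt_ee h, mt_tt h, mt_conj h⟩

end H96.SPM
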