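import Cfsg.Agent.H85.P6.H67_SPSpec
import Cfsg.Agent.H64.SGJB

namespace H18 end H18
open H18
namespace H98 end H98
open H98
namespace H85.P6

/-! STD-SP (S3129): `JobJB` (after `H18/SOJB`). -/

set_option autoImplicit false
set_option linter.unusedSectionVars false

namespace H18.SPJB

open H64.SG (O2 Syl Cz Cs Ns cjs Is2 Inv2 UF IsO2 fx mem_Cs mem_Cz mem_fx Mx Dl is2_of_sq
  isPGroup_iff_is2)
open H67.SA (St cI cm mem_cI mem_St_iff_map mem_St_of_finite conj_mem_St)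
open H98 H59.SO Subgroup Cfsg

universe u

section Free

variable {X : Type} [Group X] [Finite X] {G : Type u} [Group G] [Finite G] {e : X →* G} {g t : G}
  {β : MulAut X} {U : Subgroup X} {Root : X → Prop}

/-- The facts on `X` used for `JobJB`. -/
structure FJB (U : Subgroup X) (Root : X → Prop) : Prop where
  ns : NS X
  syl : Syl U ⊤
  cls : ∀ (α : MulAut X) g, Root g → Root (α g)
  ctU : ∀ β : MulAut X, (∀ u ∈ U, β u = u) → ∃ ζ, (ζ = 1 ∨ Root ζ) ∧ β = MulAut.conj ζ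
  a4 : ∀ α : MulAut X, α * α = 1 → (∀ g, α ≠ MulAut.conj g) → fx α ≤ ⁅fx α, fx α⁆
  jz : ∀ x : X, Inv2 x → ¬ Root x → ∃ N : Subgroup X,
    (∀ α : MulAut X, α x = x → α ∈ St N) ∧ N ≤ O2 (Cz x) ∧ (∀ a ∈ N, a * a = 1) ∧
    (∀ w ∈ N, w ∈ Cs (Cz x) → w = 1 ∨ IsConj x w ∧ (x * w = 1 ∨ IsConj x (x * w))) ∧
    ∃ P, Syl P (Cz x) ∧ ∃ ζ ∈ N, ζ ≠ 1 ∧ ζ ∈ Cs P ∧
      ∀ z ∈ Cs P, Inv2 z → ¬ Root z → IsConj z (z * ζ)

theorem FJB.cj (B : FJB U Root) (g p : X) (h : Root g) : Root (p * g * p⁻¹) :=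
  B.cls (MulAut.conj p) g h

theorem FJB.nc (B : FJB U Root) {a b : X} (h : IsConj a b) (h' : ¬ Root a) : ¬ Root b := fun k => by
  obtain ⟨p, rfl⟩ := isConj_iff.1 h.symm
  exact h' (B.cj _ p k)

theorem ca2 (B : FJB U Root) (h : B0 e t) {P : Subgroup G} (hP : IsSyl 2 P e.range)
    {s : G} (h1 : t * s = s * t) (h2 : s ∈ Cs P) (h3 : s * s = 1) :
    ∃ ζ, (ζ = 1 ∨ Root ζ) ∧ (s = e ζ ∨ s = t * e ζ) := by
  have h0 := H64.SG.syl_iff.1 (syl_map (e := e) B.syl)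
  rw [← MonoidHom.range_eq_map] at h0
  obtain ⟨_, ⟨p, rfl⟩, rfl⟩ := h0.exists_cj_eq hP
  obtain ⟨β, hβ⟩ := exists_ind h.inj (h.cz (mem_Cz.2 h1))
  obtain ⟨ζ, z1, z2⟩ := B.ctU _ ((((ind_conj p).inv.mul hβ).mul (ind_conj p)).fix h.inj
    fun a ha => by
      have := h2 _ (conj_mem_cj ha)
      calc _ = (e p)⁻¹ * (e p * a * (e p)⁻¹ * s) * e p := by group
        _ = _ := by rw [this]; group)
  have z3 : β = MulAut.conj (p * ζ * p⁻¹) := by rw [map_mul, map_mul, ← z2, map_inv]; group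
  rw [z3] at hβ
  exact ⟨_, z1.imp (fun k => by simp [k]) (B.cj ζ p), (h.inner B.ns h1 h3 hβ).2⟩

theorem conj_lift {a b : X} (h : IsConj a b) : ∃ l, e l * e a * (e l)⁻¹ = e b := by
  obtain ⟨l, rfl⟩ := isConj_iff.1 h
  exact ⟨l, by simp⟩

theorem o2_lift {b : G} {y : X} (hk : Function.Injective e) (hβ : Ind e b β) (h : y ∈ O2 (fx β)) :
    e y ∈ O2 (Cz b) := by
  have := mem_map_of_mem e h
  rw [H64.SG.O2_eq, map_res, ← H64.SG.O2_eq, hβ.map_fx hk] at this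
  exact H64.SG.O2_mono inf_le_right this

theorem jb1 (B : FJB U Root) {a a' : G} (h : B0 e a) (nr0 : ∀ z, Root z → ¬ IsConj a (e z))
    (nr : ∀ z, Root z → ¬ IsConj a (a * e z)) {P : Subgroup G}
    (hP : IsPGroup 2 P) (h1 : Dl t P a) (h2 : Dl t P a') (h3 : a ≠ a') :
    ∃ u ∈ e.range, u ∈ Ns P ∧ u ∉ P ∧ u * u ∈ P := by
  have hPL : P ≤ Ns e.range := fun p hp => h.cz (mem_Cz.2 (h1.2.2 p hp).symm)
  obtain ⟨S, hS, hPS⟩ := exists_isSyl_le hP (le_sup_left : P ≤ P ⊔ e.range)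
  have hU := hS.inf_of_le_normalizer le_sup_right (hS.le.trans (sup_le hPL le_normalizer))
  have hc := h1.1.symm.trans h2.1
  have h4 : ¬ S ⊓ e.range ≤ P := fun h4 => by
    obtain ⟨ζ, z3, z4⟩ := ca2 B h hU (h2.2.2 a h1.2.1) (centralizer_anti h4 h2.2.2)
      (H9.UF.inv2_conj h.inv hc).1
    rcases z4 with rfl | rfl <;> rcases z3 with rfl | z3
    · exact (H9.UF.inv2_conj h.inv hc).2 (map_one e)
    · exact nr0 _ z3 hc
    · exact h3 (by simp)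
    · exact nr ζ z3 hc
  have h5 : P ≤ Ns (S ⊓ e.range) := le_normalizer_inf (H98.le_normalizer_of_le hPS) hPL
  obtain ⟨s, ⟨s1, s2⟩, s3⟩ := SetLike.exists_of_lt (lt_inf_normalizer
    (hS.isPGroup.to_le (sup_le hPS inf_le_left)) (left_lt_sup.2 h4))
  obtain ⟨p, hp, u, hu, rfl⟩ := (mem_sup_left_norm h5).1 s1
  obtain ⟨k, k1, k2⟩ := H64.SG.exists_sq_mem (isPGroup_iff_is2.1 hS.isPGroup u hu.1)
    fun h => s3 (mul_mem hp h)
  exact ⟨_, pow_mem hu.2 k, pow_mem ((mul_mem_cancel_left (le_normalizer hp)).1 s2) k, k1, k2⟩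

/-- The elements of `N` whose translations keep the classes in `C(P)`. -/
def BB (B : FJB U Root) (N P : Subgroup X) (hN : ∀ a ∈ N, a * a = 1) : Subgroup X where
  carrier := {ζ | ζ ∈ N ∧ ζ ∈ Cs P ∧ ∀ z ∈ Cs P, Inv2 z → ¬ Root z → IsConj z (z * ζ)}
  one_mem' := ⟨one_mem _, one_mem _, fun z _ _ _ => by rw [mul_one]⟩
  mul_mem' := fun {a b} ha hb => ⟨mul_mem ha.1 hb.1, mul_mem ha.2.1 hb.2.1, fun z z1 z2 z3 => by
    have h1 := ha.2.2 z z1 z2 z3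
    rw [← mul_assoc]
    exact h1.trans (hb.2.2 _ (mul_mem z1 ha.2.1) (H9.UF.inv2_conj z2 h1) (B.nc h1 z3))⟩
  inv_mem' := fun {a} ha => by rwa [inv_eq_of_mul_eq_one_right (hN a ha.1)]

theorem isConj_aut (α : MulAut X) {a b : X} (h : IsConj a b) : IsConj (α a) (α b) :=
  α.toMonoidHom.map_isConj h

/-- The element `ζ`, fixed by `P`. -/
theorem jb2 (B : FJB U Root) {a b : G} {x : X} (h : B0 e a) {P : Subgroup G}
    (hP : IsSyl 2 P (Cz a ⊓ Cz b)) (hβ : Ind e b (MulAut.conj x)) (x4 : Inv2 x) (x5 : ¬ Root x)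
    (xP : e x ∈ Cs P) : ∃ N : Subgroup X,
    (∀ α : MulAut X, α x = x → α ∈ St N) ∧ N ≤ O2 (Cz x) ∧ (∀ a ∈ N, a * a = 1) ∧
    (∀ w ∈ N, w ∈ Cs (Cz x) → w = 1 ∨ IsConj x w ∧ (x * w = 1 ∨ IsConj x (x * w))) ∧
    ∃ ζ ∈ N, ζ ≠ 1 ∧ Root ζ ∧ e ζ ∈ Cs P ∧
      ∀ z, e z ∈ Cs P → Inv2 z → ¬ Root z → IsConj z (z * ζ) := by
  obtain ⟨N, n1, n2, n3, n4, P0, p0, ζ0, z1, z2, z3, z4⟩ := B.jz x x4 x5
  refine ⟨N, n1, n2, n3, n4, ?_⟩
  have a1 := h.toB1.syl_fx hβ hP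
  rw [H64.SG.fx_conj] at a1
  have inv : ∀ (α : MulAut X) (Q Q' : Subgroup X), α x = x → Q.map α.toMonoidHom = Q' →
      ∀ ζ ∈ BB B N Q n3, α ζ ∈ BB B N Q' n3 := by
    rintro α Q _ h1 rfl ζ ⟨k1, k2, k3⟩
    refine ⟨(n1 α h1 ζ).1 k1, map_mem_Cs (e := α.toMonoidHom) k2, fun z hz i r => ?_⟩
    obtain ⟨z, rfl⟩ := α.surjective z
    rw [← map_mul]
    exact isConj_aut α (k3 z ((e_mem_Cs_map (e := α.toMonoidHom) α.injective).1 hz)
      ((inv2_e (e := α.toMonoidHom) α.injective).1 i) fun k => r (B.cls α z k))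
  obtain ⟨c, hc, c1⟩ := (H64.SG.syl_iff.1 p0).exists_cj_eq (H64.SG.syl_iff.1 a1)
  have m1 := inv (MulAut.conj c) _ _ (by rw [MulAut.conj_apply, ← mem_Cz.1 hc, mul_inv_cancel_right])
    c1 ζ0 ⟨z1, z3, z4⟩
  have hne : (BB B N (P.comap e) n3).map e ≠ ⊥ := fun k => z2 (by
    have := mem_bot.1 (k.le (mem_map_of_mem e m1))
    simpa using (map_eq_one_iff e h.inj).1 this)
  have hn : P ≤ Ns ((BB B N (P.comap e) n3).map e) := fun p hp => by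
    obtain ⟨α, hα⟩ := exists_ind h.inj (h.cz (hP.le hp).1)
    refine hα.mem_Ns_map (mem_St_of_finite (inv α _ _ ((hα.comm_iff h.inj).1 (xP p hp)) ?_))
    refine mem_St_iff_map.1 (mem_St_of_finite fun v hv => ?_)
    rw [mem_comap, ← hα]
    exact mul_mem (mul_mem hp hv) (inv_mem hp)
  obtain ⟨⟨_, ⟨ζ, k1, rfl⟩, k2⟩, k3⟩ := (ne_bot_iff_exists_ne_one).1 (inf_centralizer_ne_bot
    (((isPGroup_iff_is2 (P := BB B N (P.comap e) n3)).2 fun v hv => is2_of_sq (n3 v hv.1)).map e)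
    hP.isPGroup hn hne)
  have k4 : ζ ≠ 1 := fun k => k3 (Subtype.ext (by simp [k]))
  refine ⟨ζ, k1.1, k4, ?_, k2, fun z hz => k1.2.2 z fun v hv => (e_comm_iff h.inj).1 (hz _ hv)⟩
  by_contra r
  have := k1.2.2 ζ k1.2.1 ⟨n3 ζ k1.1, k4⟩ r
  rw [n3 ζ k1.1, isConj_one_left] at this
  exact k4 this

theorem jb4 {a b : G} {x y : X} (h : B0 e a) {N : Subgroup X}
    (n1 : ∀ α : MulAut X, α x = x → α ∈ St N) (n3 : ∀ a ∈ N, a * a = 1)
    (n4 : ∀ w ∈ N, w ∈ Cs (Cz x) → w = 1 ∨ IsConj x w ∧ (x * w = 1 ∨ IsConj x (x * w)))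
    (yN : y ∈ N) {P : Subgroup G} (M : Mx t P)
    (ha : Dl t P a) (hb : Dl t P b) (hab : a ≠ b) (hP : IsSyl 2 P (Cz a ⊓ Cz b))
    (y3 : e y ∈ Cs P) (hx : e x = a * b) (g1 : g ∈ Ns P)
    (g2 : g * g ∈ P) (g3 : g * a * g⁻¹ = b) (g4 : g * e y * g⁻¹ = a * b * e y) : False := by
  have hc := ha.1.symm.trans hb.1
  have b2 := H9.UF.inv2_conj h.inv hc
  have e1 : a * b = b * a := hb.2.2 a ha.2.1
  have g5 : g * b * g⁻¹ = a := by rw [← g3]; exact ha.fix2 g2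
  rw [← hx] at g4
  have x0 : b = a * e x := by rw [hx, ← mul_assoc, h.inv.1, one_mul]
  have x2 : Inv2 (e x) := ⟨by
    rw [hx, mul_assoc, ← mul_assoc b, ← e1, mul_assoc, b2.1, mul_one, h.inv.1],
    fun e => hab (by rw [x0, e, mul_one])⟩
  have hβ : Ind e b (MulAut.conj x) := by simpa [← x0] using (ind_one_iff.2 h.cen).mul (ind_conj x)
  set D := Cz a ⊓ Cz b
  have hD : D ≤ Ns e.range := inf_le_left.trans h.cz
  have xD : ∀ d ∈ D, d * e x * d⁻¹ = e x := fun d hd => by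
    rw [hx, ← conj_mul, ← mem_Cz.1 hd.1, ← mem_Cz.1 hd.2]; simp
  have gD : g ∈ Ns D := cj_eq_self_iff.1 (by
    rw [cj_inf, H64.SG.cj_Cz', H64.SG.cj_Cz', g3, g5, inf_comm])
  have gx : g * e x * g⁻¹ = e x := by rw [hx, ← conj_mul, g3, g5, e1]
  have y4 : e y * e y = 1 := by rw [← map_mul, n3 y yN, map_one]
  let Y : Set G := (fun d => d * e y * d⁻¹) '' D
  have Y1 : ∀ v ∈ Y, v ∈ N.map e ∧ v * v = 1 ∧ e x * v = v * e x := by
    rintro _ ⟨d, hd, rfl⟩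
    refine ⟨?_, by simp [conj_mul, y4], ?_⟩
    · obtain ⟨α, hα⟩ := exists_ind h.inj (hD hd)
      exact ⟨α y, (n1 α ((hα.eq_iff h.inj).1 (xD d hd)) y).1 yN, (hα y).symm⟩
    · rw [← xD d hd, conj_mul, conj_mul, y3 _ (hx ▸ mul_mem ha.2.1 hb.2.1)]
  have Y3 : ∀ v ∈ insert (e x) Y, ∀ w ∈ insert (e x) Y, v * w = w * v := by
    rintro v (rfl | hv) w (rfl | hw)
    · rfl
    · exact (Y1 w hw).2.2
    · exact (Y1 v hv).2.2.symm
    · obtain ⟨v, v1, rfl⟩ := (Y1 v hv).1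
      obtain ⟨w, w1, rfl⟩ := (Y1 w hw).1
      rw [← map_mul, ← map_mul, ← inv_eq_of_mul_eq_one_right (n3 _ (mul_mem v1 w1)), mul_inv_rev,
        inv_eq_of_mul_eq_one_right (n3 _ v1), inv_eq_of_mul_eq_one_right (n3 _ w1)]
  obtain ⟨p, p1, p2, p3, -⟩ := H64.SG.exists_prodS (closure (insert (e x) Y))
    ((closure_le _).2 fun v hv => H64.SG.mem_Cs_closure.2 fun w hw => Y3 w hw v hv)
  have Y4 : ∀ v ∈ Y, v ∈ closure (insert (e x) Y) := fun v hv => subset_closure (Or.inr hv)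
  have Y5 : e x ∈ closure (insert (e x) Y) := subset_closure (Or.inl rfl)
  have Y6 : ∀ d ∈ D, ∀ v ∈ Y, d * v * d⁻¹ ∈ Y := by
    rintro d hd _ ⟨d', hd', rfl⟩
    exact ⟨d * d', mul_mem hd hd', by group⟩
  have Y7 : ∀ v ∈ Y, e x * (g * v * g⁻¹) ∈ Y := by
    rintro _ ⟨d, hd, rfl⟩
    have d1 := conj_mem_of_mem_normalizer gD hd
    refine ⟨_, d1, ?_⟩
    calc _ = g * d * g⁻¹ * (e x * (e x * e y)) * (g * d * g⁻¹)⁻¹ := by
          rw [← mul_assoc (e x), x2.1, one_mul]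
      _ = _ := by rw [← g4, ← conj_mul, xD _ d1]; group
  have w1 : p Y ∈ N.map e := p1 Y _ fun v hv => (Y1 v hv).1
  have w2 : p Y * p Y = 1 := p2 Y fun v hv => (Y1 v hv).2.1
  have w3 : ∀ d ∈ D, d * p Y * d⁻¹ = p Y := fun d hd => by
    simpa using p3 Y Y4 d (H64.SG.mem_Ns_closure (by
      rintro v (rfl | hv)
      · rwa [xD d hd]
      · exact Y4 _ (Y6 d hd v hv))) 1 (one_mem _) fun v hv => by simpa using Y6 d hd v hv
  have w4 : g * p Y * g⁻¹ = e x * p Y := by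
    have h3 := p3 Y Y4 g (H64.SG.mem_Ns_closure (by
      rintro v (rfl | hv)
      · rwa [gx]
      · exact (mul_mem_cancel_left Y5).1 (Y4 _ (Y7 v hv)))) _ Y5 Y7
    obtain ⟨k, hk⟩ : Odd Y.ncard := by
      rw [← H4.relIndex_cent_eq_ncard]
      exact (H64.SG.syl_iff.2 hP).2.2.of_dvd_nat (relIndex_dvd_of_le_left _
        fun v hv => mem_Cz.2 (y3 v hv).symm)
    rw [hk, pow_succ, pow_mul, pow_two, x2.1, one_pow, one_mul] at h3
    nth_rewrite 2 [← h3]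
    rw [← mul_assoc (e x), x2.1, one_mul]
  generalize p Y = w at *
  obtain ⟨w, w0, rfl⟩ := w1
  have key : ∀ v, IsConj x v → (∀ d ∈ D, d * e v * d⁻¹ = e v) →
      IsConj t (a * e v) ∧ a * e v ∈ Cs P := fun v v2 v3 => by
    obtain ⟨l, l2⟩ := conj_lift (e := e) v2
    exact ⟨hb.1.trans (isConj_iff.2 ⟨e l, by rw [x0, ← conj_mul, l2, h.conj_t]⟩),
      mul_mem ha.2.2 fun z hz => mul_inv_eq_iff_eq_mul.1 (v3 z (hP.le hz))⟩
  have w5 : e w ≠ 1 := fun k => x2.2 (by simpa [k] using w4.symm)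
  have w6 : Inv2 (e x * e w) := w4 ▸ H9.UF.inv2_conj ⟨w2, w5⟩ (isConj_iff.2 ⟨g, rfl⟩)
  obtain ⟨w7, w8⟩ := (n4 w w0 fun z hz => (e_comm_iff h.inj).1
    (mul_inv_eq_iff_eq_mul.1 (w3 _ ⟨h.mem_Cz z, mem_Cz.2 (hβ.comm (by
      rwa [← mem_fx, H64.SG.fx_conj]))⟩))).resolve_left fun k => w5 (by rw [k, map_one])
  obtain ⟨k1, k2⟩ := key w w7 w3
  obtain ⟨k3, k4⟩ := key _ (w8.resolve_left fun k => w6.2 (by rw [← map_mul, k, map_one]))
    fun d hd => by rw [map_mul, ← conj_mul, xD d hd, w3 d hd]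
  rw [map_mul] at k3 k4
  have w1 : e w ∈ e.range := ⟨w, rfl⟩
  generalize e w = w at *
  have e2 := h.cen _ ⟨x, rfl⟩
  have e3 := h.cen w w1
  have e4 : e x * w = w * e x := mul_inv_eq_iff_eq_mul.1 (w3 _ (hP.le (hx ▸ mul_mem ha.2.1 hb.2.1)))
  have h4 := M.mem k1 k3 (fun e => x2.2 (by simpa using e.symm))
    (((Commute.refl a).mul_right ((Commute.symm e2).mul_right (Commute.symm e3))).mul_left
      ((show Commute w a from e3).mul_right ((Commute.symm e4).mul_right (Commute.refl w))))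
    k2 k4 g1 (H64.SG.is2_of_sq_mem M.1 g2)
    (by rw [← conj_mul, g3, w4, x0, mul_assoc, ← mul_assoc (e x), x2.1, one_mul])
    (by rw [← mul_assoc a, ← x0, ← conj_mul, g5, w4, x0, mul_assoc])
  exact hab ((ha.fix h4).symm.trans g3)

/-- The inner case. -/
theorem jb3 (B : FJB U Root) {a b : G} {x : X} (h : B0 e a)
    (nr0 : ∀ z, Root z → ¬ IsConj a (e z)) (nr : ∀ z, Root z → ¬ IsConj a (a * e z))
    (ol : ∀ y ∈ O2 (Cz a), Is2 y → y ∈ e.range) {P : Subgroup G} (M : Mx t P)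
    (ha : Dl t P a) (hb : Dl t P b) (hab : a ≠ b) (hP : IsSyl 2 P (Cz a ⊓ Cz b))
    (hβ : Ind e b (MulAut.conj x)) (g1 : g ∈ Ns P) (g2 : g * g ∈ P) (g3 : g * a * g⁻¹ = b) :
    False := by
  have hc := ha.1.symm.trans hb.1
  have b2 := H9.UF.inv2_conj h.inv hc
  have e1 : a * b = b * a := hb.2.2 a ha.2.1
  have g5 : g * b * g⁻¹ = a := by rw [← g3]; exact ha.fix2 g2
  obtain ⟨x3, k2⟩ := h.inner B.ns e1 b2.1 hβ
  have x4 : Inv2 x := ⟨x3, by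
    rintro rfl
    rcases k2 with k2 | k2
    exacts [b2.2 (by simpa using k2), hab (by simpa using k2.symm)]⟩
  have nrb : ∀ z, IsConj a (b * e z) → ¬ Root (x * z) := fun z hz r => by
    rcases k2 with k | k
    · exact nr0 _ r (by rwa [map_mul, ← k])
    · exact nr _ r (by rwa [map_mul, ← mul_assoc, ← k])
  have cjb : ∀ z z', IsConj (x * z) (x * z') → IsConj (b * e z) (b * e z') := fun z z' hz => by
    obtain ⟨l, l2⟩ := conj_lift (e := e) hz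
    refine isConj_iff.2 ⟨e l, ?_⟩
    rcases k2 with rfl | rfl
    · rwa [← map_mul e x, ← map_mul e x]
    · rw [mul_assoc a, mul_assoc a, ← map_mul, ← map_mul, ← conj_mul, l2, h.conj_t]
  have x5 : ¬ Root x := by simpa using nrb 1 (by simpa using hc)
  have xP : e x ∈ P ⊓ Cs P := by
    rcases k2 with rfl | rfl
    · exact hb.2
    · exact (mul_mem_cancel_left ha.2).1 hb.2
  obtain ⟨N, n1, n2, n3, n4, ζ, z1, z2, z3, z4, z5⟩ := jb2 B h hP hβ x4 x5 xP.2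
  have ζ2 : e ζ * e ζ = 1 := (sq_e h.inj).2 (n3 ζ z1)
  have ζP : e ζ ∈ P := hP.le_of_le_normalizer' (is2_of_sq ζ2).zpowers
    (zpowers_le.2 ⟨h.mem_Cz ζ, mem_Cz.2 (z4 b hb.2.1)⟩) (zpowers_le.2 (H64.SG.Cs_le_Ns P z4))
    (mem_zpowers _)
  have t1 : IsConj a (b * e ζ) := hc.trans (by simpa using cjb 1 ζ (by simpa using z5 x xP.2 x4 x5))
  obtain ⟨η, hη⟩ : g * e ζ * g⁻¹ ∈ e.range := by
    refine ol _ ?_ ((is2_of_sq ζ2).conj g)
    have := conj_mem_cj (g := g) (o2_lift h.inj hβ (by rw [H64.SG.fx_conj]; exact n2 z1))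
    rwa [H64.SG.O2_eq, cj_res, ← H64.SG.O2_eq, H64.SG.cj_Cz', g5] at this
  have cg : ∀ v, IsConj v (g * v * g⁻¹) := fun v => isConj_iff.2 ⟨g, rfl⟩
  have η1 : e η ∈ Cs P := hη ▸
    conj_mem_of_mem_normalizer (normalizer_le_normalizer_centralizer P g1) z4
  have η2 : Inv2 η := (inv2_e h.inj).1 (hη ▸ H9.UF.inv2_conj
    ((inv2_e h.inj).2 ⟨n3 ζ z1, z2⟩) (cg _))
  have η3 : g * e η * g⁻¹ = e ζ := by
    rw [hη, show g * (g * e ζ * g⁻¹) * g⁻¹ = g * g * e ζ * (g * g)⁻¹ by group, z4 _ g2,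
      mul_inv_cancel_right]
  have t2 : IsConj a (a * e η) := t1.trans (by rw [hη, ← g5, conj_mul]; exact cg _)
  have t3 : ¬ IsConj a (b * e η) := fun k => nr ζ z3 (k.trans (by
    rw [hη, ← g3, conj_mul]; exact (cg _).symm))
  have t4 : IsConj a (b * e (ζ * η)) := by
    obtain ⟨l, l2⟩ := conj_lift (e := e) (z5 η η1 η2 fun r => nr η r t2)
    have : IsConj (a * e η) (a * e (η * ζ)) :=
      isConj_iff.2 ⟨e l, by rw [← conj_mul, l2, h.conj_t]⟩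
    refine (t2.trans this).trans (isConj_iff.2 ⟨g, ?_⟩)
    rw [map_mul, map_mul, show g * (a * (e η * e ζ)) * g⁻¹ =
      g * a * g⁻¹ * (g * e η * g⁻¹ * (g * e ζ * g⁻¹)) by group, g3, η3, ← hη]
  have c1 : x * ζ = ζ * x := (e_comm_iff h.inj).1 (z4 _ xP.1)
  have c2 : x * η = η * x := (e_comm_iff h.inj).1 (η1 _ xP.1)
  have c3 : ζ * η = η * ζ := (e_comm_iff h.inj).1 (η1 _ ζP)
  have t5 : x * (ζ * η) = 1 := by
    by_contra k
    refine t3 (t4.trans (cjb _ _ ?_))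
    have := z5 (x * (ζ * η)) (by
      rw [map_mul, map_mul]; exact mul_mem xP.2 (mul_mem z4 η1)) ⟨?_, k⟩ (nrb _ t4)
    · rwa [show x * (ζ * η) * ζ = x * η by rw [c3, mul_assoc, mul_assoc, n3 ζ z1, mul_one]] at this
    · have c4 : Commute x (ζ * η) := (show Commute x ζ from c1).mul_right c2
      rw [← pow_two, c4.mul_pow, (show Commute ζ η from c3).mul_pow, pow_two, pow_two, pow_two, x3,
        n3 ζ z1, η2.1, one_mul, one_mul]
  have t6 : ζ * η = x := by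
    rw [← inv_eq_of_mul_eq_one_right t5, inv_eq_of_mul_eq_one_right x3]
  rcases k2 with k | k
  · rw [t6, k, ← map_mul, x3, map_one, isConj_one_left] at t4
    exact h.inv.2 t4
  · have hx : e x = a * b := by rw [k, ← mul_assoc, h.inv.1, one_mul]
    refine jb4 h n1 n3 n4 z1 M ha hb hab hP z4 hx g1 g2 g3 ?_
    rw [← hη, ← hx, ← map_mul, ← t6, c3, mul_assoc, n3 ζ z1, mul_one]

theorem jb_of (B : FJB U Root) (h : B0 e t)
    (ol : ∀ g, ∀ y ∈ O2 (Cz (g * t * g⁻¹)), Is2 y → y ∈ (cje g e).range)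
    (pf : ∀ g, ∀ N ≤ Cz (g * t * g⁻¹), N ≤ ⁅N, N⁆ → N ≤ (cje g e).range)
    (nr : ∀ z, Root z → ¬ IsConj t (e z)) {b₀ : G} (b1 : IsConj t b₀) (b2 : b₀ ≠ t)
    (b3 : b₀ * t = t * b₀) : ∃ z, Root z ∧ IsConj t (t * e z) := by
  by_contra hc
  have C : ∀ a, IsConj t a → ∃ e' : X →* G, B0 e' a ∧ (∀ z, Root z → ¬ IsConj a (a * e' z)) ∧
      (∀ z, Root z → ¬ IsConj a (e' z)) ∧ (∀ y ∈ O2 (Cz a), Is2 y → y ∈ e'.range) ∧
      ∀ N ≤ Cz a, N ≤ ⁅N, N⁆ → N ≤ e'.range := fun a ha => by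
    obtain ⟨g, rfl⟩ := isConj_iff.1 ha
    refine ⟨_, h.cje g, fun z h1 h2 => hc ⟨z, h1, (ha.trans h2).trans ?_⟩,
      fun z h1 h2 => nr z h1 ((ha.trans h2).trans ?_), ol g, pf g⟩
    · rw [cje_apply, conj_mul]; exact (isConj_iff.2 ⟨g, rfl⟩).symm
    · exact (isConj_iff.2 ⟨g, rfl⟩).symm
  obtain ⟨P, ⟨a, b, a1, b1, hab, e1, p1, p2⟩, hM⟩ := Set.exists_max_image {Q : Subgroup G | ∃ x y,
    IsConj t x ∧ IsConj t y ∧ x ≠ y ∧ x * y = y * x ∧ Q ≤ Cz x ⊓ Cz y ∧ IsPGroup 2 Q}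
    (fun Q => Nat.card Q) (Set.toFinite _)
    ⟨⊥, t, b₀, IsConj.refl t, b1, b2.symm, b3.symm, bot_le, IsPGroup.of_bot⟩
  have M : Mx t P := ⟨p2, fun x y x1 y1 h1 h2 Q q1 q2 => hM Q ⟨x, y, x1, y1, h1, h2, q1, q2⟩⟩
  have hP : IsSyl 2 P (Cz a ⊓ Cz b) := by
    obtain ⟨S, s1, s2⟩ := exists_isSyl_le p2 p1
    exact s1.of_card_ge p2 p1 (M.2 a b a1 b1 hab e1 S s1.le s1.isPGroup)
  have key : ∀ x, IsConj t x → x ∈ Cz a ⊓ Cz b → x ∈ Cs P → Dl t P x := fun x x1 x2 x3 =>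
    ⟨x1, hP.le_of_le_normalizer' (is2_of_sq (H9.UF.inv2_conj h.inv x1).1).zpowers (zpowers_le.2 x2)
      (zpowers_le.2 (H64.SG.Cs_le_Ns P x3)) (mem_zpowers x), x3⟩
  have ha := key a a1 ⟨mem_Cz.2 rfl, mem_Cz.2 e1.symm⟩ fun p hp => (mem_Cz.1 (p1 hp).1).symm
  have hb := key b b1 ⟨mem_Cz.2 e1, mem_Cz.2 rfl⟩ fun p hp => (mem_Cz.1 (p1 hp).2).symm
  obtain ⟨ea, h1, n1, m1, o1, f1⟩ := C a a1
  obtain ⟨eb, h2, n2, m2, -⟩ := C b b1
  obtain ⟨u, u0, u1, u2, u3⟩ := jb1 B h1 m1 n1 p2 ha hb hab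
  obtain ⟨v, v0, v1, v2, v3⟩ := jb1 B h2 m2 n2 p2 hb ha hab.symm
  have u4 : u * a * u⁻¹ = a := by rw [h1.cen u u0, mul_inv_cancel_right]
  obtain ⟨g, g1, g2, g3⟩ := H64.SG.step2 M ha hb hab u1 u2 u3 u4 v1 v2 v3
    (by rw [h2.cen v v0, mul_inv_cancel_right])
  obtain ⟨p, q1, q2, q3, q4⟩ := H64.SG.exists_prodS (P ⊓ Cs P) fun x hx y hy => hx.2 y hy.1
  have s1 : p {x | Dl t P x} ∈ P ⊓ Cs P := q1 _ _ fun x hx => hx.2
  have s2 := q2 {x | Dl t P x} fun x hx => (H9.UF.inv2_conj h.inv hx.1).1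
  have s3 : ∀ n ∈ Ns P, n * p {x | Dl t P x} * n⁻¹ = p {x | Dl t P x} := fun n hn => by
    simpa using q3 {x | Dl t P x} (fun x hx => hx.2) n (le_normalizer_inf le_rfl
      (normalizer_le_normalizer_centralizer P) hn) 1 (one_mem _)
      fun x hx => by simpa using Dl.conj hx hn
  have s4 := q4 {x | Dl t P x} (fun x hx => hx.2) a ha ea.range (fun x => u * x * u⁻¹) fun x hx x1 =>
    ⟨Dl.conj hx u1, fun e => x1 (by rw [← u4] at e; simpa using e),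
      fun e => x1 (M.fix hx ha u1 u2 u3 e u4), Dl.fix2 hx u3,
      by
        have x2 : x ∈ Ns ea.range := h1.cz (mem_Cz.2 (hx.2.2 a ha.2.1))
        have := mul_mem (conj_mem_of_mem_normalizer x2 u0) (inv_mem u0)
        rwa [inv_eq_of_mul_eq_one_right (H9.UF.inv2_conj h.inv hx.1).1, mul_assoc x, mul_assoc x]
          at this⟩
  generalize p {x | Dl t P x} = σ at *
  rw [h1.inv_eq] at s4
  have y3 := mul_mem ha.2 s1
  have g4 : g * (a * σ) * g⁻¹ = b * σ := by rw [← conj_mul, g3, s3 g g1]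
  have g5 : g * b * g⁻¹ = a := by rw [← g3]; exact ha.fix2 g2
  have e3 : a * σ * (b * σ) = a * b := by
    rw [mul_assoc, ← mul_assoc σ, ← s1.2 b hb.2.1, mul_assoc, s2, mul_one]
  obtain ⟨β, hβ⟩ := exists_ind h1.inj (h1.cz (mem_Cz.2 e1))
  by_cases h0 : ∃ x, β = MulAut.conj x
  · obtain ⟨x, rfl⟩ := h0
    exact jb3 B h1 m1 n1 o1 M ha hb hab hP hβ g1 g2 g3
  have y5 : a * σ ∈ (fx β).map ea := by
    rw [hβ.map_fx h1.inj]
    exact ⟨s4, mem_Cz.2 (y3.2 b hb.2.1)⟩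
  have y6 : b * σ ∈ ea.range := by
    rw [← g4]
    refine f1 (cj g ((fx β).map ea)) ?_ ?_ (conj_mem_cj y5)
    · rw [← g5, ← H64.SG.cj_Cz', hβ.map_fx h1.inj]
      exact cj_mono g inf_le_right
    · rw [← cj_commutator, ← map_commutator]
      exact cj_mono g (map_mono (B.a4 β (hβ.sq h1.inj h2.inv.1) fun x hx => h0 ⟨x, hx⟩))
  obtain ⟨x, hx⟩ : a * b ∈ ea.range := e3 ▸ mul_mem s4 y6
  refine h0 ⟨x, hβ.unique h1.inj ?_⟩
  have x0 : b = a * ea x := by rw [hx, ← mul_assoc, h1.inv.1, one_mul]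
  simpa [← x0] using (ind_one_iff.2 h1.cen).mul (ind_conj x)

end Free

open H67.SP H67.UA in
theorem jobJB : H67.SP.JobJB.{u} := by
  intro n F _ _ _ _ _ _ G _ _ e t b fc fo jz h ⟨b₀, b1, b2, b3⟩
  have : Finite (XU n F) := Finite.of_injective _ h.inj
  have B : FJB (UU n F) Rt := ⟨FA.ns, FW.sylU, fun α g hg => hg.imp (FA.cls α g).1
    (Or.imp (FA.cls α g).2.1 (FA.cls α g).2.2), fun β hβ => ?_, fo.a4, jz⟩
  · exact jb_of B h (fun g => (ab (h.cje g)).ol) (fun g => (ab (h.cje g)).pf) (ab h).nr b1 b2 b3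
  obtain ⟨ζ, z1, z2⟩ := fc.cU β hβ
  obtain ⟨x, y, rfl⟩ := (FV.mem_ZU ζ).1 z1
  refine ⟨_, ?_, z2⟩
  by_cases hx : x = 0 <;> by_cases hy : y = 0
  · left; rw [hx, hy, zu, zero_smul, Tc, qq, EE_zero, one_mul]
  · exact Or.inr (Or.inr (Or.inl (hx ▸ (FR.zc 0 y).2.1 hy)))
  · exact Or.inr (Or.inl (hy ▸ (FR.zc x 0).1 hx))
  · exact Or.inr (Or.inr (Or.inr ((FR.zc x y).2.2 hx hy)))

end H18.SPJB
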