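/- Tower STD-SP, slot Z3: an invariant elementary abelian subgroup of the centraliser of an
involution of the symplectic group. -/
import Cfsg.Agent.H85.P6.H67_SPSpec

namespace H20 end H20
open H20
namespace H85.P6


set_option autoImplicit false
set_option linter.unusedSectionVars false

namespace H20.SpZ

open H64.SG (O2 Cz Cs Ns Inv2 mem_Cz mem_Cs)
open Matrix Subgroup H67.UA H67.SP
open H67.SA (St)

theorem map_O2 {G : Type*} [Group G] {x : G} {α : MulAut G} (h : α x = x) {g : G}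
    (hg : g ∈ O2 (Cz x)) : α g ∈ O2 (Cz x) := by
  induction hg using closure_induction with
  | mem g hg =>
    refine H64.SG.mem_O2_of_odd (mem_Cz.2 ?_) (by rw [MulEquiv.orderOf_eq]; exact hg.2)
    rw [← h, ← map_mul, ← map_mul, mem_Cz.1 hg.1]
  | one => rw [map_one]; exact one_mem _
  | mul a b _ _ ha hb => rw [map_mul]; exact mul_mem ha hb
  | inv a _ ha => rw [map_inv]; exact inv_mem ha

theorem mem_St {G : Type*} [Group G] {x : G} {M : Subgroup G}
    (hM : ∀ α : MulAut G, α x = x → ∀ g ∈ M, α g ∈ M) (α : MulAut G) (h : α x = x) :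
    α ∈ St (M ⊓ O2 (Cz x)) := fun g =>
  ⟨fun hg => ⟨hM α h g hg.1, map_O2 h hg.2⟩, fun hg => by
    have h' : α⁻¹ x = x := by rw [MulAut.inv_apply, MulEquiv.symm_apply_eq, h]
    have h1 := hM α⁻¹ h' _ hg.1
    have h2 := map_O2 h' hg.2
    rw [MulAut.inv_apply_self] at h1 h2
    exact ⟨h1, h2⟩⟩

variable {n : ℕ} {F : Type} [Field F] [StarRing F] [TrivialStar F] [CharP F 2] [Finite F]

/-- `N = x + 1` -/
abbrev NN (x : XU n F) (v : Vn n F) : Vn n F := ac x v + v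

theorem hf_comm (a b : Vn n F) : hf a b = hf b a := by rw [← star_hf, star_trivial]

theorem add_add_self (a b : Vn n F) : a + b + b = a := by rw [add_assoc, v_add_self, add_zero]

theorem eq_of_add {a b : Vn n F} (h : a + b = 0) : a = b := by
  rw [← add_add_self a b, h, zero_add]

theorem NN_add (x : XU n F) (a b : Vn n F) : NN x (a + b) = NN x a + NN x b := by
  rw [NN, NN, NN, ac_add]; abel

theorem NN_smul (x : XU n F) (c : F) (a : Vn n F) : NN x (c • a) = c • NN x a := by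
  rw [NN, ac_smul, smul_add]

theorem hf_NN (g : XU n F) (a b : Vn n F) : hf (NN g a) b = hf a (NN g⁻¹ b) := by
  rw [hf_add_left, hf_add_right, hf_ac_left]

variable {x : XU n F}

theorem hf_N (hx : x * x = 1) (a b : Vn n F) : hf (NN x a) b = hf a (NN x b) := by
  rw [hf_NN, inv_eq_of_mul_eq_one_left hx]

theorem ac_N (hx : x * x = 1) (a : Vn n F) : ac x (NN x a) = NN x a := by
  rw [ac_add, ← ac_mul, hx, ac_one, add_comm]

theorem hf_W (hx : x * x = 1) (a b : Vn n F) : hf (NN x a) (NN x b) = 0 := by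
  rw [hf_N hx, NN, ac_N hx, v_add_self, hf_zero_right]

variable (x) in
/-- `M_W` -/
def MW : Subgroup (XU n F) where
  carrier := {g | ∀ v, ∃ y, NN g v = NN x y}
  one_mem' v := ⟨0, by simp [NN]⟩
  mul_mem' := fun {g h} hg hh v => by
    obtain ⟨y, e⟩ := hg (ac h v)
    obtain ⟨z, e'⟩ := hh v
    refine ⟨y + z, ?_⟩
    rw [NN_add, ← e, ← e', NN, NN, NN, ac_mul, ← add_assoc, add_add_self]
  inv_mem' := fun {g} hg v => by
    obtain ⟨y, e⟩ := hg (ac g⁻¹ v)
    exact ⟨y, by rw [← e, NN, NN, ac_ac_inv, add_comm]⟩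

theorem MW_ker (hx : x * x = 1) {g : XU n F} (hg : g ∈ MW x) {a : Vn n F} (ha : NN x a = 0) :
    NN g a = 0 := eq_of_hf fun v => by
  obtain ⟨y, e⟩ := inv_mem hg v
  rw [hf_NN, e, ← hf_N hx, ha, hf_zero_left, hf_zero_left]

theorem MW_fix (hx : x * x = 1) {g : XU n F} (hg : g ∈ MW x) (a : Vn n F) :
    ac g (NN x a) = NN x a :=
  eq_of_add (MW_ker hx hg (by rw [NN, ac_N hx, v_add_self]))

theorem MW_sq (hx : x * x = 1) {g : XU n F} (hg : g ∈ MW x) : g * g = 1 := ac_ext fun v => by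
  obtain ⟨y, e⟩ := hg v
  have h := MW_fix hx hg y
  rw [← e, ac_add] at h
  rw [ac_mul, ac_one, ← add_add_self (ac g (ac g v)) (ac g v), h, add_comm, ← add_assoc,
    v_add_self, zero_add]

variable [Base n F]

theorem hf_self (a : Vn n F) : hf a a = 0 := FV.iso a

theorem semi (α : MulAut (XU n F)) : ∃ (τ : Vn n F → Vn n F) (σ : RingAut F),
    Function.Surjective τ ∧ (∀ a b, τ (a + b) = τ a + τ b) ∧
    (∀ a b, hf (τ a) (τ b) = σ (hf a b)) ∧ (∀ g v, ac (α g) (τ v) = τ (ac g v)) ∧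
    ∀ u z, hf z u = 0 → α (qq z u) = qq (τ z) (τ u) := by
  obtain ⟨g, σ, rfl⟩ := FA.semi α
  have h1 : ∀ a b : Vn n F, hf (fun i => σ (a i)) (fun i => σ (b i)) = σ (hf a b) := fun a b => by
    simp [hf]
  refine ⟨fun v => ac g fun i => σ (v i), σ, fun v => ⟨fun i => σ.symm (ac g⁻¹ v i), by simp⟩,
    fun a b => ?_, fun a b => by rw [hf_ac, h1], fun h v => ?_, fun u z hz => ?_⟩
  · rw [← ac_add]
    exact congrArg (ac g) (funext fun i => map_add σ _ _)
  · rw [MulAut.mul_apply, MulAut.conj_apply, ac_mul, ac_mul, ac_inv_ac, FA.fs_ac]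
  · rw [MulAut.mul_apply, MulAut.conj_apply, FA.fs_EE _ _ _ _ hz, map_zero,
      EE_conj (FV.ok _ _ _ (by rw [h1, hz, map_zero]))]

theorem MW_inv (α : MulAut (XU n F)) (h : α x = x) (g : XU n F) (hg : g ∈ MW x) : α g ∈ MW x := by
  obtain ⟨τ, σ, h1, h2, -, h4, -⟩ := semi α
  intro v
  obtain ⟨v, rfl⟩ := h1 v
  obtain ⟨y, e⟩ := hg v
  refine ⟨τ y, ?_⟩
  rw [NN, h4, ← h2, ← h, NN, h4, ← h2]
  exact congrArg τ e

/-- the element `u_r` -/
theorem u_mem (hx : x * x = 1) {y : Vn n F} (hy : hf y (NN x y) = 0) :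
    qq y (NN x y) ∈ Cz x := by
  rw [mem_Cz, ← mul_inv_eq_iff_eq_mul, EE_conj (FV.ok _ _ _ hy), ac_N hx]
  have := EE_shift 1 (NN x y) y 0
  rw [one_smul, H67.UA.tr, star_one, CharTwo.add_self_eq_zero, add_zero] at this
  rw [qq, ← this, NN, add_comm (ac x y), ← add_assoc, v_add_self, zero_add]

theorem u_ac (hx : x * x = 1) {y : Vn n F} (hy : hf y (NN x y) = 0) (a : Vn n F) :
    ac (qq y (NN x y)) (NN x a) = NN x a + hf (NN x a) y • NN x y :=
  ac_EE_perp (FV.ok _ _ _ hy) (hf_W hx a y)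

theorem cen_u (hx : x * x = 1) {w : XU n F} (hw : w ∈ MW x) (hc : w ∈ Cs (Cz x)) {y : Vn n F}
    (hy : hf y (NN x y) = 0) (h0 : NN x y ≠ 0) : ∃ c : F, NN w y = c • NN x y := by
  have h := mem_Cs.1 hc _ (u_mem hx hy)
  rw [eq_comm, ← mul_inv_eq_iff_eq_mul, EE_conj (FV.ok _ _ _ hy), MW_fix hx hw] at h
  obtain ⟨c, e, -⟩ := EE_inj h0 (FV.ok _ _ _ hy) (FV.ok _ _ _ (by
    rw [← MW_fix hx hw, hf_ac, hy])) h.symm
  exact ⟨c, by rw [NN, e, add_comm y, add_add_self]⟩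

theorem sep2 {a b : Vn n F} (h : Li a b) : ∃ y, hf y a = 0 ∧ hf y b = 1 := by
  obtain ⟨y, hy⟩ := FW.sep 2 ![a, b] (LinearIndependent.pair_iff.2 h) ![0, 1]
  exact ⟨y, hy 0, hy 1⟩

theorem zeta_mem (hx : x * x = 1) {p y : Vn n F} (hp : Wx x p) (li : Li p (NN x y))
    (yp : hf y p = 0) (hN : ∀ z, hf z p = 0 → hf z (NN x z) = 0) :
    qq (NN x y) p ∈ O2 (Cz x) := by
  obtain ⟨b, rfl⟩ := hp
  change qq (NN x y) (NN x b) ∈ _
  obtain ⟨z, zp, zr⟩ := sep2 li
  have hy := hN y yp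
  have hz := hN z zp
  have e1 : hf (NN x y) y = 0 := by rw [hf_comm, hy]
  have e2 : hf (NN x z) z = 0 := by rw [hf_comm, hz]
  have e3 : hf (NN x y) z = 1 := by rw [hf_comm, zr]
  have e4 : hf (NN x z) y = 1 := by rw [hf_N hx, zr]
  have e5 : hf (NN x b) y = 0 := by rw [hf_comm]; exact yp
  have e6 : hf (NN x b) z = 0 := by rw [hf_comm]; exact zp
  obtain ⟨ρ, hρ⟩ : ∃ ρ, ρ = qq y (NN x y) * qq z (NN x z) := ⟨_, rfl⟩
  have hC : ρ ∈ Cz x := hρ ▸ mul_mem (u_mem hx hy) (u_mem hx hz)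
  have r1 : ac ρ (NN x b) = NN x b := by
    rw [hρ, ac_mul, u_ac hx hz, e6, zero_smul, add_zero, u_ac hx hy, e5, zero_smul, add_zero]
  have r2 : ac ρ (NN x z) = NN x y + NN x z := by
    rw [hρ, ac_mul, u_ac hx hz, e2, zero_smul, add_zero, u_ac hx hy, e4, one_smul, add_comm]
  have r3 : ac ρ (NN x y) = NN x z := by
    rw [hρ, ac_mul, u_ac hx hz, e3, one_smul, ac_add, u_ac hx hy, u_ac hx hy, e1, e4, zero_smul,
      add_zero, one_smul, add_comm (NN x z), ← add_assoc, v_add_self, zero_add]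
  have r4 : ρ ^ 3 ∈ Stab (NN x z) := by
    rw [mem_Stab, pow_three, ac_mul, ac_mul, r2, ac_add, r3, r2, add_comm (NN x y), ← add_assoc,
      v_add_self, zero_add, r3]
  obtain ⟨k, m, hm, e⟩ := Nat.exists_eq_two_pow_mul_odd (orderOf_pos ρ).ne'
  obtain ⟨j, hj⟩ : ∃ j, 4 ^ k = 1 + 3 * j := ⟨4 ^ k / 3, by
    have : 4 ^ k % 3 = 1 := by rw [Nat.pow_mod]; simp
    omega⟩
  have h1 : ρ ^ 4 ^ k ∈ O2 (Cz x) :=
    H64.SG.mem_O2_of_odd (pow_mem hC _) (H64.SG.odd_orderOf_of_pow hm (by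
      rw [← pow_mul, ← orderOf_dvd_iff_pow_eq_one, e]
      exact Nat.mul_dvd_mul_right (pow_dvd_pow_of_dvd (by decide) k) m))
  have h2 : ac (ρ ^ 4 ^ k) (NN x b) = NN x b := pow_mem (mem_Stab.2 r1) _
  have h3 : ac (ρ ^ 4 ^ k) (NN x z) = NN x y + NN x z := by
    rw [hj, pow_add, pow_one, pow_mul, ac_mul, mem_Stab.1 (pow_mem r4 j), r2]
  have ok : ∀ a, Ok (NN x b) (NN x a) (0 : F) := fun a => FV.ok _ _ _ (hf_W hx a b)
  have hm : qq (NN x z) (NN x b) ∈ Cz x := by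
    rw [mem_Cz, ← mul_inv_eq_iff_eq_mul, EE_conj (ok z), ac_N hx, ac_N hx]
  have h4 : (qq (NN x z) (NN x b))⁻¹ * (ρ ^ 4 ^ k * qq (NN x z) (NN x b) * (ρ ^ 4 ^ k)⁻¹) ∈
      O2 (Cz x) := by
    simpa [mul_assoc] using mul_mem (H98.conj_mem_of_mem_normalizer'
      (H64.SG.Ns_le_Ns_O2 _ (le_normalizer hm)) h1) (inv_mem h1)
  rw [EE_conj (ok z), h2, h3, ← NN_add, EE_inv (ok z), star_zero, EE_mul (ok z) (ok _), hf_W hx,
    NN_add, add_comm (NN x y), ← add_assoc, v_add_self, zero_add, add_zero, add_zero] at h4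
  exact h4

theorem qq_MW (hx : x * x = 1) (a b : Vn n F) : qq (NN x a) (NN x b) ∈ MW x := fun v =>
  ⟨hf v (NN x a) • b + hf v (NN x b) • a, by
    rw [NN, ac_qq (FV.pp _ _ (hf_W hx b a)), NN_add, NN_smul, NN_smul, add_assoc v, add_comm v,
      add_add_self]⟩

theorem conj_of (hx : x * x = 1) (ha : Alt x) {g : XU n F} {c : F}
    (h : ∀ v, NN g v = c • NN x v) : g = 1 ∨ IsConj x g := by
  rcases eq_or_ne c 0 with rfl | hc
  · exact .inl (ac_ext fun v => by rw [ac_one]; exact eq_of_add (by simpa using h v))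
  have hg : g ∈ MW x := fun v => ⟨c • v, by rw [h, NN_smul]⟩
  have h2 : ∀ (g : XU n F) v, (mt g - 1) *ᵥ v = NN g v := fun g v => by
    rw [sub_mulVec, one_mulVec, NN, ac]
    ext i
    exact CharTwo.sub_eq_add _ _
  refine .inr ((FW.rkc x g hx (MW_sq hx hg)).2 ⟨?_, fun _ v => ?_, fun _ => ha⟩)
  · have h1 : (mt g - 1).mulVecLin = c • (mt x - 1).mulVecLin := LinearMap.ext fun v => by
      rw [LinearMap.smul_apply, mulVecLin_apply, mulVecLin_apply, h2, h2, h]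
    rw [rk, rk, Matrix.rank, Matrix.rank, h1, LinearMap.range_smul _ _ hc]
  · have h1 := congrArg (hf · v) (h v)
    simp only [hf_add_left, hf_smul_left, hf_self, ha v, add_zero, mul_zero] at h1
    exact h1

theorem cen_alt (hx : x * x = 1) (ha : Alt x) {w : XU n F} (hw : w ∈ MW x) (hc : w ∈ Cs (Cz x)) :
    ∃ c : F, ∀ v, NN w v = c • NN x v := by
  have hN : ∀ y, hf y (NN x y) = 0 := fun y => by
    rw [hf_comm, hf_add_left, ha, hf_self, add_zero]
  have h1 : ∀ y, ∃ c : F, NN w y = c • NN x y := fun y => by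
    by_cases h0 : NN x y = 0
    · exact ⟨0, by rw [MW_ker hx hw h0, zero_smul]⟩
    · exact cen_u hx hw hc (hN y) h0
  by_cases h0 : ∀ y, NN x y = 0
  · exact ⟨0, fun v => by rw [MW_ker hx hw (h0 v), zero_smul]⟩
  push Not at h0
  obtain ⟨y, hy⟩ := h0
  obtain ⟨c, e⟩ := h1 y
  refine ⟨c, fun v => ?_⟩
  obtain ⟨d, e1⟩ := h1 v
  obtain ⟨f, e2⟩ := h1 (v + y)
  rw [NN_add, NN_add, e, e1] at e2
  by_cases hd : d = f
  · rw [hd, smul_add f (NN x v), add_right_inj] at e2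
    rw [e1, hd, smul_left_injective F hy e2]
  · have h2 : d + f ≠ 0 := fun h => hd (by rw [← CharTwo.sub_eq_add] at h; exact sub_eq_zero.1 h)
    have h3 : NN x (v + ((c + f) / (d + f)) • y) = 0 := by
      rw [NN_add, NN_smul]
      ext i
      have := congrFun e2 i
      simp only [Pi.add_apply, Pi.smul_apply, smul_eq_mul, Pi.zero_apply] at this ⊢
      field_simp
      linear_combination this + (f * (ac x v i + v i) + f * (ac x y i + y i)) * two0 F
    have h4 := MW_ker hx hw h3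
    rw [NN_add, NN_smul] at h3 h4
    rw [eq_of_add h3, eq_of_add h4, e, smul_comm]

/-- the elements `s ∧ p`, `s ∈ W₀` -/
def M0 (hx : x * x = 1) (b : Vn n F) : Subgroup (XU n F) where
  carrier := {g | ∃ y, hf y (NN x b) = 0 ∧ g = qq (NN x y) (NN x b)}
  one_mem' := ⟨0, by simp, by simp [NN]⟩
  mul_mem' := by
    rintro _ _ ⟨y, hy, rfl⟩ ⟨z, hz, rfl⟩
    refine ⟨y + z, by rw [hf_add_left, hy, hz, add_zero], ?_⟩
    rw [NN_add, qq_add (FV.pp _ _ (hf_W hx b y)) (FV.pp _ _ (hf_W hx b z)) (hf_W hx z y)]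
  inv_mem' := by
    rintro _ ⟨y, hy, rfl⟩
    exact ⟨y, hy, inv_eq_of_mul_eq_one_left (MW_sq hx (qq_MW hx y b))⟩

theorem jobZ3 : JobZ3 := by
  intro n F _ _ _ _ _ _ _ x P p r y hx _ h
  obtain rfl : r = NN x y := h.wr
  have hN : ∀ z, hf z p = 0 → hf z (NN x z) = 0 := fun z hz => by
    rw [hf_comm, hf_add_left, hf_self, add_zero]
    rcases h.dg with h1 | h1
    · exact h1 z
    · rw [h1, hz]; simp
  have hζ := zeta_mem hx.1 h.wp h.li h.yp hN
  obtain ⟨b, rfl⟩ : ∃ b, p = NN x b := h.wp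
  rcases h.dg with ha | hd
  · refine ⟨MW x ⊓ O2 (Cz x), ⟨qq_MW hx.1 y b, hζ⟩, mem_St MW_inv, inf_le_right,
      fun a ha => MW_sq hx.1 ha.1, fun w hw hc => ?_⟩
    obtain ⟨c, e⟩ := cen_alt hx.1 ha hw.1 hc
    refine (conj_of hx.1 ha e).imp_right fun h1 => ⟨h1, conj_of hx.1 ha (c := 1 + c) fun v => ?_⟩
    rw [NN, ac_mul, ← add_add_self (ac w v) v, ac_add, show ac w v + v = _ from e v, ac_smul,
      ac_N hx.1, add_smul, one_smul, add_assoc, add_comm]
  · refine ⟨M0 hx.1 b ⊓ O2 (Cz x), ⟨⟨y, h.yp, rfl⟩, hζ⟩, mem_St ?_, inf_le_right, ?_, ?_⟩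
    · rintro α hα _ ⟨z, hz, rfl⟩
      obtain ⟨τ, σ, h1, h2, h3, h4, h5⟩ := semi α
      have h6 : ∀ v, ac x (τ v) = τ (ac x v) := fun v => by rw [← h4, hα]
      have h7 : τ (NN x b) = NN x b := eq_of_hf fun v => by
        obtain ⟨v, rfl⟩ := h1 v
        refine CharTwo.sq_injective ?_
        change _ ^ 2 = _ ^ 2
        rw [h3, hf_comm (NN x b) (τ v), ← hd, h6, h3, hd, map_pow, hf_comm]
      refine ⟨τ z, by rw [← h7, h3, hz, map_zero], ?_⟩
      rw [h5 _ _ (hf_W hx.1 z b), h7, h2, ← h6]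
    · rintro _ ⟨⟨z, -, rfl⟩, -⟩
      exact MW_sq hx.1 (qq_MW hx.1 z b)
    · rintro _ ⟨⟨s, hs, rfl⟩, -⟩ hc
      left
      have h0 : NN x b ≠ 0 := fun e => one_ne_zero (h.li 1 0 (by rw [e]; simp)).1
      by_cases li : Li (NN x b) (NN x s)
      · obtain ⟨z, z1, z2⟩ := sep2 li
        have h1 : hf s (NN x z) = 1 := by rw [← hf_N hx.1, hf_comm, z2]
        obtain ⟨c, e⟩ := cen_u hx.1 (qq_MW hx.1 s b) hc (hN z z1) (fun e => by simp [e] at h1)
        rw [NN, ac_qq (FV.pp _ _ (hf_W hx.1 b s)), z1, z2, zero_smul, add_zero, one_smul,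
          add_comm z, add_add_self] at e
        rw [e, hf_smul_right, h1, mul_one, star_trivial] at hs
        rw [hs, zero_smul] at e
        exact absurd e h0
      · rw [Li] at li
        push Not at li
        obtain ⟨c, d, e, h1⟩ := li
        have hd : d ≠ 0 := fun h2 => h1 (by
          rw [h2, zero_smul, add_zero] at e
          exact (smul_eq_zero.1 e).resolve_right h0) h2
        have e' : NN x s = (d⁻¹ * c) • NN x b := by
          rw [mul_smul, eq_of_add e, smul_smul, inv_mul_cancel₀ hd, one_smul]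
        rw [e', qq_self, H67.UA.tr, star_trivial, CharTwo.add_self_eq_zero, Tc, EE_zero]

end H20.SpZ
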