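import Cfsg.Agent.H85.P6.H67_SPSpec

namespace H34 end H34
open H34
namespace H85.P6

/-! STD-SP (S3129): slot QE, the `P`-equivariant automorphisms of `Q`. -/

set_option autoImplicit false
set_option linter.unusedSectionVars false

namespace H34.SpQE

open H64.SG (O2 Syl Cz Cs Ns Is2 Inv2 mem_Cz)
open Matrix Subgroup H67.UA H67.SP
open H67.SA (la)
open H59.SO (AutOn)

export H67.UA (ev)

variable {n : ℕ} {F : Type} [Field F] [StarRing F] [TrivialStar F] [CharP F 2] [Finite F]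

theorem hf_comm (x y : Vn n F) : hf x y = hf y x := by rw [← star_hf, star_trivial]

theorem aa (a : F) : a + a = 0 := CharTwo.add_self_eq_zero a

theorem hf0l : hf (ev 0 : Vn n F) (ev (la n)) = 1 := by rw [hf_ev, if_pos]; simp

theorem hfl0 : hf (ev (la n) : Vn n F) (ev 0) = 1 := by rw [hf_comm, hf0l]

theorem Hy.add {x y : Vn n F} (h : Hy x) (h' : Hy y) : Hy (x + y) :=
  ⟨by rw [hf_add_left, h.1, h'.1, add_zero], by rw [hf_add_left, h.2, h'.2, add_zero]⟩

theorem Hy.smul {x : Vn n F} (h : Hy x) (a : F) : Hy (a • x) :=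
  ⟨by rw [hf_smul_left, h.1, mul_zero], by rw [hf_smul_left, h.2, mul_zero]⟩

theorem hy0 : Hy (0 : Vn n F) := ⟨hf_zero_left _, hf_zero_left _⟩

theorem hy_ev {i : Fin (n + 1)} (h0 : i.val ≠ 0) (h1 : i.val ≠ n) : Hy (ev i : Vn n F) :=
  ⟨by rw [hf_ev, if_neg]; intro h; have := congrArg Fin.val h; simp [Fin.val_rev] at this; omega,
   by rw [hf_ev, if_neg]; intro h; have := congrArg Fin.val h; simp [Fin.val_rev] at this; omega⟩

variable [FV n F]

theorem hfs (v : Vn n F) : hf v v = 0 := FV.iso v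

/-- the projection to `H` -/
theorem exists_pr (v : Vn n F) : ∃ w, Hy w ∧ ∀ y, Hy y → hf w y = hf v y := by
  refine ⟨v + hf v (ev (la n)) • ev 0 + hf v (ev 0) • ev (la n), ⟨?_, ?_⟩, fun y hy => ?_⟩
  · simp only [hf_add_left, hf_smul_left, hfl0, hfs, mul_zero, add_zero, mul_one, aa]
  · simp only [hf_add_left, hf_smul_left, hf0l, hfs, mul_zero, mul_one, aa]
  · simp only [hf_add_left, hf_smul_left, hf_symm hy.1, hf_symm hy.2, mul_zero, add_zero]

theorem exists_ne {y : Vn n F} (hy : Hy y) (h0 : y ≠ 0) : ∃ w, Hy w ∧ hf w y ≠ 0 := by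
  by_contra! h
  refine h0 (eq_of_hf fun v => ?_)
  obtain ⟨w, hw, e⟩ := exists_pr v
  rw [hf_zero_left, hf_comm, ← e y hy, h w hw]

theorem inj {x y : Vn n F} {c d : F} (hx : Hy x) (hy : Hy y)
    (e : EE (ev 0) x c = EE (ev 0) y d) : x = y ∧ c = d := by
  obtain ⟨a, h1, h2⟩ := EE_inj (ev_ne 0) (FV.ok _ x c hx.1) (FV.ok _ y d hy.1) e
  have := hy.2
  rw [h1, hf_add_left, hx.2, hf_smul_left, hf0l, zero_add, mul_one] at this
  subst this
  exact ⟨by simpa using h1.symm, by simpa using h2⟩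

theorem acT (c : F) (w y : Vn n F) : ac (Tc c w) y = y + (c * hf y w) • w :=
  ac_Tc (FV.iso w) (star_trivial c) y

theorem Tc_fix {w : Vn n F} (hw : Hy w) (c : F) : ac (Tc c w) (ev 0) = ev 0 := by
  rw [acT, hf_symm hw.1, mul_zero, zero_smul, add_zero]

theorem mulE {x y : Vn n F} (hx : Hy x) (hy : Hy y) (c d : F) :
    EE (ev 0) x c * EE (ev 0) y d = EE (ev 0) (x + y) (c + d + hf y x) :=
  EE_mul (FV.ok _ x c hx.1) (FV.ok _ y d hy.1)

theorem memQ {x : Vn n F} (hx : Hy x) (c : F) : EE (ev 0) x c ∈ QQ n F :=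
  (FV.mem_QQ _).2 ⟨x, c, hx, rfl⟩

theorem qe [FW n F] (hn : 5 ≤ n) : QE n F := by
  intro θ hθ eq
  have one : θ 1 = 1 := by simpa using hθ.mul 1 (one_mem _) 1 (one_mem _)
  -- equivariance under the transvections of `H`
  have eqv : ∀ {y x w : Vn n F} {k c : F}, Hy y → Hy x → Hy w →
      θ (EE (ev 0) y 0) = EE (ev 0) x k →
      θ (EE (ev 0) (ac (Tc c w) y) 0) = EE (ev 0) (ac (Tc c w) x) k := by
    intro y x w k c hy hx hw h
    have := eq (Tc c w) (mem_Stab.2 (Tc_fix hw c)) _ (memQ hy 0)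
    rwa [h, EE_conj (FV.ok _ y 0 hy.1), EE_conj (FV.ok _ x k hx.1), Tc_fix hw] at this
  have step : ∀ {y y' : Vn n F} {l k : F}, Hy y → Hy y' → hf y y' ≠ 0 →
      θ (EE (ev 0) y 0) = EE (ev 0) (l • y) k → θ (EE (ev 0) y' 0) = EE (ev 0) (l • y') k := by
    intro y y' l k hy hy' h0 h
    have e : ac (Tc (hf y y')⁻¹ (y + y')) y = y' := by
      rw [acT, hf_add_right, hfs, zero_add, inv_mul_cancel₀ h0, one_smul,
        ← add_assoc, v_add_self, zero_add]
    have := eqv (c := (hf y y')⁻¹) hy (Hy.smul hy l) (Hy.add hy hy') h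
    rwa [ac_smul, e] at this
  let i1 : Fin (n + 1) := ⟨1, by omega⟩
  let i2 : Fin (n + 1) := ⟨2, by omega⟩
  have h1 : Hy (ev i1 : Vn n F) := hy_ev (by simp [i1]) (by simp [i1]; omega)
  have h2 : Hy (ev i2 : Vn n F) := hy_ev (by simp [i2]) (by simp [i2]; omega)
  have h1' : Hy (ev i1.rev : Vn n F) :=
    hy_ev (by simp [i1, Fin.val_rev]; omega) (by simp [i1, Fin.val_rev]; omega)
  obtain ⟨x, k, hx, e1⟩ := (FV.mem_QQ _).1 (hθ.bij.mapsTo (memQ h1 0))
  obtain ⟨l, rfl⟩ : ∃ l : F, x = l • ev i1 := FW.dual _ x (ev_ne i1) fun v hv => by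
    obtain ⟨w, hw, e⟩ := exists_pr v
    have := eqv (c := 1) h1 hx hw e1
    rw [acT, hf_comm, e _ h1, hv, mul_zero, zero_smul, add_zero, e1] at this
    have h3 := (inj hx (by rw [acT]; exact Hy.add hx (Hy.smul hw _)) this).1
    rw [acT, one_mul, left_eq_add, smul_eq_zero] at h3
    rw [← e x hx]
    exact h3.elim (fun h => by rwa [hf_comm]) fun h => by rw [h, hf_zero_left]
  have all : ∀ y, Hy y → y ≠ 0 → θ (EE (ev 0) y 0) = EE (ev 0) (l • y) k := fun y hy h0 => by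
    obtain ⟨w1, hw1, n1⟩ := exists_ne h1 (ev_ne i1)
    obtain ⟨w2, hw2, n2⟩ := exists_ne hy h0
    obtain ⟨w, hw, m1, m2⟩ : ∃ w, Hy w ∧ hf w (ev i1) ≠ 0 ∧ hf w y ≠ 0 := by
      by_cases c1 : hf w1 y = 0
      · by_cases c2 : hf w2 (ev i1) = 0
        · exact ⟨w1 + w2, Hy.add hw1 hw2, by rwa [hf_add_left, c2, add_zero],
            by rwa [hf_add_left, c1, zero_add]⟩
        · exact ⟨w2, hw2, c2, n2⟩
      · exact ⟨w1, hw1, n1, c1⟩
    exact step hw hy m2 (step h1 hw (by rwa [hf_comm]) e1)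
  have p12 : hf (ev i2 : Vn n F) (ev i1) = 0 := by
    rw [hf_ev, if_neg]; intro h; have := congrArg Fin.val h; simp [i1, i2, Fin.val_rev] at this; omega
  have k0 : k = 0 := by
    have n12 : (ev i1 + ev i2 : Vn n F) ≠ 0 := fun h => by
      have := congrFun h i1
      simp [ev_apply, i1, i2] at this
    have := hθ.mul _ (memQ h1 0) _ (memQ h2 0)
    rw [mulE h1 h2, p12, add_zero, add_zero, all _ (Hy.add h1 h2) n12, e1, all _ h2 (ev_ne _),
      mulE hx (Hy.smul h2 l), aa, hf_smul_left, hf_smul_right, p12] at this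
    simpa using (inj (Hy.smul (Hy.add h1 h2) l) (Hy.add hx (Hy.smul h2 l)) this).2
  subst k0
  have all0 : ∀ y, Hy y → θ (EE (ev 0) y 0) = EE (ev 0) (l • y) 0 := fun y hy => by
    by_cases h0 : y = 0
    · rw [h0, smul_zero, EE_zero, one]
    · exact all y hy h0
  have cen : ∀ b : F, θ (EE (ev 0) 0 b) = EE (ev 0) 0 (l * l * b) := fun b => by
    have hb := Hy.smul h1' b
    have hs := Hy.add h1 hb
    have pb : hf (b • ev i1.rev : Vn n F) (ev i1) = b := by
      rw [hf_smul_left, hf_ev, if_pos (Fin.rev_rev _).symm, mul_one]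
    have f1 : EE (ev 0) (ev i1) 0 * EE (ev 0) (b • ev i1.rev) 0 *
        EE (ev 0) (ev i1 + b • ev i1.rev) 0 = EE (ev 0 : Vn n F) 0 b := by
      rw [mulE h1 hb, mulE hs hs, pb, v_add_self, hfs]; simp
    rw [← f1, hθ.mul _ (mul_mem (memQ h1 0) (memQ hb 0)) _ (memQ hs 0),
      hθ.mul _ (memQ h1 0) _ (memQ hb 0), all0 _ h1, all0 _ hb, all0 _ hs,
      mulE hx (Hy.smul hb l), ← smul_add, mulE (Hy.smul hs l) (Hy.smul hs l), v_add_self,
      hfs, hf_smul_left, hf_smul_right, pb,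
      star_trivial]
    simp [mul_assoc]
  have l0 : l ≠ 0 := by
    rintro rfl
    rw [zero_smul, EE_zero, ← one] at e1
    have := hθ.bij.injOn (memQ h1 0) (one_mem _) e1
    rw [← EE_zero (ev 0)] at this
    exact ev_ne i1 (inj h1 hy0 this).1
  refine ⟨l, l0, fun u hu => ?_⟩
  obtain ⟨y, c, hy, rfl⟩ := (FV.mem_QQ _).1 hu
  obtain ⟨-, t1, -, t2⟩ := FV.tor (n := n) l l0
  rw [EE_conj (FV.ok _ y c hy.1), t1, t2 y hy, EE_smul, star_trivial,
    show EE (ev 0) y c = EE (ev 0) y 0 * EE (ev 0) 0 c by rw [mulE hy hy0]; simp,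
    hθ.mul _ (memQ hy 0) _ (memQ hy0 c), all0 y hy, cen, mulE (Hy.smul hy l) hy0]
  simp [nm]

theorem jobQE : JobQE := fun _ _ _ _ _ _ _ p _ => qe p.five

end H34.SpQE
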