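import Cfsg.Agent.H85.P6.H86_SPIKit

namespace H6 end H6
open H6
namespace H85.P6

/-! STD-SP chapter I: the job A2. -/

set_option autoImplicit false
set_option linter.unusedSectionVars false

namespace H6.Spi

open H67.UA hiding Par
open H67.SP H86.SPI

universe u

variable {n : ℕ} {F : Type} [Field F] [StarRing F] [TrivialStar F] [CharP F 2] [Finite F] [Par n F]
  {x x' : Vn n F}

/-- the elements of `M₂` -/
noncomputable def mm (x x' : Vn n F) (a b c : F) : XU n F := TT (a • x + b • x') * qq (c • x') x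

theorem mm_mul (h : hf x x' = 0) (a b c a' b' c' : F) :
    mm x x' a b c * mm x x' a' b' c' = mm x x' (a + a') (b + b') (c + c' + (a * b' + b * a')) := by
  rw [mm, mm, mm, mul_assoc, ← mul_assoc (qq _ x), ← TT_comm_qq h, ← mul_assoc, ← mul_assoc, TT_mul (hf_comb h a b a' b'),
    qq_comb h, mul_assoc, mul_assoc, qq_add_smul h, qq_add_smul h, add_comm (a * b' + b * a'),
    show a • x + b • x' + (a' • x + b' • x') = (a + a') • x + (b + b') • x' by module]

theorem mm_swap (h : hf x x' = 0) (a b c : F) : mm x' x a b c = mm x x' b a c := by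
  have := qq_comb h 0 1 c 0
  simp only [zero_smul, one_smul, zero_add, add_zero, zero_mul, one_mul] at this
  rw [mm, mm, this, add_comm (a • x')]

theorem mm_l (x x' : Vn n F) (a : F) : mm x x' a 0 0 = TT (a • x) := by simp [mm]
theorem mm_r (x x' : Vn n F) (b : F) : mm x x' 0 b 0 = TT (b • x') := by simp [mm]
theorem mm_q (x x' : Vn n F) (c : F) : mm x x' 0 0 c = qq (c • x') x := by simp [mm]
theorem mm_zero (x x' : Vn n F) : mm x x' 0 0 0 = 1 := by simp [mm]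

theorem mm_sq (h : hf x x' = 0) (a b c : F) : mm x x' a b c * mm x x' a b c = 1 := by
  rw [mm_mul h, ← mm_zero x x']
  congr 1
  · exact CharTwo.add_self_eq_zero a
  · exact CharTwo.add_self_eq_zero b
  · linear_combination (c + a * b) * two0 F

theorem mm_inj (hF : FC n F) (h : hf x x' = 0) (l : Li x x') {a b c a' b' c' : F}
    (e : mm x x' a b c = mm x x' a' b' c') : a = a' ∧ b = b' ∧ c = c' := hF.uq x x' h l a b c a' b' c' e

variable {G : Type u} [Group G] {e : XU n F →* G} {t : G} {k : F} {y : Vn n F → G}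

/-- the action of `y (r x + s x')` on `M₂` -/
theorem act_mm (h : Fam e t k y) (hT : MT n F) (hW : MW n F) (h1 : q0 x = 0) (h2 : q0 x' = 0) (h0 : hf x x' = 0)
    (r s a b c : F) : y (r • x + s • x') * e (mm x x' a b c) * (y (r • x + s • x'))⁻¹ =
      e (mm x x' a b (c + (r * b + s * a))) := by
  have e1 := h.act_TT hT (q0_comb h1 h2 h0 r s) (q0_comb h1 h2 h0 a b) (hf_comb h0 r s a b)
  have e2 := h.comm_qq hW h1 h2 h0 r s c
  rw [qq_comb h0] at e1
  rw [mm, mm, add_comm c, ← qq_add_smul h0, ← mul_assoc, map_mul, map_mul _ (_ * _), ← e1, mul_assoc, mul_assoc,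
    mul_assoc, mul_assoc]
  congr 2
  rw [eq_inv_mul_iff_mul_eq, ← mul_assoc, e2, mul_inv_cancel_right]

theorem act_l (h : Fam e t k y) (hT : MT n F) (hW : MW n F) (h1 : q0 x = 0) (h2 : q0 x' = 0) (h0 : hf x x' = 0)
    (a b c : F) : y x * e (mm x x' a b c) * (y x)⁻¹ = e (mm x x' a b (c + b)) := by
  simpa using act_mm h hT hW h1 h2 h0 1 0 a b c

theorem act_r (h : Fam e t k y) (hT : MT n F) (hW : MW n F) (h1 : q0 x = 0) (h2 : q0 x' = 0) (h0 : hf x x' = 0)
    (a b c : F) : y x' * e (mm x x' a b c) * (y x')⁻¹ = e (mm x x' a b (c + a)) := by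
  simpa using act_mm h hT hW h1 h2 h0 0 1 a b c

theorem sq_ex (hT : MT n F) (hV : AV e t) (hk : k ≠ 0) (h : Fam e t k y) (hD : DD e t k y) (h1 : q0 x = 0)
    (h0 : x ≠ 0) : ∃ a : F, y x * y x = e (TT (a • x)) := by
  obtain ⟨d1, d2⟩ := hD x x h1 h1 (hf_self x)
  rw [dd, v_add_self, h.zero, one_mul] at d1 d2
  rw [qq_dep, map_one, mul_one, mul_inv_eq_iff_eq_mul] at d2
  obtain ⟨a, ha | ha⟩ := hV.v1 _ x d2 h0 fun p hp => d1 p hp hp
  · exact ⟨a, ha⟩
  · exfalso
    have c : y x * e (TT (a • x)) = e (TT (a • x)) * y x := by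
      rw [TT_smul]; exact h.comm_EE hT h1 (hf_zero_left x) _
    have e1 : y x * (y x * y x) * (y x)⁻¹ = y x * y x := by group
    rw [ha, show y x * (t * e (TT (a • x))) * (y x)⁻¹ = y x * t * (y x)⁻¹ * (y x * e (TT (a • x)) * (y x)⁻¹) by group,
      h.tr x h1, c, mul_inv_cancel_right, mul_left_inj, mul_eq_left, map_eq_one_iff _ hV.inj] at e1
    exact h0 ((smul_eq_zero.1 (TT_eq_one e1)).resolve_left hk)

theorem com_ex (hT : MT n F) (hW : MW n F) (hF : FC n F) (hV : AV e t) (hk : k ≠ 0) (h : Fam e t k y)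
    (hD : DD e t k y) {ρ : F} (hs : ∀ x, q0 x = 0 → y x * y x = e (TT (ρ • x))) (hx : Ts x x') :
    ∃ a c : F, y x' * y x * (y x')⁻¹ = y x * e (mm x x' a ρ c) := by
  obtain ⟨d1, d2⟩ := hD x x' hx.l hx.r hx.p
  obtain ⟨d3, d4⟩ := hD x' x hx.r hx.l hx.symm.p
  rw [← mm_q, mm_swap hx.p, mm_q, ← d2] at d4
  have e0 : y x' * y x * (y x')⁻¹ = y x * (y x' * ((dd y x x')⁻¹ * dd y x' x) * (y x')⁻¹) := by
    rw [dd, dd, add_comm x']; group
  have al := act_l h hT hW hx.l hx.r hx.p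
  have ar := act_r h hT hW hx.l hx.r hx.p
  have sq : ∀ μ, y x' * y x * (y x')⁻¹ = y x * μ →
      e (mm x x' ρ 0 ρ) = y x * μ * (y x)⁻¹ * e (mm x x' ρ 0 0) * μ := fun μ hμ => by
    have := ar ρ 0 0
    rw [zero_add] at this
    rw [← this, mm_l, ← hs x hx.l]
    calc _ = y x' * y x * (y x')⁻¹ * (y x' * y x * (y x')⁻¹) := by group
      _ = _ := by rw [hμ]; group
  obtain ⟨a, b, c, k1 | k1⟩ := hV.v2 ((dd y x x')⁻¹ * dd y x' x) x x' (by
      rw [mul_assoc, mul_inv_eq_iff_eq_mul.1 d4]; group) hx.p hx.li fun p p1 p2 => by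
    rw [mul_assoc, d3 p p2 p1, ← mul_assoc, ← mul_assoc, inv_mul_eq_iff_eq_mul.2 (eq_mul_inv_iff_mul_eq.2 (d1 p p1 p2).symm |>.trans
      (mul_assoc _ _ _))]
  · rw [k1, ← mm, ar] at e0
    have := sq _ e0
    rw [al, ← map_mul, ← map_mul, mm_mul hx.p, mm_mul hx.p] at this
    obtain ⟨-, -, k3⟩ := mm_inj hF hx.p hx.li (hV.inj this)
    obtain rfl : ρ = b := by linear_combination k3 + (c + a + a * b + b * ρ) * two0 F
    exact ⟨a, _, e0⟩
  · exfalso
    rw [k1, ← mm, show y x' * (t * e (mm x x' a b c)) * (y x')⁻¹ =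
      y x' * t * (y x')⁻¹ * (y x' * e (mm x x' a b c) * (y x')⁻¹) by group, ar, h.tr x' hx.r, ← mm_r x, mul_assoc t,
      ← map_mul, mm_mul hx.p] at e0
    have := sq _ e0
    generalize 0 + (c + a) + (0 * b + k * a) = c' at this
    rw [show ∀ m, y x * (t * m) * (y x)⁻¹ = y x * t * (y x)⁻¹ * (y x * m * (y x)⁻¹) from fun m => by group, al,
      h.tr x hx.l, ← mm_l x x', mul_assoc t, mul_assoc t, ← map_mul, ← map_mul, hV.cen, mul_assoc, ← mul_assoc t,
      hV.tt, one_mul, ← map_mul, mm_mul hx.p, mm_mul hx.p, mm_mul hx.p] at this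
    obtain ⟨k3, -, -⟩ := mm_inj hF hx.p hx.li (hV.inj this)
    exact hk (by linear_combination -k3 - a * two0 F)

theorem jobA2 : JobA2.{u} := by
  intro n F _ _ _ _ _ _ G _ _ e t _ hT hW hF hV k y hk h hD
  obtain ⟨ρ, hρ⟩ := sq_ex hT hV hk h hD (q0_ev (0 : Fin (n + 1))) (ev_ne 0)
  have hs : ∀ x, q0 x = 0 → y x * y x = e (TT (ρ • x)) := fun x hx => by
    by_cases h0 : x = 0
    · simp [h0, h.zero]
    obtain ⟨g, hg, rfl⟩ := hW.wt1 _ x (q0_ev 0) (ev_ne 0) hx h0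
    rw [← h.eqv g hg _ (q0_ev 0), ← ac_smul, ← TT_conj, map_mul, map_mul, map_inv, ← hρ]; group
  refine ⟨ρ, hs, fun x x' hx => ?_⟩
  obtain ⟨a, c, e1⟩ := com_ex hT hW hF hV hk h hD hs hx
  obtain ⟨a', c', e2⟩ := com_ex hT hW hF hV hk h hD hs hx.symm
  rw [mm_swap hx.p] at e2
  have al := act_l h hT hW hx.l hx.r hx.p
  have s' : y x' * y x' = e (mm x x' 0 ρ 0) := by rw [mm_r, hs x' hx.r]
  have : y x * e (mm x x' a ρ c) * (y x)⁻¹ * (y x * (y x' * y x') * (y x)⁻¹) = y x' * y x' * e (mm x x' ρ a' c') := by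
    rw [← e1, mul_assoc (y x') (y x'), ← e2]; group
  rw [s', al, al, ← map_mul, ← map_mul, mm_mul hx.p, mm_mul hx.p] at this
  obtain ⟨k1, -, -⟩ := mm_inj hF hx.p hx.li (hV.inj this)
  rw [add_zero, zero_add] at k1
  exact ⟨c, by rw [e1, k1, mm, smul_add]⟩

end H6.Spi
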