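import Cfsg.Agent.H85.P6.H86_SPIDQ
import Cfsg.Agent.H85.P6.H66_SPM1
import Cfsg.Agent.H85.P6.H96_SPMi
import Cfsg.Agent.H85.P6.H62_SPIMW
import Cfsg.Agent.H85.P6.H54_SPIFC
import Cfsg.Agent.H85.P6.H56_SpiMO
import Cfsg.Agent.H85.P6.H2_SPIA0
import Cfsg.Agent.H85.P6.H17_SpiA1
import Cfsg.Agent.H85.P6.H6_SpiA2
import Cfsg.Agent.H85.P6.H38_SPIA3
import Cfsg.Agent.H85.P6.H1_SPIK1
import Cfsg.Agent.H85.P6.H60_SpiA5
import Cfsg.Agent.H85.P6.H81_SPIR1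

namespace H86 end H86
open H86
namespace H85.P6

/-! STD-SP chapter I: the result. -/

set_option autoImplicit false

namespace H86.SPI

open H67.SP

universe u

theorem jobI : JobI.{u} :=
  jobI_of H66.SPM1.jobM1 H96.SPM.jobMI H96.SPM.jobMT H62.SPIMW.jobMW H54.SPI.jobFC H2.SPI.jobA0
    H17.SpiA1.jobA1 H2.SPI.jobDD H6.Spi.jobA2 H38.SPIA3.jobA3 jobDQ H1.SPIK1.jobK1 H60.SPI.jobA5
    H81.SPIR1.jobR1

variable (n : ℕ) (F : Type) [Field F] [StarRing F] [TrivialStar F] [CharP F 2] [Finite F] [Par n F]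

theorem mi : MI n F := H96.SPM.jobMI n F (H66.SPM1.jobM1 n F)
theorem mT : MT n F := H96.SPM.jobMT n F (mi n F)
theorem mw : MW n F := H62.SPIMW.jobMW n F (mi n F)
theorem fc : FC n F := H54.SPI.jobFC n F
theorem mo : MO n F := H56.SpiMO.jobMO n F (mi n F).toMI1

end H86.SPI
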