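import Cfsg.Agent.H85.P6.Fac
import Cfsg.Agent.H85.P6.H86_SPIFin
import Cfsg.Agent.H85.P6.H18_SPJB
import Cfsg.Agent.H85.P6.H89_SPJC
import Cfsg.Agent.H85.P6.H34_SpZ1
import Cfsg.Agent.H85.P6.H61_SPZ2
import Cfsg.Agent.H85.P6.H20_SpZ3
import Cfsg.Agent.H85.P6.H34_SpQE
import Cfsg.Agent.H85.P6.H46_SPCF
import Cfsg.Agent.H85.P6.H1_SPCoc
import Cfsg.Agent.H67.P6.H67_SWDef
import Cfsg.Agent.H4.P6.H84_SpFM
import Cfsg.Agent.H99.P6FB
import Cfsg.Agent.H73.P6PC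
import Cfsg.Agent.H59.SOAsm
import Cfsg.Agent.H67.SAAsm
import Cfsg.Agent.H55.Transport

/-! P6 port (row S1734): a simple group has no standard `Sp₆(2)` whose centraliser has cyclic Sylow
`2`-subgroups; the assembly. -/

set_option autoImplicit false
set_option linter.unusedSectionVars false

namespace H85.P6.Asm

open Cfsg Subgroup H67.SP
open H67.UA (XU)
open H64.SG (O2 Cz Cs Ns Cfg mem_Cz)
open H59.SO (NS B0 CE CW G12 cfg_facts)
open H86.SPI (RO)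
open H78.S2 (base fo)

universe u

theorem fc (n : ℕ) (F : Type) [Field F] [StarRing F] [TrivialStar F] [CharP F 2] [Finite F]
    [H67.SP.Par n F] (q : Nat.card F = 2) : FC n F := H78.S2.fc_of n F H73.P6PC.jobPC q

/-- Chapter G, part N. -/
def JobNFA : Prop := AllA.{u} fun n F _ _ _ _ _ _ _ e t => CH e t → RO e t → ¬ Fu e t (xa n F)
/-- Chapter G, part B. -/
def JobGDI : Prop := AllA.{u} fun n F _ _ _ _ _ _ _ e t => B0 e t → RO e t → ¬ Fu e t (xa n F) →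
  ∀ u, Fu e t u → u = 1 ∨ Lr u
/-- The endgame up to the transfer. -/
def JobEnd : Prop := AllA.{u} fun n F _ _ _ _ _ G _ e t => FO n F → ∀ F₀ : Subgroup G,
  Cfg F₀ e.range t → CE e t → (RS2 e t ∨ RL1 e t ∨ RU1 e t ∨
    ((RL0 e t ∨ RU0 e t) ∧ ¬ Fu e t (xb n F)) ∨ (RO e t ∧ ∀ v, Fu e t v → v = 1 ∨ Lr v)) → t ∉ F₀

/-- The open chapters. -/
structure Ch : Prop where
  p2a : JobP2a.{u}
  two : JobII.{u}
  three : JobIII.{u}
  wr : _root_.H67.P6.H67.SW.JobWR.{u}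
  nfa : JobNFA.{u}
  gdi : JobGDI.{u}
  fin : JobEnd.{u}

variable {n : ℕ} {F : Type} [Field F] [StarRing F] [TrivialStar F] [CharP F 2] [Finite F]
  [p : H67.SP.Par n F] [Base n F] {G : Type u} [Group G] [Finite G] {e : XU n F →* G} {t : G}

omit p in
theorem rt_b : Rt (xb n F) := Or.inl ((FR.lr _).2 (IsConj.refl _))
omit p in
theorem rt_a : Rt (xa n F) := Or.inr (Or.inl ((FR.sr _).2 (IsConj.refl _)))

/-- The head: `CE`, and one of the cases `β`, `α`. -/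
theorem head (q : Nat.card F = 2) {F₀ : Subgroup G} (hk : Function.Injective e)
    (h : Cfg F₀ e.range t) : CE e t ∧ (CB e t ∨ CA e t) := by
  have b : Base n F := ‹_›
  have c := fc n F q
  have o := fo n F
  have hX : NS (XU n F) := FA.ns
  obtain ⟨b0, h1, -⟩ := cfg_facts hX hk h
  have mv := H89.SP.jobMV n F G e t b c b0
  have jc := H89.SP.jobJC n F G e t b c (H4.P6.H84.SpFM.jobFM n F b) b0
  obtain ⟨z, z1, z2⟩ := H18.SPJB.jobJB n F G e t b c o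
    (jz H34.SpQE.jobZ1 H61.SPZ.jobZ2 H20.SpZ.jobZ3 n F b) b0 h1
  have fu : ∀ x : XU n F, IsConj x z → Fu e t x := fun x hx => by
    obtain ⟨g, rfl⟩ := isConj_iff.1 hx
    refine z2.trans (isConj_iff.2 ⟨(e g)⁻¹, ?_⟩)
    rw [map_mul, map_mul, map_inv, ← mul_assoc, ← mul_assoc, ← mul_assoc, ← map_inv, ← b0.toB1.comm,
      map_inv]
    group
  have k : Fu e t (xb n F) ∨ Fu e t (xa n F) := by
    rcases z1 with k | k | k
    · exact Or.inl (fu _ ((FR.lr z).1 k))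
    · exact Or.inr (fu _ ((FR.sr z).1 k))
    · exact jc.1 (mv _ (Or.inr (Or.inr ((FR.cr _).2 (IsConj.refl _)))) (fu _ ((FR.cr z).1 k)))
  have k1 : CB e t ∨ CA e t := by
    by_cases k2 : Fu e t (xb n F)
    exacts [Or.inl (mv _ rt_b k2), Or.inr ⟨mv _ rt_a (k.resolve_left k2), k2⟩]
  exact ⟨jc.2 (k1.imp_right And.left), k1⟩

/-- The chapters. -/
theorem res (S : Ch.{u}) (h : CH e t) (k : CB e t ∨ CA e t) : RW e t ∨ RS2 e t ∨ RL1 e t ∨ RU1 e t ∨
    ((RL0 e t ∨ RU0 e t) ∧ ¬ Fu e t (xb n F)) ∨ (RO e t ∧ ∀ v, Fu e t v → v = 1 ∨ Lr v) := by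
  have b : Base n F := ‹_›
  have c := fc n F h.q2
  rcases k with k | k
  · obtain ⟨κ, k1⟩ := S.p2a n F G e t b c (H34.SpQE.jobQE n F b)
      (H1.SPCoc.jobCOC n F b h.q2 (H46.SPCF.jobCF n F b)) (H99.P6.SPB.jobFB n F b) h k
    by_cases k0 : κ = 0
    · subst k0
      rcases S.three n F G e t h k1 with m | m | m | m
      exacts [.inr (.inl m), .inl m, .inr (.inr (.inl m)), .inr (.inr (.inr (.inl m)))]
    · have r := H86.SPI.jobI n F G e t h κ k0 k1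
      exact .inr (.inr (.inr (.inr (.inr ⟨r, S.gdi n F G e t b c h.toCE.b0 r
        (S.nfa n F G e t b c h r)⟩))))
  · exact .inr (.inr (.inr (.inr (.inl ⟨S.two n F G e t h k, k.2⟩))))

theorem no_wr (S : Ch.{u}) (q : Nat.card F = 2) {F₀ : Subgroup G} (hk : Function.Injective e)
    (h : Cfg F₀ e.range t) (ce : CE e t) : ¬ RW e t := by
  rintro ⟨e₁, e₂, w⟩
  have hX : NS (XU n F) := FA.ns
  have : (G12 e₁ e₂).Normal := normalizer_eq_top_iff.1
    (S.wr n F G e t ‹_› (fc n F q) (fo n F) ce e₁ e₂ w)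
  have h5 : F₀ ≤ G12 e₁ e₂ := hX.F0_le h hk w.range_le
  have h6 := hX.range_le_F0 h e₁
  obtain ⟨a, ha⟩ := hX.exists_ne
  rcases h.simple.eq_bot_or_eq_top_of_normal (e₁.range.subgroupOf F₀)
    ((normal_subgroupOf_iff_le_normalizer h6).2 (h5.trans w.G12_le_Ns)) with h7 | h7
  · exact ha (w.inj ((mem_bot.1 ((subgroupOf_eq_bot.1 h7).eq_bot ▸
      (⟨⟨a, rfl⟩, h6 ⟨a, rfl⟩⟩ : _ ∈ e₁.range ⊓ F₀))).trans e₁.map_one.symm))
  · exact w.ne hX ((hX.range_le_F0 h e₂).trans (subgroupOf_eq_top.1 h7))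

/-- `O(C(t)) = 1` -/
def Bal (t : G) : Prop := ∀ N ≤ Cz t, Cz t ≤ Ns N → Odd (Nat.card N) → N = ⊥

theorem bal_of (hb : centralizerPPrimeCore 2 t = ⊥) : Bal t := fun N h3 h1 h2 =>
  eq_bot_iff.2 fun a ha => hb ▸ by
    have k : N.subgroupOf (Cz t) ≤ pPrimeCore 2 (Cz t) := le_sSup (And.intro
      (normal_subgroupOf_of_le_normalizer h1) (by
        rw [Nat.card_congr (subgroupOfEquivOfLe h3).toEquiv]; exact h2.coprime_two_right))
    exact ⟨⟨a, h3 ha⟩, k ha, rfl⟩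

theorem Bal.top {t : (⊤ : Subgroup G)} (h : Bal (t : G)) : Bal t := fun N h3 h1 h2 => by
  refine (map_eq_bot_iff_of_injective _ (⊤ : Subgroup G).subtype_injective).1 (h _ ?_ (fun g hg => ?_)
    (by rwa [card_map_of_injective (⊤ : Subgroup G).subtype_injective]))
  · rintro _ ⟨a, ha, rfl⟩
    exact mem_Cz.2 (congrArg Subtype.val (mem_Cz.1 (h3 ha)))
  · exact le_normalizer_map _ ⟨⟨g, trivial⟩, h1 (mem_Cz.2 (Subtype.ext (mem_Cz.1 hg))), rfl⟩

omit p [Base n F] in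
theorem ch_of (q : Nat.card F = 2) (ce : CE e t) (hb : Bal t) : CH e t := by
  obtain ⟨h1, h2⟩ := ce.odd_core
  have h4 : O2 (Cs e.range ⊓ Cz t) = ⊥ := hb _ ((closure_le _).2 fun _ h => h.1.2)
    (le_trans (H98.le_normalizer_inf (ce.cz.trans (H98.normalizer_le_normalizer_centralizer _))
      le_normalizer) (H64.SG.Ns_le_Ns_O2 _)) h1
  refine ⟨ce, fun g g1 g2 => (h2 g g2 g1).imp (fun k => mem_bot.1 (h4 ▸ k)) fun k => ?_, q⟩
  exact (eq_inv_of_mul_eq_one_left (mem_bot.1 (h4 ▸ k) : g * t = 1)).trans ce.toB1.inv_eq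

theorem core (S : Ch.{u}) (q : Nat.card F = 2) {F₀ : Subgroup G} (hk : Function.Injective e)
    (h : Cfg F₀ e.range t) (hb : Bal t) : t ∉ F₀ := by
  obtain ⟨ce, k⟩ := head q hk h
  exact S.fin n F G e t ‹_› (fc n F q) (fo n F) F₀ h ce
    ((res S (ch_of q ce hb) k).resolve_left (no_wr S q hk h ce))

theorem notCyc (S : Ch.{u}) {G : Type u} [Group G] [Finite G] [IsSimpleGroup G]
    (hG : ¬ IsMulCommutative G)
    (hbal : ∀ t : G, orderOf t = 2 → centralizerPPrimeCore 2 t = ⊥) {L : Subgroup G}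
    (hL : IsStandardSubgroup L) {F : Type*} [Field F] [Fintype F] (hF : Fintype.card F = 2)
    (ε : L ≃* PSp 3 F) (hR : ∀ R : Sylow 2 ↥(centralizer (L : Set G)),
      IsCyclic ↥(R : Subgroup ↥(centralizer (L : Set G)))) : False := by
  have q := H14.quasi_of_simple hG
  have h0 : generalizedFittingSubgroup G = ⊤ :=
    top_le_iff.1 ((H14.layer_eq_top_of_quasi q).ge.trans H14.layer_le_fstar)
  obtain ⟨H, t, h1, h2, cfg⟩ := _root_.H67.SA.exists_cfg (h0 ▸ topEquiv.isSimpleGroup)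
    (h0 ▸ fun h => hG ⟨⟨fun a b => congrArg Subtype.val (h.is_comm.comm ⟨a, trivial⟩ ⟨b, trivial⟩)⟩⟩)
    L hL hR
  obtain rfl : H = ⊤ := top_le_iff.1 (h0.ge.trans h2)
  let φ : F ≃+* ZMod 2 := FiniteField.ringEquivOfCardEq (by rw [hF, ZMod.card])
  let _ : StarRing (ZMod 2) := starRingOfComm
  have : TrivialStar (ZMod 2) := ⟨fun _ => rfl⟩
  have : H67.SP.Par 5 (ZMod 2) := ⟨by decide, le_rfl, rfl⟩
  have b := base 5 (ZMod 2)
  obtain ⟨ι⟩ := FA.psp (n := 5) (F := ZMod 2)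
  let ν : XU 5 (ZMod 2) ≃* L.subgroupOf ⊤ :=
    ι.trans ((H55.pspCongr φ 3).symm.trans (ε.symm.trans (subgroupOfEquivOfLe h1).symm))
  refine core S (e := (L.subgroupOf ⊤).subtype.comp ν.toMonoidHom)
    (F₀ := (generalizedFittingSubgroup G).subgroupOf ⊤) (t := t) (Nat.card_zmod 2)
    (Subtype.val_injective.comp ν.injective) ?_ (bal_of (hbal _ (orderOf_eq_prime
      (by rw [pow_two]; exact congrArg Subtype.val cfg.inv.1) fun k => cfg.inv.2 (Subtype.ext k)))).top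
    (h0.ge trivial)
  rwa [← MonoidHom.map_range, MonoidHom.range_eq_top.2 ν.surjective, ← MonoidHom.range_eq_map,
    range_subtype]

end H85.P6.Asm
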