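import Cfsg.Agent.H85.P6.NOW
import Cfsg.Agent.H54.P6.H64_YESpec

/-! P6 port (row S1734), endgame, slot `NO`. -/

set_option autoImplicit false

namespace H85.P6.NOW

open H64.SG (O2 Cz is2_of_sq mem_Cz)
open Subgroup H67.SP

universe u

theorem jobNO : H54.P6.H64.YE.JobNO.{u} := by
  intro n F _ _ _ _ _ _ G _ _ e t bs fc fo Y _ _ _ ι τ Gd U Φ e0 gd on ea y c
  have hk := e0.ker
  have h : W e t := ⟨e0.toCE.b0, fun u q => (e0.gd u q).imp_right (gd u).1, fun u q => by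
    obtain ⟨w, hw⟩ := ea.tx u (by obtain ⟨v, -, rfl⟩ := q; exact tt_sq v) ((gd u).2 q)
    exact isConj_iff.2 ⟨_, hw.symm⟩⟩
  obtain ⟨es, hs⟩ := h.ex c
  obtain ⟨y, yy, hy⟩ := H54.P6.H64.YE.exists_sq_range hk ⟨y, rfl⟩ hs.inv.1
  rw [← hy] at c hs
  by_cases mi : H54.P6.H64.YE.MI ι y
  · obtain ⟨w, u, rfl⟩ := mi
    refine h.nr u (c.trans (isConj_iff.2 ⟨(Φ w)⁻¹, ?_⟩))
    rw [map_mul, map_mul, map_inv, e0.res]; group
  obtain ⟨A, hA, h1, h2⟩ := on y yy mi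
  have h3 : O2 (Cz y) ≤ (O2 (Cz (Φ y))).comap Φ := (closure_le _).2 fun a ha =>
    subset_closure ⟨mem_Cz.2 (by rw [← map_mul, ← map_mul, mem_Cz.1 ha.1]),
      ha.2.of_dvd_nat (orderOf_map_dvd _ _)⟩
  have h4 : A.map Φ ≤ es.range := by
    rintro _ ⟨a, ha, rfl⟩
    exact (ab hs.toB0).ol _ (h3 (hA ha)) ((is2_of_sq (h2 a ha).1).map Φ)
  have h5 := tl_card (A := (A.map Φ).comap es) fun x ⟨a, ha, q⟩ =>
    hs.gd x (by rw [← q, ← map_mul]; exact Φ.map_isConj (h2 a ha).2)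
  rw [← H59.SO.card_map_e hs.inj, map_comap_eq_self h4, H54.P6.H64.YE.card_map2 hk
    (H64.SG.isPGroup_iff_is2.2 fun a ha => is2_of_sq (h2 a ha).1)] at h5
  exact absurd h1 (not_lt.2 h5)

end H85.P6.NOW
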