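import Cfsg.Agent.H85.P6.H67_SPSpec
import Cfsg.Agent.H54.SpTwist

namespace H26 end H26
open H26
namespace H54 end H54
open H54
namespace H85.P6

/-! STD-SP, slot FO: outer involutions of `Sp_(2k)(q)`, `q` even. -/

set_option autoImplicit false

namespace H26.SP

open H64.SG (fx mem_fx)
open Matrix Subgroup H67.SP H54 Cfsg
open H67.UA (XU)

/-- Lang's theorem for `Sp` in characteristic two. -/
theorem lang_sp {m : ℕ} {F : Type} [Field F] [CharP F 2] [Finite F] (hm : 1 ≤ m) (σ : RingAut F)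
    (h2 : orderOf σ = 2) {g : symplecticGroup (Fin m) F} (hg : g * spFieldAut _ F σ g = 1) :
    ∃ h, g = h * (spFieldAut _ F σ h)⁻¹ := by
  obtain ⟨h, d, e⟩ := exists_gsp_eq_scalar_mul_coboundary σ h2 (g := spToGSp m F g) (c := 1) (by
    rw [map_one, H57.gnorm_succ, H57.gnorm_succ, H57.gnorm_zero, map_one, mul_one]
    have := congrArg (fun x => (spToGSp m F x).1) hg
    simp only [map_mul, map_one, ← gspField_spToGSp] at this
    exact this.symm)
  obtain ⟨c, hc⟩ := (frobeniusEquiv F 2).surjective (gspMult hm F h)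
  have c0 : c ≠ 0 := fun h0 => (gspMult hm F h).ne_zero (by rw [← hc, h0, map_zero])
  obtain ⟨s, hs⟩ : (gspScalar m F (Units.mk0 c c0))⁻¹ * h ∈ (spToGSp m F).range := by
    rw [← ker_gspMult hm, MonoidHom.mem_ker, map_mul, map_inv, gspMult_gspScalar,
      inv_mul_eq_one]
    exact Units.ext hc
  rw [eq_inv_mul_iff_mul_eq] at hs
  have e1 : spToGSp m F g = gspScalar m F (d * Units.mk0 c c0 *
      (Units.map (σ : F →* F) (Units.mk0 c c0))⁻¹) * spToGSp m F (s * (spFieldAut _ F σ s)⁻¹) := by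
    rw [e, ← hs, map_mul, gspField_gspScalar, gspField_spToGSp, map_mul, map_mul, map_mul, map_inv,
      map_inv, _root_.mul_inv_rev]
    simp only [mul_assoc]
    congr 2
    rw [← mul_assoc, ← map_inv (gspScalar m F)]
    exact (gspScalar_commute _ _).eq.symm
  generalize d * Units.mk0 c c0 * (Units.map (σ : F →* F) (Units.mk0 c c0))⁻¹ = a at e1
  have e2 := congrArg (gspMult hm F) e1
  rw [map_mul, gspMult_spToGSp, gspMult_spToGSp, gspMult_gspScalar, mul_one] at e2
  have e3 : a = 1 := Units.ext ((frobeniusEquiv F 2).injective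
    ((congrArg Units.val e2).symm.trans (map_one _).symm))
  rw [e3, map_one, one_mul] at e1
  exact ⟨s, spToGSp_injective e1⟩

/-- The fixed group of a field automorphism of `Sp_(2m)`, `m ≥ 3`, is perfect. -/
theorem fx_sp {m : ℕ} {F : Type} [Field F] (hm : 3 ≤ m) (σ : RingAut F) :
    fx (spFieldAut (Fin m) F σ) ≤ ⁅fx (spFieldAut (Fin m) F σ), fx (spFieldAut (Fin m) F σ)⁆ := by
  have e : fx (spFieldAut (Fin m) F σ) = (spMap (Fin m) (H57.fixedSub σ).subtype).range := by
    refine le_antisymm (fun g hg => ?_) ?_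
    · have h1 : ∀ i j, g.1 i j ∈ H57.fixedSub σ := fun i j =>
        H57.mem_fixedSub.2 (congrFun (congrFun (congrArg Subtype.val
          (show spFieldAut (Fin m) F σ g = g from hg)) i) j)
      let M : Matrix (Fin m ⊕ Fin m) (Fin m ⊕ Fin m) (H57.fixedSub σ) := of fun i j => ⟨_, h1 i j⟩
      have hM : M.map (H57.fixedSub σ).subtype = g.1 := rfl
      refine ⟨⟨M, mem_sp_iff.2 fun u v => (H57.fixedSub σ).subtype.injective ?_⟩, rfl⟩
      have k : ∀ u, (H57.fixedSub σ).subtype ∘ (M *ᵥ u) = g • ((H57.fixedSub σ).subtype ∘ u) :=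
        fun u => funext fun i => RingHom.map_mulVec _ M u i
      rw [← spB_map, ← spB_map, k, k, spB_smul]
    · rintro _ ⟨g, rfl⟩
      exact mem_fx.2 (Subtype.ext (Matrix.ext fun i j => H57.mem_fixedSub.1 (g.1 i j).2))
  rw [e, MonoidHom.range_eq_map, ← map_commutator, ← _root_.commutator_def,
    sp_commutator_eq_top_of_three (by rwa [Fintype.card_fin])]

theorem fx_le_of {X Y : Type} [Group X] [Group Y] (φ : X ≃* Y) {α : MulAut X} {β : MulAut Y}
    (h : ∀ g, φ (α g) = β (φ g)) (hp : fx β ≤ ⁅fx β, fx β⁆) : fx α ≤ ⁅fx α, fx α⁆ := by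
  have e : fx α = (fx β).map φ.symm.toMonoidHom := by
    ext g
    rw [mem_map_equiv, mem_fx, mem_fx, MulEquiv.symm_symm, ← h, φ.injective.eq_iff]
  rw [e, ← map_commutator]
  exact map_mono hp

variable {n : ℕ} {F : Type} [Field F] [StarRing F] [TrivialStar F] [CharP F 2] [Finite F]
  [hp : Par n F] [Base n F]

omit hp [Finite F] in
theorem exists_tr : ∃ φ : XU n F ≃* symplecticGroup (Fin (kk n)) F,
    ∀ σ g, φ (fs n F σ g) = spFieldAut _ F σ (φ g) := by
  obtain ⟨φ, A, h1, -, h3⟩ := FW.tr (n := n) (F := F)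
  refine ⟨φ, fun σ g => sp_ext fun w => ?_⟩
  obtain ⟨w, rfl⟩ := comp_ringAut_surjective σ w
  obtain ⟨v, rfl⟩ := A.surjective w
  have k : ∀ v, σ ∘ A v = A fun j => σ (v j) := fun v => funext fun i => (h3 σ v i).symm
  show _ • (σ ∘ A v) = _ • (σ ∘ A v)
  rw [spFieldAut_smul, h1, k, k, h1, FA.fs_ac]

omit [StarRing F] [TrivialStar F] [CharP F 2] [Finite F] [Field F] [Base n F] in
include hp in
theorem three_le : 3 ≤ kk n := by
  have := hp.five
  unfold kk
  omega

theorem std (α : MulAut (XU n F)) (h2 : α * α = 1) (ho : ∀ g, α ≠ MulAut.conj g) :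
    ∃ g σ, σ * σ = 1 ∧ σ ≠ 1 ∧ α = MulAut.conj g * fs n F σ * (MulAut.conj g)⁻¹ := by
  obtain ⟨g, σ, rfl⟩ := FA.semi α
  obtain ⟨o, ho'⟩ := FA.out (n := n) (F := F)
  obtain ⟨φ, hφ⟩ := exists_tr (n := n) (F := F)
  have s2 : σ * σ = 1 := by rw [← ho' g σ, ← map_mul, h2, map_one]
  have s1 : σ ≠ 1 := by
    rintro rfl
    exact ho g (mul_one _)
  have k : ∀ h, fs n F σ * MulAut.conj h = MulAut.conj (fs n F σ h) * fs n F σ := fun h =>
    MulEquiv.ext fun x => by simp
  have h3 : g * fs n F σ g = 1 := FA.ns.cen _ (by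
    rw [mul_assoc, ← mul_assoc (fs n F σ), k, mul_assoc, ← FA.fs_mul, s2, ← mul_assoc,
      ← map_mul] at h2
    exact (mul_one _).symm.trans h2)
  obtain ⟨h, e⟩ := lang_sp ((by decide : 1 ≤ 3).trans (three_le (F := F))) σ
    (orderOf_eq_prime ((pow_two σ).trans s2) s1) (g := φ g) (by rw [← hφ, ← map_mul, h3, map_one])
  obtain ⟨h, rfl⟩ := φ.surjective h
  rw [← hφ, ← map_inv, ← map_mul] at e
  refine ⟨h, σ, s2, s1, ?_⟩
  rw [φ.injective e, mul_assoc, ← map_inv MulAut.conj, k, map_mul, map_inv (fs n F σ), mul_assoc]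

theorem jobFO : JobFO := fun n F _ _ _ _ _ _ _ => by
  refine ⟨std, fun α h2 ho => ?_⟩
  obtain ⟨g, σ, -, -, rfl⟩ := std α h2 ho
  obtain ⟨φ, hφ⟩ := exists_tr (n := n) (F := F)
  exact fx_le_of (MulAut.conj g).symm (β := fs n F σ) (fun x => by simp [mul_assoc])
    (fx_le_of φ (hφ σ) (fx_sp (three_le (F := F)) σ))

end H26.SP
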