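import Cfsg.Agent.H85.P6.H54_SPFW
import Cfsg.Agent.H81.ClassMult
import Cfsg.Agent.S0270
import Cfsg.Agent.H57.PslOut

namespace H54 end H54
open H54
namespace H85.P6

/-! STD-SP (row S3129), slot FA: the automorphisms of `X = Sp_(n+1)(q)`. -/

set_option autoImplicit false
set_option linter.unusedSectionVars false

namespace H54.SPF

open H64.SG (O2 Is2)
open H67.UA hiding Par
open H67.SP H54.SPI Matrix
open H86.SPI (hf_comm hf_self ok pp)
open H59.SO (NS)

variable {n : ℕ} {F : Type} [Field F] [StarRing F] [TrivialStar F] [CharP F 2] [Finite F]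

theorem fs_mul (σ ρ : RingAut F) : fs n F (σ * ρ) = fs n F σ * fs n F ρ :=
  MulEquiv.ext fun _ => X_ext (Matrix.ext fun _ _ => rfl)

theorem fs_one : fs n F 1 = 1 := MulEquiv.ext fun _ => X_ext (Matrix.ext fun _ _ => rfl)

theorem fs_ac (σ : RingAut F) (g : XU n F) (v : Vn n F) :
    ac (fs n F σ g) (fun i => σ (v i)) = fun i => σ (ac g v i) :=
  funext fun i => (RingHom.map_mulVec σ.toRingHom (mt g) v i).symm

theorem hf_map (σ : RingAut F) (x y : Vn n F) :
    hf (fun i => σ (x i)) (fun i => σ (y i)) = σ (hf x y) := by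
  simp [hf, map_sum]

theorem map_surj (σ : RingAut F) (y : Vn n F) : ∃ w : Vn n F, y = fun i => σ (w i) :=
  ⟨fun i => σ.symm (y i), funext fun _ => (σ.apply_symm_apply _).symm⟩

variable [p : Par n F]

theorem fs_EE (σ : RingAut F) (u x : Vn n F) (c : F) (h : hf x u = 0) :
    fs n F σ (EE u x c) = EE (fun i => σ (u i)) (fun i => σ (x i)) (σ c) := ac_ext fun y => by
  obtain ⟨w, rfl⟩ := map_surj σ y
  rw [fs_ac, ac_EE (ok h c), ac_EE (ok (by rw [hf_map, h, map_zero]) _), hf_map, hf_map]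
  ext i
  simp

theorem fs_TT (σ : RingAut F) (u : Vn n F) : fs n F σ (TT u) = TT fun i => σ (u i) := by
  rw [fs_EE σ u 0 1 (hf_zero_left _), map_one]
  congr 1
  ext i; simp

theorem cen (g : XU n F) (h : MulAut.conj g = 1) : g = 1 :=
  ac_ext fun v => (fix_of_conj (by rw [h]; rfl)).trans (ac_one v).symm

theorem psp : Nonempty (XU n F ≃* Cfsg.PSp (kk n) F) := by
  obtain ⟨φ, -⟩ := tr (n := n) (F := F)
  have : Fact (Nat.Prime 2) := ⟨Nat.prime_two⟩
  have h : Subgroup.center (symplecticGroup (Fin (kk n)) F) = ⊥ :=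
    (Subgroup.eq_bot_iff_forall _).2 fun _ hz => eq_one_of_mem_center_of_pow (p := 2) hz (Or.inr rfl)
  exact ⟨φ.trans ((QuotientGroup.quotientMulEquivOfEq h).trans QuotientGroup.quotientBot).symm⟩

theorem ns : NS (XU n F) := by
  obtain ⟨φ⟩ := psp (n := n) (F := F)
  have := Fintype.ofFinite F
  have h1 := two_kk n F
  have h2 := p.five
  have := Cfsg.Agent.S0270.result (F := F) (kk n) (by omega) (by omega)
  exact ⟨φ.isSimpleGroup, cen⟩

theorem mult (h4 : 4 ≤ Nat.card F) : H21.multCard (XU n F) = 1 := by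
  obtain ⟨φ, -⟩ := tr (n := n) (F := F)
  have := Fintype.ofFinite F
  have h1 := two_kk n F
  have h2 := p.five
  rw [← H21.multCard_congr φ]
  refine H81.sp_mult (by omega) (by omega) fun ⟨a, b⟩ => ?_
  have := h4
  rw [Nat.card_eq_fintype_card] at this
  omega

theorem semi (α : MulAut (XU n F)) : ∃ g σ, α = MulAut.conj g * fs n F σ := by
  obtain ⟨σ, f, h1, h2, h3, h4, h5⟩ := aut α
  obtain ⟨k, hk⟩ := exists_ac (n := n) (F := F)
    ⟨⟨fun v => f fun i => σ.symm (v i), fun u v => by rw [← h2]; congr 1; ext i; simp⟩,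
      fun c v => by
        have := h3 (σ.symm c) fun i => σ.symm (v i)
        rw [σ.apply_symm_apply] at this
        exact Eq.trans (congrArg f (funext fun i => by simp)) this⟩
    fun u v => by
      change hf (f _) (f _) = _
      rw [h4, hf_map, σ.apply_symm_apply]
  have hk' : ∀ v : Vn n F, ac k (fun i => σ (v i)) = f v := fun v => by
    rw [hk]
    change f _ = _
    simp
  refine ⟨k, σ, MulEquiv.ext fun g => ac_ext fun y => ?_⟩
  obtain ⟨w, rfl⟩ := h1.2 y
  rw [h5, MulAut.mul_apply, MulAut.conj_apply, ac_mul, ac_mul, ← hk', ← hk', ac_inv_ac, fs_ac]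

theorem uniq {g g' : XU n F} {σ σ' : RingAut F}
    (h : MulAut.conj g * fs n F σ = MulAut.conj g' * fs n F σ') : σ = σ' := by
  have e : ∀ v : Vn n F, ac g (fun i => σ (v i)) = ac g' fun i => σ' (v i) := fun v => TT_inj (by
    have := congrArg (fun a : MulAut (XU n F) => a (TT v)) h
    simpa only [MulAut.mul_apply, MulAut.conj_apply, fs_TT, TT_conj] using this)
  have e1 : ∀ (ρ : RingAut F) (c : F), (fun i => ρ ((c • ev 0 : Vn n F) i)) = ρ c • ev 0 :=
    fun ρ c => by ext i; simp [ev_apply, apply_ite ρ]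
  refine RingEquiv.ext fun c => ?_
  have h1 := e ((1 : F) • ev 0)
  have h2 := e (c • ev 0)
  rw [e1, e1, map_one, map_one, one_smul] at h1
  rw [e1, e1, ac_smul, ac_smul, h1] at h2
  exact smul_left_injective F (fun e => ev_ne 0 (ac_inj g' (e.trans (ac_zero g').symm))) h2

theorem semi_mul (g g' : XU n F) (σ σ' : RingAut F) :
    MulAut.conj g * fs n F σ * (MulAut.conj g' * fs n F σ') =
      MulAut.conj (g * fs n F σ g') * fs n F (σ * σ') := by
  rw [fs_mul]
  ext1 x
  simp [mul_assoc]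

theorem out : ∃ o : MulAut (XU n F) →* RingAut F, ∀ g σ, o (MulAut.conj g * fs n F σ) = σ := by
  choose k s hs using semi (n := n) (F := F)
  have h : ∀ g σ, s (MulAut.conj g * fs n F σ) = σ := fun g σ => (uniq (hs _)).symm
  refine ⟨MonoidHom.mk' s fun a b => ?_, h⟩
  conv_lhs => rw [hs a, hs b, semi_mul, h]

theorem inn_of {o : MulAut (XU n F) →* RingAut F} (ho : ∀ g σ, o (MulAut.conj g * fs n F σ) = σ)
    {α : MulAut (XU n F)} (h : o α = 1) : ∃ g, α = MulAut.conj g := by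
  obtain ⟨g, σ, rfl⟩ := semi α
  rw [ho] at h
  exact ⟨g, by rw [h, fs_one, mul_one]⟩

omit p in
theorem ra_comm (a b : RingAut F) : Commute a b := by
  have := H57.isCyclic_ringAut (F := F)
  exact IsMulCommutative.is_comm.comm a b

theorem a3 (α : MulAut (XU n F)) (h : Is2 α) (h' : α ∈ O2 (⊤ : Subgroup (MulAut (XU n F)))) :
    ∃ g, α = MulAut.conj g := by
  obtain ⟨o, ho⟩ := out (n := n) (F := F)
  refine inn_of ho ?_
  have h1 : Odd (orderOf (o α)) := by
    refine Subgroup.closure_induction (fun a ha => ha.2.of_dvd_nat (orderOf_map_dvd o a))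
      (by simp) (fun a b _ _ ha hb => ?_) (fun a _ ha => by simpa using ha) h'
    rw [map_mul]
    exact (ha.mul hb).of_dvd_nat (ra_comm _ _).orderOf_mul_dvd_mul_orderOf
  obtain ⟨k, hk⟩ := h
  have h2 : orderOf (o α) ∣ 2 ^ k := orderOf_dvd_of_pow_eq_one (by rw [← map_pow, hk, map_one])
  exact orderOf_eq_one_iff.1 (Nat.Coprime.eq_one_of_dvd
    ((Nat.coprime_two_right.2 h1).pow_right k) h2)

theorem sol (D : Subgroup (MulAut (XU n F))) (h : D ≤ ⁅D, D⁆) : D ≤ Cfsg.Inn (XU n F) := by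
  obtain ⟨o, ho⟩ := out (n := n) (F := F)
  have h1 : ⁅D, D⁆ ≤ o.ker := Subgroup.commutator_le.2 fun a _ b _ => by
    rw [MonoidHom.mem_ker, map_commutatorElement, commutatorElement_eq_one_iff_commute]
    exact ra_comm _ _
  intro α hα
  obtain ⟨g, rfl⟩ := inn_of ho (h1 (h hα))
  exact ⟨g, rfl⟩

theorem lin' (α : MulAut (XU n F)) (v : Vn n F) (hv : v ≠ 0) (h : ∀ c, α (Tc c v) = Tc c v) :
    ∃ g, α = MulAut.conj g :=
  inner α hv fun c => by rw [TT, Tc_smul]; exact h _

theorem two (h : Nat.card F = 2) (α : MulAut (XU n F)) : ∃ g, α = MulAut.conj g := by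
  obtain ⟨o, ho⟩ := out (n := n) (F := F)
  refine inn_of ho (RingEquiv.ext fun c => ?_)
  obtain ⟨y, -, hy⟩ := (Nat.card_eq_two_iff' (0 : F)).1 h
  by_cases h0 : c = 0
  · simp [h0]
  · rw [hy c h0, ← hy 1 one_ne_zero, map_one, map_one]

theorem cls (α : MulAut (XU n F)) (g : XU n F) :
    (Lr g → Lr (α g)) ∧ (Sr g → Sr (α g)) ∧ (Cr g → Cr (α g)) := by
  obtain ⟨σ, f, h1, h2, h3, h4, -, h6⟩ := aut_TT α
  have h0 : f 0 = 0 := by simpa using h3 0 0
  have hp : ∀ {u v}, hf u v = 0 → hf (f u) (f v) = 0 := fun h => by rw [h4, h, map_zero]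
  have hl : ∀ {u v}, Li u v → Li (f u) (f v) := fun {u v} h a b e => by
    obtain ⟨c, d⟩ := h (σ.symm a) (σ.symm b) (h1.1 (by
      rw [h2, h3, h3, h0, σ.apply_symm_apply, σ.apply_symm_apply, e]))
    exact ⟨by simpa using c, by simpa using d⟩
  refine ⟨lr α g, ?_, ?_⟩
  · rintro ⟨u, v, a, b, rfl⟩
    exact ⟨f u, f v, hp a, hl b, by
      rw [qq_eq_TT (pp a), qq_eq_TT (pp (hp a)), map_mul, map_mul, h6, h6, h6, h2]⟩
  · rintro ⟨u, v, a, b, rfl⟩
    exact ⟨f u, f v, hp a, hl b, by rw [map_mul, h6, h6]⟩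

omit p in
theorem jobFA : JobFA := fun _ _ _ _ _ _ _ _ _ _ =>
  ⟨ns, psp, mult, semi, fs_mul, fs_EE, fs_ac, out, a3, sol, lin', two, cls⟩

end H54.SPF
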