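import Cfsg.Agent.H85.P6.H59_SPFV
import Cfsg.Agent.H85.P6.H54_SPFA
import Cfsg.Agent.H85.P6.H72_SPFR
import Cfsg.Agent.H85.P6.H62_SPFC
import Cfsg.Agent.H85.P6.H26_SPFO

/-! P6 port: the facts on `X`, without hypotheses. -/

set_option autoImplicit false

namespace H85.P6.H78.S2

open H67.SP

variable (n : ℕ) (F : Type) [Field F] [StarRing F] [TrivialStar F] [CharP F 2] [Finite F] [Par n F]

theorem base : Base n F :=
  have v := H59.SPV.jobFV n F
  have w := H54.SPF.jobFW n F v
  have a := H54.SPF.jobFA n F v w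
  { v, w, a, H72.SPF.jobFR n F v w a with }

theorem fc0 : FC0 n F := H62.SPFC.jobFC n F (base n F)

theorem fo : FO n F := H26.SP.jobFO n F (base n F)

/-- `FC` from the slot `PC`. -/
theorem fc_of (pc : JobPC) (q : Nat.card F = 2) : FC n F :=
  FC.of n F (fc0 n F) (pc n F (base n F) (fc0 n F) q) q

end H85.P6.H78.S2
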