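import Cfsg.Agent.H85.P6.H67_UASpec
import Cfsg.Agent.H57.Descent
import Cfsg.Agent.H59.AutMat
import Cfsg.Agent.H55.Transport
import Cfsg.Agent.H81.SUMult
import Cfsg.Agent.H81.BaseU

namespace H57 end H57
open H57
namespace H67 end H67
open H67
namespace H81 end H81
open H81
namespace H85.P6

/-! STD-UM, slots FX and FO: automorphisms of `X = SU_(n+1)(q)` extend; `X` is quasisimple. -/

set_option autoImplicit false
set_option linter.unusedSectionVars false

namespace H81.UAX

open H64.SG (Is2 fx mem_fx)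
open Matrix H57 Subgroup H67 H67.UA
open H67.SA (SLn Au la)

section Gen

variable {G H : Type} [Group G] [Group H]

theorem quot_inj (hp : commutator G = ⊤) : Function.Injective (quotCenterAut G) := by
  refine (injective_iff_map_eq_one _).2 fun β hβ => ?_
  have h1 : ∀ a, β a * a⁻¹ ∈ center G := fun a => by
    have := congrArg (fun f => f (QuotientGroup.mk a)) hβ
    simp only [quotCenterAut_mk, MulAut.one_apply, QuotientGroup.eq] at this
    have h2 := (mem_center_iff.1 this) (β a)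
    rw [mul_inv_cancel_left, mul_assoc, eq_inv_mul_iff_mul_eq] at h2
    have h3 : β a * a⁻¹ = ((β a)⁻¹ * a)⁻¹ := by
      rw [_root_.mul_inv_rev, inv_inv, mul_inv_eq_iff_eq_mul, mul_assoc, h2, inv_mul_cancel_left]
    exact h3 ▸ inv_mem this
  have := GA.hom_eq_of_central' hp β.toMonoidHom (MonoidHom.id _)
    (fun a b => ((mem_center_iff.1 (h1 a)) _).symm) fun a b => ((mem_center_iff.1 (h1 a)) _).symm
  exact MulEquiv.ext fun s => congrArg (fun f => f s) this

theorem map_center (e : G ≃* H) : (center G).map (e : G →* H) = center H := by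
  ext b
  obtain ⟨a, rfl⟩ := e.surjective b
  rw [show e a = (e : G →* H) a from rfl, mem_map_iff_mem e.injective, mem_center_iff, mem_center_iff]
  refine ⟨fun h c => ?_, fun h c => e.injective (by simpa using h (e c))⟩
  obtain ⟨c, rfl⟩ := e.surjective c
  simpa using congrArg e (h c)

theorem quot_surj (e : G ≃* H) (h : Function.Surjective (quotCenterAut H)) :
    Function.Surjective (quotCenterAut G) := fun b => by
  let f := QuotientGroup.congr _ _ e (map_center e)
  obtain ⟨α, hα⟩ := h (MulAut.congr f b)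
  refine ⟨(MulAut.congr e).symm α, MulEquiv.ext fun x => f.injective ?_⟩
  obtain ⟨x, rfl⟩ := QuotientGroup.mk_surjective x
  have := congrArg (fun φ => φ (f (QuotientGroup.mk x))) hα
  simp only [MulAut.congr_apply, MulEquiv.trans_apply, MulEquiv.symm_apply_apply] at this
  rw [← this]
  change QuotientGroup.mk (e (e.symm (α (e x)))) = QuotientGroup.mk (α (e x))
  rw [MulEquiv.apply_symm_apply]

theorem perf_congr (e : G ≃* H) (h : commutator H = ⊤) : commutator G = ⊤ := by
  have h2 := map_commutator_eq H (e.symm : H →* G)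
  rw [h, ← MonoidHom.range_eq_map, MonoidHom.range_eq_top.2 e.symm.surjective] at h2
  exact h2.symm

theorem nrm_of (hp : commutator G = ⊤) [IsSimpleGroup (G ⧸ center G)] (N : Subgroup G)
    (hN : N.Normal) : N ≤ center G ∨ N = ⊤ := by
  rcases (Subgroup.Normal.map hN (QuotientGroup.mk' (center G))
    (QuotientGroup.mk'_surjective _)).eq_bot_or_eq_top with h1 | h1
  · left; rwa [Subgroup.map_eq_bot_iff, QuotientGroup.ker_mk'] at h1
  · right
    have h2 : ∀ a : G, ∃ b ∈ N, b⁻¹ * a ∈ center G := fun a => by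
      obtain ⟨b, hb, e⟩ : QuotientGroup.mk' (center G) a ∈ N.map _ := h1 ▸ mem_top _
      exact ⟨b, hb, QuotientGroup.eq.1 e⟩
    rw [eq_top_iff, ← QuotientGroup.ker_mk' N]
    refine fun s _ => GA.hom_eq_one' hp _ (fun a b => ?_) s
    obtain ⟨c, hc, e⟩ := h2 a
    have : QuotientGroup.mk' N a = QuotientGroup.mk' N (c⁻¹ * a) := by
      rw [map_mul, map_inv, (QuotientGroup.eq_one_iff c).2 hc |> fun h => show
        QuotientGroup.mk' N c = 1 from h, inv_one, one_mul]
    rw [this, ← map_mul, ← map_mul, (mem_center_iff.1 e) b]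

end Gen

theorem two_le {n : ℕ} (K : Type) [Field K] [StarRing K] [hp : Par n K] : 2 ≤ n := by
  have := hp.five; omega

theorem sg_ne (n : ℕ) {K : Type} [Field K] [StarRing K] [hp : Par n K] : sg K ≠ 1 := fun e => by
  obtain ⟨a, ha⟩ := hp.ne
  exact ha (congrArg (fun f : RingAut K => f a) e)

variable {n : ℕ} {K : Type} [Field K] [StarRing K] [CharP K 2] [Finite K] [hp : Par n K]

variable (n K) in
/-- the antidiagonal matrix -/
abbrev J : SLn n K := SA.pm Fin.revPerm

theorem J_apply (a b : Fin (n + 1)) : (J n K).1 a b = if a = b.rev then 1 else 0 := SA.pm_apply _ a b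

theorem J_sq : (J n K).1 * (J n K).1 = 1 := by
  rw [← SA.val_mul, ← SA.pm_mul, show (Fin.revPerm * Fin.revPerm : Equiv.Perm (Fin (n + 1))) = 1 from
    Equiv.ext fun i => Fin.rev_rev i, SA.pm_one, SA.val_one]

theorem J_ct : (J n K).1ᴴ = (J n K).1 := by
  ext a b
  rw [conjTranspose_apply, J_apply, J_apply]
  by_cases h : a = b.rev
  · simp [h]
  · rw [if_neg h, if_neg fun e => h (by rw [e, Fin.rev_rev]), star_zero]

theorem J_conj (M : Matrix (Fin (n + 1)) (Fin (n + 1)) K) :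
    (J n K).1 * M * (J n K).1 = of fun i j => M i.rev j.rev := by
  ext i j
  have h2 : ∀ a b : Fin (n + 1), (a = b.rev) = (b = a.rev) := fun a b =>
    propext ⟨fun h => by simp [h], fun h => by simp [h]⟩
  simp only [mul_apply, J_apply, mul_ite, mul_one, mul_zero, Finset.sum_ite_eq', Finset.mem_univ,
    if_true, of_apply, h2 i, ite_mul, one_mul, zero_mul]

theorem mem_X {s : SLn n K} : s ∈ fx (tau n K) ↔ s.1 * (J n K).1 * s.1ᴴ = (J n K).1 := by
  have : (of fun i j => star (s.1 j.rev i.rev)) = (J n K).1 * s.1ᴴ * (J n K).1 := by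
    rw [J_conj]; rfl
  rw [mem_XU_iff, this, ← mul_assoc, ← mul_assoc]
  exact ⟨fun h => by rw [← mul_one (_ * _), ← J_sq, ← mul_assoc, h, one_mul],
    fun h => by rw [h, J_sq]⟩

theorem exists_base [FQ K] : ∃ P : GL (Fin (n + 1)) K,
    ∀ s : SLn n K, slDiag _ K P⁻¹ s ∈ Cfsg.SU (n + 1) K (qK K) ↔ s ∈ fx (tau n K) := by
  obtain ⟨P, eP⟩ := exists_eq_mul_conjTranspose (sg K) (sg_ne n) star_star
    (g := SpecialLinearGroup.toGL (J n K)) J_ct
  change (J n K).1 = P.1 * P.1ᴴ at eP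
  refine ⟨P, fun s => ?_⟩
  rw [H55.mem_SU_iff_transpose_mul (starRingEnd K) FQ.star_eq, mem_X, ← transpose_inj, transpose_mul,
    transpose_transpose, transpose_one, mul_eq_one_comm]
  change (slDiag _ K P⁻¹ s).1 * (slDiag _ K P⁻¹ s).1ᴴ = 1 ↔ _
  rw [slDiag_coe, inv_inv, conjTranspose_mul, conjTranspose_mul, eP]
  have h1 : (P⁻¹).1ᴴ * P.1ᴴ = 1 := by rw [← conjTranspose_mul, Units.mul_inv, conjTranspose_one]
  have h2 : P.1ᴴ * (P⁻¹).1ᴴ = 1 := by rw [← conjTranspose_mul, Units.inv_mul, conjTranspose_one]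
  constructor
  · intro h
    calc s.1 * (P.1 * P.1ᴴ) * s.1ᴴ
        = P.1 * (P⁻¹).1 * s.1 * (P.1 * P.1ᴴ) * s.1ᴴ * ((P⁻¹).1ᴴ * P.1ᴴ) := by
          rw [Units.mul_inv, h1, one_mul, mul_one]
      _ = P.1 * ((P⁻¹).1 * s.1 * P.1 * (P.1ᴴ * (s.1ᴴ * (P⁻¹).1ᴴ))) * P.1ᴴ := by
          simp only [mul_assoc]
      _ = _ := by rw [h, mul_one]
  · intro h
    calc _ = (P⁻¹).1 * (s.1 * (P.1 * P.1ᴴ) * s.1ᴴ) * (P⁻¹).1ᴴ := by simp only [mul_assoc]
      _ = _ := by rw [h, ← mul_assoc, Units.inv_mul, one_mul, h2]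

theorem exists_iso [FQ K] : ∃ (P : GL (Fin (n + 1)) K) (e : XU n K ≃* Cfsg.SU (n + 1) K (qK K)),
    ∀ s : XU n K, (e s).1 = slDiag _ K P⁻¹ s.1 := by
  obtain ⟨P, hP⟩ := exists_base (n := n) (K := K)
  have h1 : ∀ s : SLn n K, slDiag _ K P⁻¹ (slDiag _ K P s) = s := fun s => by
    rw [map_inv]; exact MulAut.inv_apply_self _ _ s
  have h2 : ∀ s : SLn n K, slDiag _ K P (slDiag _ K P⁻¹ s) = s := fun s => by
    rw [map_inv]; exact MulAut.apply_inv_self _ _ s
  exact ⟨P,
    { toFun := fun s => ⟨slDiag _ K P⁻¹ s.1, (hP _).2 s.2⟩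
      invFun := fun s => ⟨slDiag _ K P s.1, (hP _).1 (by rw [h1]; exact s.2)⟩
      left_inv := fun s => Subtype.ext (h2 _)
      right_inv := fun s => Subtype.ext (h1 _)
      map_mul' := fun s t => Subtype.ext (map_mul _ _ _) }, fun _ => rfl⟩

theorem hF [FQ K] [Fintype K] : Fintype.card K = qK K ^ 2 := by
  rw [← FQ.card, Nat.card_eq_fintype_card]

theorem su_surj [FQ K] (b : MulAut (Cfsg.PSU (n + 1) K (qK K))) : ∃ g τ,
    b = quotCenterAut _ (H59.suDiag (n + 1) K (qK K) g * H59.suField (n + 1) K (qK K) τ) := by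
  have := Fintype.ofFinite K
  have := hp.five
  obtain ⟨g, τ, h⟩ := H59.psu_aut hF (n := n + 1) (by omega) (by omega) b
  exact ⟨g, τ, by rw [h, map_mul]; rfl⟩

theorem su_perf [FQ K] : commutator (Cfsg.SU (n + 1) K (qK K)) = ⊤ := by
  have := Fintype.ofFinite K
  have := hp.five
  exact H59.commutator_SU hF (by omega) (by omega)

theorem ext [FQ K] (β : MulAut (XU n K)) : ∃ γ, Ext β γ := by
  obtain ⟨P, e, he⟩ := exists_iso (n := n) (K := K)
  obtain ⟨g, τ, h⟩ := su_surj (n := n) (quotCenterAut _ (MulAut.congr e β))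
  have h1 := quot_inj su_perf h
  refine ⟨slDiag _ K P * (slDiag _ K g.1 * slField _ K τ) * slDiag _ K P⁻¹, fun a => ?_, ?_⟩
  · have h2 := congrArg (fun φ => (φ (e a)).1) h1
    simp only [MulAut.congr_apply, MulEquiv.trans_apply, MulEquiv.symm_apply_apply] at h2
    rw [he] at h2
    rw [MulAut.mul_apply, MulAut.mul_apply, ← he]
    change _ = slDiag _ K P ((H59.suDiag (n + 1) K (qK K) g * H59.suField (n + 1) K (qK K) τ) (e a)).1
    rw [← h2, map_inv, MulAut.apply_inv_self]
  · simp [SA.out_slDiag (two_le K), SA.out_slField (two_le K), -map_inv]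

theorem eq_one_of_fix [FV n K] [FW n K] {γ : Au n K} (h : ∀ g : XU n K, γ g.1 = g.1)
    (h2 : (SA.out n K γ).2 = 1) : γ = 1 := by
  obtain ⟨g, hg⟩ := SA.exists_dfg (two_le K) γ
  obtain ⟨-, hg⟩ := hg.resolve_right fun e => e.1 h2
  generalize (SA.out n K γ).1 = σ at hg
  subst hg
  have h5 := hp.five
  have key : ∀ (s : XU n K) v, H59.semiMap g σ (ac s v) = ac s (H59.semiMap g σ v) := fun s v => by
    have h1 : g.1 * (mt s).map σ * (g⁻¹).1 = mt s := congrArg Subtype.val (h s)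
    rw [H59.semiMap_apply, H59.semiMap_apply, ac, ac, map_mulVec_ringAut, mulVec_mulVec,
      mulVec_mulVec]
    nth_rewrite 2 [← h1]
    rw [mul_assoc _ _ g.1, Units.inv_mul, mul_one]
  have i0 : Iso (ev 0 : Vn n K) := ev_iso (by rw [Ne, Fin.ext_iff]; simp; omega)
  have il : Iso (ev (la n) : Vn n K) := ev_iso (by rw [Ne, Fin.ext_iff]; simp; omega)
  obtain ⟨c, hc⟩ : ∃ c : K, H59.semiMap g σ (ev 0) = c • ev 0 := by
    have h1 := key (TT (ev 0)) (ev (la n))
    rw [ac_Tc i0 (star_one K), ac_Tc i0 (star_one K), map_add, hf_ev, if_pos (by simp)] at h1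
    exact ⟨_, by simpa using h1⟩
  have h3 : ∀ u, Iso u → H59.semiMap g σ u = c • u := fun u hu => by
    by_cases u0 : u = 0
    · simp [u0]
    obtain ⟨s, rfl⟩ := FW.w1 u u0 hu
    rw [key, hc, ac_smul]
  have inj : ∀ v, H59.semiMap g σ v = 0 → v = 0 := fun v hv => by
    have h1 := congrArg (fun w => (g⁻¹).1 *ᵥ w) hv
    simp only [H59.semiMap_apply, mulVec_mulVec, Units.inv_mul, one_mulVec, mulVec_zero] at h1
    ext i
    simpa using congrFun h1 i
  have c0 : c ≠ 0 := fun e => ev_ne (n := n) (K := K) 0 (inj _ (by rw [hc, e, zero_smul]))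
  have hσ : σ = 1 := RingEquiv.ext fun a => by
    have h1 := h3 _ (i0.smul a)
    rw [H59.semiMap_smul, hc] at h1
    have h4 := congrFun h1 0
    simp only [Pi.smul_apply, ev_apply, if_true, smul_eq_mul, mul_one] at h4
    exact mul_right_cancel₀ c0 (h4.trans (mul_comm _ _))
  subst hσ
  have h4 : ∀ v, g.1 *ᵥ v = c • v := fun v => by
    have h1 := FW.span (ev 0) i0 (fun x => H59.semiMap g 1 x = c • x) (fun x hx => h3 x hx.r)
      (fun x y _ _ hx hy => by rw [map_add, hx, hy, smul_add]) (v + v (la n) • ev (la n)) (by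
        rw [hf_add_left, hf_smul_left, hf_ev_right, hf_ev, if_pos (by simp)]
        simp [CharTwo.add_self_eq_zero])
    rw [map_add, h3 _ (il.smul _), smul_add, add_left_inj] at h1
    exact h1
  have h6 : g.1 = c • (1 : Matrix _ _ K) := Matrix.ext_of_mulVec_single fun i => by
    rw [h4, smul_mulVec, one_mulVec]
  rw [map_one, mul_one]
  refine MulEquiv.ext fun s => Subtype.ext ?_
  have h7 : g.1 * s.1 = s.1 * g.1 := by rw [h6]; simp
  rw [slDiag_coe, h7, mul_assoc, Units.mul_inv, mul_one]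
  rfl

theorem tau_out [FV n K] : (SA.out n K (tau n K)).2 ≠ 1 := by
  rw [FV.out_tau]; dsimp only; decide

theorem cX [FV n K] [FW n K] (γ : Au n K) (h : ∀ g : XU n K, γ g.1 = g.1) : γ = 1 ∨ γ = tau n K := by
  rcases SA.z2_cases (SA.out n K γ).2 with e | e
  · exact .inl (eq_one_of_fix h e)
  · refine .inr ?_
    have := eq_one_of_fix (γ := γ * tau n K) (fun g => by rw [MulAut.mul_apply, mem_fx.1 g.2, h])
      (by rw [map_mul, Prod.snd_mul, e, FV.out_tau]; dsimp only; decide)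
    rw [← mul_one γ, ← tau_mul_self, ← mul_assoc, this, one_mul]

omit hp [Finite K] in
theorem res (γ : Au n K) (h : γ * tau n K = tau n K * γ) :
    ∃ β : MulAut (XU n K), ∀ g, (β g).1 = γ g.1 := by
  have k : ∀ δ : Au n K, δ * tau n K = tau n K * δ → ∀ g : XU n K, δ g.1 ∈ fx (tau n K) :=
    fun δ hδ g => by rw [mem_fx, ← MulAut.mul_apply, ← hδ, MulAut.mul_apply, mem_fx.1 g.2]
  exact ⟨{ toFun := fun g => ⟨γ g.1, k γ h g⟩
           invFun := fun g => ⟨γ⁻¹ g.1, k γ⁻¹ (Commute.inv_left h) g⟩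
           left_inv := fun g => Subtype.ext (MulAut.inv_apply_self _ γ _)
           right_inv := fun g => Subtype.ext (MulAut.apply_inv_self _ γ _)
           map_mul' := fun a b => Subtype.ext (map_mul γ _ _) }, fun _ => rfl⟩

theorem comm [FV n K] [FW n K] (β : MulAut (XU n K)) (γ : Au n K) (h : ∀ g, (β g).1 = γ g.1) :
    γ * tau n K = tau n K * γ := by
  rcases cX (γ * tau n K * γ⁻¹) fun g => by
    obtain ⟨a, rfl⟩ := β.surjective g
    rw [h, MulAut.mul_apply, MulAut.inv_apply_self, MulAut.mul_apply, mem_fx.1 a.2] with e | e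
  · refine (tau_out (n := n) (K := K) ?_).elim
    rw [← SA.out_conj_eq γ, e, map_one, Prod.snd_one]
  · exact mul_inv_eq_iff_eq_mul.1 e

omit hp in
theorem ext_mul {β β' : MulAut (XU n K)} {γ γ' : Au n K} (h : Ext β γ) (h' : Ext β' γ') :
    Ext (β * β') (γ * γ') :=
  ⟨fun g => by rw [MulAut.mul_apply, h.1, h'.1, MulAut.mul_apply], by
    rw [map_mul, Prod.snd_mul, h.2, h'.2, mul_one]⟩

omit hp in
theorem ext_one : Ext (1 : MulAut (XU n K)) 1 := ⟨fun _ => rfl, by rw [map_one, Prod.snd_one]⟩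

omit hp in
theorem ext_pow {β : MulAut (XU n K)} {γ : Au n K} (h : Ext β γ) (k : ℕ) : Ext (β ^ k) (γ ^ k) := by
  induction k with
  | zero => simpa using ext_one
  | succ k ih => rw [pow_succ, pow_succ]; exact ext_mul ih h

theorem ext_uniq [FV n K] [FW n K] {β : MulAut (XU n K)} {γ γ' : Au n K} (h : Ext β γ)
    (h' : Ext β γ') : γ = γ' :=
  inv_mul_eq_one.1 (eq_one_of_fix (fun g => by
    rw [MulAut.mul_apply, ← h'.1, h.1, MulAut.inv_apply_self]) (by
    rw [map_mul, map_inv, Prod.snd_mul, Prod.snd_inv, h.2, h'.2, inv_one, mul_one]))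

theorem out_eq [FQ K] [FV n K] [FW n K] (β : MulAut (XU n K)) (γ : Au n K) (h : Ext β γ) :
    GA.out (XU n K) β = (SA.out n K γ).1 := by
  have ho : ∃ o : MulAut (XU n K) →* RingAut K, ∀ β γ, Ext β γ → o β = (SA.out n K γ).1 := by
    choose f hf using ext (n := n) (K := K)
    exact ⟨MonoidHom.mk' (fun β => (SA.out n K (f β)).1) fun a b => by
      rw [ext_uniq (hf (a * b)) (ext_mul (hf a) (hf b)), map_mul, Prod.fst_mul],
      fun β γ h => by rw [← ext_uniq (hf β) h]; rfl⟩
  change oX n K β = _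
  rw [oX, dif_pos ho]
  exact ho.choose_spec β γ h

omit hp in
theorem inX (s : SLn n K) (h2 : Is2 s) (h : MulAut.conj s * tau n K = tau n K * MulAut.conj s) :
    s ∈ fx (tau n K) :=
  SA.conj_inj (h2.map (tau n K).toMonoidHom) h2 (MulEquiv.ext fun a => by
    obtain ⟨a, rfl⟩ := (tau n K).surjective a
    have := congrArg (fun f : Au n K => f a) h
    simp only [MulAut.mul_apply, MulAut.conj_apply, map_mul, map_inv] at this
    exact this.symm)

theorem jobFX : JobFX := fun n K _ _ _ _ _ _ _ _ =>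
  ⟨(exists_iso (n := n) (K := K)).elim fun _ h => ⟨h.choose⟩, cX, ext, res, comm, out_eq, inX⟩

theorem su_mult [FQ K] (h4 : n = 5 → 4 ≤ qK K) : H21.multCard (Cfsg.SU (n + 1) K (qK K)) = 1 := by
  have := Fintype.ofFinite K
  have := hp.five
  obtain ⟨f, f1, hf⟩ := FQ.pow2 (K := K)
  refine H81.su_mult hF (fun hq => ?_) (by omega) (by omega) (by omega) (by omega)
  have h2 : qK K = 2 := by
    obtain rfl : f = 1 := by
      by_contra h
      have := Nat.pow_le_pow_right two_pos (show 2 ≤ f by omega)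
      omega
    exact hf
  have hK := hF (K := K)
  rw [h2] at hK ⊢
  have : Finite H81.U52M.G := Nat.finite_of_card_ne_zero (by rw [H81.U52M.card]; norm_num)
  exact (H21.multCard_congr (H55.suCongr (FiniteField.ringEquivOfCardEq
    (H81.QM.card4.trans hK.symm)) 5 2)).trans (Nat.dvd_one.1 H81.QM.mcU52)

theorem jobFO : JobFO := by
  intro n K _ _ _ _ hp _ _ _ hX
  have := Fintype.ofFinite K
  have := hp.five
  obtain ⟨e⟩ := hX.iso
  have hperf := perf_congr e su_perf
  have hs := H59.isSimpleGroup_PSU (hF (K := K)) (n := n + 1) (by omega) (by omega)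
  have hs' : IsSimpleGroup (XU n K ⧸ center (XU n K)) :=
    (QuotientGroup.congr _ _ e (map_center e)).isSimpleGroup
  refine ⟨hperf, ?_, nrm_of hperf,
    quot_surj e fun b => ?_, fun g => ?_, SA.ringAut_comm, fun β h1 h2 => ?_⟩
  · rw [Nat.card_congr (centerCongr e).toEquiv, H59.card_center_SU hF (by omega)]
    obtain ⟨f, f1, hf⟩ := FQ.pow2 (K := K)
    refine Odd.of_dvd_nat ?_ (Nat.gcd_dvd_right _ _)
    rw [hf]
    exact (Nat.even_pow.2 ⟨even_two, by omega⟩).add_one
  · obtain ⟨g, τ, h⟩ := su_surj (n := n) b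
    exact ⟨_, h.symm⟩
  · rw [out_eq _ (MulAut.conj g.1) ⟨fun _ => rfl, by rw [SA.out_conj (two_le K), Prod.snd_one]⟩,
      SA.out_conj (two_le K), Prod.fst_one]
  · obtain ⟨γ, hγ⟩ := ext β
    obtain ⟨k, hk⟩ := h2
    have h3 := ext_pow hγ (2 ^ k)
    rw [hk] at h3
    obtain ⟨s, s2, rfl⟩ := SA.inner_of_out (two_le K)
      (Prod.ext ((out_eq β γ hγ).symm.trans h1) hγ.2) ⟨k, ext_uniq h3 ext_one⟩
    exact ⟨⟨s, inX s s2 (comm β _ hγ.1)⟩, MulEquiv.ext fun a => Subtype.ext (hγ.1 a)⟩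

end H81.UAX
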