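import Cfsg.Agent.H85.P6.H81_UAFX
import Cfsg.Agent.H76.SAFB
import Cfsg.Agent.S2164

namespace H57 end H57
open H57
namespace H59 end H59
open H59
namespace H67 end H67
open H67
namespace H85.P6

/-! STD-UM, slot IC: the classes of involutions of `X = SU_(n+1)(q)`, `q` even. -/

set_option autoImplicit false
set_option linter.unusedSectionVars false

namespace H59.UM

open H64.SG (Inv2)
open H67 H67.UA Matrix H57

variable {n : ℕ} {K : Type} [Field K] [StarRing K] [CharP K 2] [Finite K] [hp : Par n K]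

theorem isConj_of_rank [FQ K] {g g' : XU n K} (h : Inv2 g) (h' : Inv2 g')
    (e : (mt g - 1).rank = (mt g' - 1).rank) : IsConj g g' := by
  have := Fintype.ofFinite K
  have := hp.five
  obtain ⟨P, φ, hφ⟩ := H81.UAX.exists_iso (n := n) (K := K)
  have h1 : ∀ {s : XU n K}, Inv2 s → orderOf (φ s) = 2 := fun hs => by
    rw [φ.orderOf_eq]; exact orderOf_eq_prime (by rw [sq, hs.1]) hs.2
  have h2 : ∀ s : XU n K, ((φ s).1.1 - 1).rank = (mt s - 1).rank := fun s => by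
    rw [hφ, slDiag_coe]; exact H76.SAFB.rank_conj (P⁻¹).mul_inv _
  simpa using φ.symm.toMonoidHom.map_isConj ((Cfsg.Agent.S2164.result H81.UAX.hF (by omega) _ _
    (h1 h) (h1 h')).2.2 (by rw [h2, h2, e]))

theorem inv2_val {g : XU n K} : Inv2 g ↔ Inv2 g.1 :=
  ⟨fun h => ⟨congrArg Subtype.val h.1, fun e => h.2 (Subtype.ext e)⟩,
    fun h => ⟨Subtype.ext h.1, fun e => h.2 (congrArg Subtype.val e)⟩⟩

theorem jobIC : JobIC := fun n K _ _ _ _ hp B => by
  haveI := B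
  refine ⟨fun g hg => ?_, fun _ _ => isConj_of_rank⟩
  have h2 : 2 ≤ n := by have := hp.five; omega
  obtain ⟨s, k, k1, k2, e⟩ := H76.SAFB.ic h2 g.1 (inv2_val.1 hg)
  have h1 := FV.xk_val (n := n) (K := K) k k2
  obtain ⟨h, e'⟩ := isConj_iff.1 (isConj_of_rank hg (g' := GA.xk (XU n K) k)
    (inv2_val.2 (h1 ▸ SA.inv2_xk k1 k2)) (by rw [UA.mt, UA.mt, h1, ← e, H76.SAFB.rank_cj]))
  exact ⟨h, k, rg_iff.2 ⟨k1, k2⟩, e'⟩

end H59.UM
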