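import Cfsg.Agent.H85.P6.H66_UAFY

namespace H57 end H57
open H57
namespace H66 end H66
open H66
namespace H67 end H67
open H67
namespace H85.P6

/-! STD-UM: `JobFA` (centralisers and normalisers in `Aut X`). -/

set_option autoImplicit false
set_option linter.unusedSectionVars false

namespace H66.UAK

open H64.SG (O2 Syl Cz Cs Ns cjs Is2 Inv2 UF IsO2 fx mem_fx is2_of_sq mem_Cz)
open Matrix H57 Subgroup
open H67 H67.UA
open H67.SA (SLn Au la St cI cm)

variable {n : ℕ} {K : Type} [Field K] [StarRing K] [CharP K 2] [Finite K] [hp : Par n K]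

theorem exists_hf {u : Vn n K} (hu : u ≠ 0) : ∃ z, hf z u = 1 := by
  obtain ⟨i, hi⟩ := Function.ne_iff.1 hu
  exact ⟨(star (u i))⁻¹ • ev i.rev, by
    rw [hf_smul_left, hf_ev_left, Fin.rev_rev, inv_mul_cancel₀ (by simpa using hi)]⟩

theorem wk_one {v : Vn n K} (h : Wk 1 v) : v = v 0 • ev 0 := funext fun i => by
  by_cases hi : i = 0
  · simp [hi, ev_apply]
  · simp [hi, ev_apply, h i (Nat.one_le_iff_ne_zero.2 fun e => hi (Fin.ext e))]

/-- Separation of the linear and the antilinear part. -/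
theorem split {R : Type} [Ring R] [Algebra K R] {g A B Z : R} {η d d' : K} (h : tr η = 1)
    (h1 : g * (A + B) = (A + B + d • Z) * g)
    (h2 : g * (star η • A + η • B) = (star η • A + η • B + d' • Z) * g) :
    g * A = (A + (η * d + d') • Z) * g ∧ g * B = (B + (star η * d + d') • Z) * g := by
  have two : ∀ (c : K) (a : R), c • a + c • a = 0 := fun c a => by
    rw [← add_smul, CharTwo.add_self_eq_zero, zero_smul]
  have e1 : A = η • (A + B) + (star η • A + η • B) := by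
    rw [smul_add, add_add_add_comm, two, add_zero, ← add_smul, show η + star η = 1 from h, one_smul]
  have e2 : B = star η • (A + B) + (star η • A + η • B) := by
    rw [smul_add, add_add_add_comm, two, zero_add, ← add_smul, add_comm,
      show η + star η = 1 from h, one_smul]
  constructor
  · nth_rewrite 1 [e1]; nth_rewrite 3 [e1]
    rw [mul_add, mul_smul_comm, h1, h2, ← smul_mul_assoc, ← add_mul]
    congr 1; simp only [smul_add, add_smul, mul_smul]; abel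
  · nth_rewrite 1 [e2]; nth_rewrite 3 [e2]
    rw [mul_add, mul_smul_comm, h1, h2, ← smul_mul_assoc, ← add_mul]
    congr 1; simp only [smul_add, add_smul, mul_smul]; abel

variable [Base n K]

/-- No field part. -/
theorem exists_dg {β : MulAut (XU n K)} (h0 : β (TT (ev 0)) = TT (ev 0))
    (h1 : ∀ a : K, ∃ c, Ok (ev 0) (a • ev 1 : Vn n K) c ∧
      β (EE (ev 0) (a • ev 1) 0) = EE (ev 0) (a • ev 1) c) :
    ∃ g : GL (Fin (n + 1)) K, ∀ s, (β s).1 = slDiag _ K g s.1 := by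
  obtain ⟨γ, e, h2⟩ := FX.ext β
  obtain ⟨Φ, hΦ⟩ := exists_sm h2
  have i0 := iso0 (n := n) (K := K)
  have l0 : hf (ev (la n) : Vn n K) (ev 0) = 1 := by rw [hf_ev, if_pos (by simp)]
  have k0 : Φ (ev 0) = hf (Φ (ev (la n))) (ev 0) • ev 0 := by
    have := hΦ.ac e (TT (ev 0)) (ev (la n))
    rw [h0, ac_Tc i0 (star_one K), ac_Tc i0 (star_one K), map_add, l0] at this
    simpa using this
  generalize hl : hf (Φ (ev (la n))) (ev 0) = l at k0
  have l1 : l ≠ 0 := fun h => ev_ne (n := n) (K := K) 0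
    ((map_eq_zero_iff _ hΦ.bij.1).1 (by rw [k0, h, zero_smul]))
  have k1 : ∀ a : K, (SA.out n K γ).1 a * Φ (ev 1) 1 = l * a := fun a => by
    obtain ⟨c, c1, c2⟩ := h1 a
    have p := (pp01 (n := n) (K := K)).smul 1 a
    rw [one_smul] at p
    have := hΦ.ac e (EE (ev 0) (a • ev 1) 0) (ev (la n))
    rw [c2, ac_EE c1, ac_EE p.ok, l0, hl, map_add, map_add, map_add, hΦ.smul, hΦ.smul, hΦ.smul,
      hΦ.smul, k0] at this
    simpa [ev_apply, (ne01 (n := n) (K := K)).symm] using congrFun this 1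
  obtain ⟨g, hg⟩ := hΦ.lin (RingEquiv.ext fun a => mul_left_cancel₀ l1 (by
    have := k1 1
    rw [map_one, one_mul, mul_one] at this
    rw [mul_comm, ← this, k1, this]; rfl))
  exact ⟨g, fun s => hg ▸ e s⟩

theorem mem_cI_of {β : MulAut (XU n K)} {γ : Au n K} (e : ∀ g, (β g).1 = γ g.1)
    {A : Subgroup (SLn n K)} (hA : A ≤ SA.UU n K) (h : γ ∈ cI A) :
    β ∈ cI (A.subgroupOf (fx (tau n K))) := by
  obtain ⟨s, s1, rfl⟩ := SA.mem_cI.1 h
  exact SA.mem_cI.2 ⟨⟨s, FX.inX s (SA.is2_of_UU (hA s1)) (FX.comm β _ e)⟩, s1,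
    MulEquiv.ext fun g => Subtype.ext (e g)⟩

/-- The action of a matrix on the two parts of `EE u x c`. -/
theorem comm_op {β : MulAut (XU n K)} {g : GL (Fin (n + 1)) K} (e : ∀ s, (β s).1 = slDiag _ K g s.1)
    {u x : Vn n K} (hu : Iso u) (hx : hf x u = 0) (h0 : β (TT u) = TT u) {D : K → Prop}
    (h1 : ∀ (a : K) c, Ok u (a • x) c → ∃ d, D d ∧ Ok u (a • x) (c + d) ∧
      β (EE u (a • x) c) = EE u (a • x) (c + d)) :
    ∃ η d d', D d ∧ D d' ∧ g.1 * op u x = (op u x + (η * d + d') • op u u) * g.1 ∧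
      g.1 * op x u = (op x u + (star η * d + d') • op u u) * g.1 := by
  have k0 : ∀ {s s'}, β s = s' → g.1 * UA.mt s = UA.mt s' * g.1 := fun {s s'} h =>
    SA.dg_eq_iff.1 (by rw [← e, h])
  have k1 : g.1 * op u u = op u u * g.1 := by
    have := k0 h0
    rw [mt_EE (ok_zero hu (star_one K))] at this
    simpa [mE, mul_add, add_mul] using this
  have k2 : ∀ a : K, ∃ d, D d ∧ g.1 * (star a • op u x + a • op x u) =
      (star a • op u x + a • op x u + d • op u u) * g.1 := fun a => by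
    obtain ⟨c, hc⟩ := FQ.trs _ (star_hf (a • x) (a • x))
    have o : Ok u (a • x) c := ⟨hu, by rw [hf_smul_left, hx, mul_zero], hc⟩
    obtain ⟨d, d1, d2, d3⟩ := h1 a c o
    have := k0 d3
    rw [mt_EE o, mt_EE d2, mE, mE, op_smul_left, op_smul_right] at this
    refine ⟨d, d1, ?_⟩
    simp only [mul_add, add_mul, mul_one, one_mul, add_smul, mul_smul_comm, smul_mul_assoc, k1,
      add_assoc, add_right_inj] at this ⊢
    rwa [add_comm (c • _) (d • _), ← add_assoc, ← add_assoc, ← add_assoc, add_left_inj,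
      add_assoc] at this
  obtain ⟨η, hη⟩ := FQ.eta (K := K)
  obtain ⟨d, d1, d2⟩ := k2 1
  obtain ⟨d', d3, d4⟩ := k2 η
  rw [star_one, one_smul, one_smul] at d2
  exact ⟨η, d, d', d1, d3, split hη d2 d4⟩

theorem ctK (k : ℕ) (hk : GA.Rg (XU n K) k) (β : MulAut (XU n K))
    (h : ∀ u ∈ GA.Qk (XU n K) k, β u = u) : β ∈ cI (GA.Mk (XU n K) k) := by
  obtain ⟨k1, k2⟩ := rg_iff.1 hk
  have h5 := hp.five
  obtain ⟨g, e⟩ := exists_dg (β := β) (h _ (GA.Mk_le_Qk hk (Tc_mem k2 (w0 k1) (star_one K)))) fun a => by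
    have p := (pp01 (n := n) (K := K)).smul 1 a
    rw [one_smul] at p
    exact ⟨0, p.ok, h _ (FV.EE_Q k k2 _ _ _ p.ok (w0 k1) ((w1 (by omega)).smul a))⟩
  have key : ∀ u x : Vn n K, Wk k u → Wk (n + 1 - k) x →
      g.1 * op u x = op u x * g.1 ∧ g.1 * op x u = op x u * g.1 := fun u x hu hx => by
    obtain ⟨η, d, d', rfl, rfl, h3⟩ := comm_op e (hu.pp hu k2).l (hx.perp hu (by omega))
      (h _ (GA.Mk_le_Qk hk (Tc_mem k2 hu (star_one K)))) (D := (· = 0)) fun a c o =>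
        ⟨0, rfl, by rwa [add_zero], by rw [add_zero, h _ (FV.EE_Q k k2 _ _ _ o hu (hx.smul a))]⟩
    simpa using h3
  refine mem_cI_of e (SA.Mk_le_Ml le_rfl (by omega) |>.trans (SA.Ml_le_UU k))
    (SA.fa_ctK (two_le n K) k k1 k2 _ fun u hu => ?_)
  rw [SA.Qk_eq] at hu
  refine mem_fx.1 (SA.Pat_le.2 (fun i j hij hs c => mem_fx.2 (SA.dg_eq_iff.2 ?_)) hu)
  have : g.1 * single i j 1 = single i j 1 * g.1 := by
    rw [← op_ev]
    rcases hs with hs | hs
    · exact (key _ _ (wk_ev hs.1) (wk_ev (by rw [Fin.val_rev]; omega))).1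
    · exact (key _ _ (wk_ev (by rw [Fin.val_rev]; omega)) (wk_ev hs.1)).2
  rw [SA.x_coe hij, show single i j c = c • single i j (1 : K) by simp, mul_add, add_mul,
    mul_smul_comm, this, smul_mul_assoc, mul_one, one_mul]

theorem n2 (β : MulAut (XU n K)) (h : ∀ u ∈ GA.QQ (XU n K), β u * u⁻¹ ∈ GA.ZZ (XU n K))
    (hz : ∀ z ∈ GA.ZZ (XU n K), β z = z) : β ∈ cI (GA.QQ (XU n K)) := by
  have h5 := hp.five
  have i0 := iso0 (n := n) (K := K)
  have h0 := SA.zero_ne_la (n := n) (by omega)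
  have z0 := hz _ ((FV.mem_Z _).2 ⟨1, star_one K, rfl⟩)
  have k0 : ∀ x c, Ok (ev 0) x c → ∃ d, True ∧ Ok (ev 0) x (c + d) ∧
      β (EE (ev 0) x c) = EE (ev 0) x (c + d) := fun x c o => by
    obtain ⟨d, d1, d2⟩ := (FV.mem_Z _).1 (h _ ((FV.mem_Q _).2 ⟨x, c, o, rfl⟩))
    have := (ok_zero i0 d1).add o
    rw [zero_add, hf_zero_right, add_zero, add_comm d] at this
    exact ⟨d, trivial, this, by
      rw [eq_mul_of_mul_inv_eq d2, EE_mul (ok_zero i0 d1) o, zero_add, hf_zero_right, add_zero,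
        add_comm d]⟩
  obtain ⟨g, e⟩ := exists_dg z0 fun a => by
    have p := (pp01 (n := n) (K := K)).smul 1 a
    rw [one_smul] at p
    obtain ⟨d, -, d1, d2⟩ := k0 _ _ p.ok
    exact ⟨_, d1, d2⟩
  have e0 : op (ev 0 : Vn n K) (ev 0) = single 0 (la n) 1 := by rw [← op_ev]; simp
  have kz : ∀ z ∈ SA.ZZ n K, slDiag _ K g z = z := fun z hz => by
    obtain ⟨c, rfl⟩ := SA.mem_ZZ.1 hz
    rw [← mul_one c, ← SA.sc_x, SA.lin (two_le n K) _ _ _ (SA.x_mul_self ..),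
      SA.out_slDiag (two_le n K), ← Tc0_val (star_one K), ← e, z0]; rfl
  let H : Subgroup (SLn n K) :=
    { carrier := {s | s ∈ Cs (SA.ZZ n K) ∧ slDiag _ K g s * s⁻¹ ∈ SA.ZZ n K}
      one_mem' := ⟨one_mem _, by simp⟩
      mul_mem' := fun {a b} ha hb => ⟨mul_mem ha.1 hb.1, by
        have := mul_mem ha.2 hb.2
        rw [mul_assoc, ← inv_mem ha.1 _ hb.2] at this
        simpa [mul_assoc] using this⟩
      inv_mem' := fun {a} ha => ⟨inv_mem ha.1, by
        have h1 := inv_mem ha.2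
        have h2 := ha.1 _ h1
        rw [map_inv, inv_inv, show (slDiag _ K g a)⁻¹ * a = a⁻¹ * ((slDiag _ K g a * a⁻¹)⁻¹ * a) by
          group, h2, inv_mul_cancel_left]
        exact h1⟩ }
  have key : ∀ i j : Fin (n + 1), i ≠ j → i = 0 ∨ j = la n → ∀ d : K, g.1 * single i j 1 =
      (single i j 1 + d • single 0 (la n) 1) * g.1 → ∀ c, SA.x i j c ∈ H := fun i j hij hs d h1 c =>
    ⟨SA.UU_le_Cs (SA.QQ_le_UU (SA.QQ_eq (n := n) (F := K) ▸ SA.x_mem_Pat hs c)), by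
      rw [show slDiag _ K g (SA.x i j c) = SA.x 0 (la n) (c * d) * SA.x i j c from SA.dg_eq_iff.2 (by
        rw [SA.val_mul, SA.x_coe hij, SA.x_coe h0, show single i j c = c • single i j (1 : K) by simp,
          mul_add, mul_smul_comm, h1]
        have : i ≠ la n := by rintro rfl; rcases hs with h | h; exacts [h0 h.symm, hij h.symm]
        rw [← smul_mul_assoc, mul_one, ← one_add_mul]
        congr 1
        simp [mul_add, add_mul, single_mul_single_of_ne _ _ _ _ this.symm, add_assoc, add_comm])]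
      rw [mul_inv_cancel_right]; exact SA.x_mem_ZZ _⟩
  have : β ∈ cI ((SA.QQ n K).subgroupOf _) := mem_cI_of e SA.QQ_le_UU
    (SA.fa_n2 (two_le n K) _ (fun u hu => ?_) kz)
  · rwa [← SA.Qk_one] at this
  rw [SA.QQ_eq] at hu
  refine (SA.Pat_le (H := H).2 (fun i j hij hs c => ?_) hu).2
  rcases id hs with rfl | rfl
  · obtain ⟨η, d, d', -, -, h3, -⟩ := comm_op e i0 (x := ev j.rev)
      (by rw [hf_ev, if_neg (by simpa using hij)]) z0 fun a => k0 _
    rw [op_ev, e0] at h3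
    exact key _ _ hij hs _ h3 c
  · obtain ⟨η, d, d', -, -, -, h3⟩ := comm_op e i0 (x := ev i)
      (by rw [hf_ev, if_neg (by simpa [eq_comm, Fin.rev_eq_iff] using hij)]) z0 fun a => k0 _
    rw [e0, show op (ev i : Vn n K) (ev 0) = single i (la n) 1 by rw [← op_ev]; simp] at h3
    exact key _ _ hij hs _ h3 c

theorem mem_Z1 {g : XU n K} : g ∈ GA.ZZ (XU n K) ↔ ∀ v, Wk 1 (ac g v + v) :=
  FV.mem_M 1 (by have := hp.five; omega) g

theorem roota (g : XU n K) (β : MulAut (XU n K)) (h : GA.Root g) : GA.Root (β g) := by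
  obtain ⟨v, v0, v1, rfl⟩ := FV.root g h
  obtain ⟨γ, e, h2⟩ := FX.ext β
  obtain ⟨Φ, hΦ⟩ := exists_sm h2
  have k1 : ∀ w, ac (β (TT v)) (Φ w) = Φ w + (SA.out n K γ).1 (hf w v) • Φ v := fun w => by
    rw [← hΦ.ac e, ac_Tc v1 (star_one K), map_add, hΦ.smul, one_mul]
  obtain ⟨w, hw⟩ := exists_hf v0
  have k2 : Iso (Φ v) := by
    have := hf_ac (β (TT v)) (Φ w) (Φ v)
    rwa [k1, k1, show hf v v = 0 from v1, hw, map_zero, zero_smul, add_zero, map_one, one_smul,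
      hf_add_left, add_eq_left] at this
  obtain ⟨p, hp⟩ := FW.w1 _ ((map_ne_zero_iff _ hΦ.bij.1).2 v0) k2
  refine ⟨p, p⁻¹ * β (TT v) * p, mem_Z1.2 fun y => ?_, fun h1 => h.inv2.2 ?_, by group⟩
  · obtain ⟨y', hy⟩ := hΦ.bij.2 (ac p y)
    rw [ac_mul, ac_mul, ← hy, k1, hy, ← hp, ac_add, ac_smul, ac_inv_ac, ac_inv_ac, add_right_comm,
      v_add_self, zero_add]
    exact (w0 le_rfl).smul _
  · exact (map_eq_one_iff β β.injective).1 (by rwa [← inv_inv p, inv_inv p⁻¹, conj_eq_one_iff] at h1)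

theorem line_of {g : XU n K} {c : K} (hc : star c = c) (c0 : c ≠ 0)
    (h : g * Tc c (ev 0) * g⁻¹ ∈ GA.ZZ (XU n K)) : ∃ κ : K, ac g (ev 0) = κ • ev 0 := by
  obtain ⟨y, hy⟩ := exists_hf (u := ac g (ev 0)) fun e => ev_ne 0 (ac_inj g (e.trans (ac_zero g).symm))
  have := mem_Z1.1 h y
  rw [Tc_conj iso0 hc, ac_Tc (iso0.ac g) hc, hy, add_right_comm, v_add_self, zero_add] at this
  exact ⟨_, wk_one fun i hi => by simpa [c0] using this i hi⟩

theorem line_of_Ns {g : XU n K} (h : g ∈ Ns (GA.ZZ (XU n K))) : ∃ κ : K, ac g (ev 0) = κ • ev 0 :=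
  line_of (star_one K) one_ne_zero
    (H98.conj_mem_of_mem_normalizer h ((FV.mem_Z _).2 ⟨1, star_one K, rfl⟩))

theorem ns_of_line {g : XU n K} {κ : K} (h : ac g (ev 0) = κ • ev 0) : g ∈ Ns (GA.ZZ (XU n K)) :=
  SA.conj_mem_St.1 (SA.mem_St_of_finite fun z hz => by
    obtain ⟨c, c1, rfl⟩ := (FV.mem_Z _).1 hz
    rw [MulAut.conj_apply, Tc_conj iso0 c1, h, Tc_smul]
    exact (FV.mem_Z _).2 ⟨_, by rw [star_mul', star_nm, c1], rfl⟩)

theorem cz (z : XU n K) (hz : z ∈ GA.ZZ (XU n K)) (h1 : z ≠ 1) : Cz z ≤ Ns (GA.ZZ (XU n K)) :=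
  fun g hg => by
    obtain ⟨c, c1, rfl⟩ := (FV.mem_Z _).1 hz
    obtain ⟨κ, h⟩ := line_of (g := g) c1 (by rintro rfl; exact h1 (EE_zero _))
      (by rwa [← mem_Cz.1 hg, mul_inv_cancel_right])
    exact ns_of_line h

theorem pfN (N : Subgroup (XU n K)) (h : N ≤ Ns (GA.ZZ (XU n K))) (h' : N ≤ ⁅N, N⁆) :
    N ≤ GA.PP (XU n K) := h'.trans (commutator_le.2 fun a ha b hb => by
  obtain ⟨κ, e1⟩ := line_of_Ns (h ha)
  obtain ⟨κ', e2⟩ := line_of_Ns (h hb)
  obtain ⟨μ, e3⟩ := line_of_Ns (h (inv_mem (mul_mem hb ha)))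
  have e4 : ac (a * b) (ev 0) = ac (b * a) (ev 0) := by
    rw [ac_mul, ac_mul, e1, e2, ac_smul, ac_smul, e1, e2, smul_comm]
  rw [mem_PP, commutatorElement_def, mul_assoc, ← _root_.mul_inv_rev, ac_mul, e3, ac_smul, e4,
    ← ac_smul, ← e3, ac_ac_inv])

theorem diag_Ns {h : XU n K} {d : Fin (n + 1) → K} (d0 : ∀ i, d i ≠ 0)
    (hd : ∀ v i, ac h v i = d i * v i) : h ∈ Ns (GA.UU (XU n K)) :=
  SA.conj_mem_St.1 (SA.mem_St_of_finite fun u hu => (FV.mem_U _).2 fun k v hv i hi => by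
    have h1 : Wk (k + 1) (ac h⁻¹ v) := fun j hj => by
      have := hd (ac h⁻¹ v) j
      rw [ac_ac_inv, hv j hj] at this
      exact (mul_eq_zero.1 this.symm).resolve_left (d0 j)
    have h2 := (FV.mem_U u).1 hu k _ h1 i hi
    rw [MulAut.conj_apply, ac_mul, ac_mul]
    nth_rewrite 2 [← ac_ac_inv h v]
    rw [← ac_add, hd, h2, mul_zero])

theorem trZ (z : XU n K) (hz : z ∈ GA.ZZ (XU n K)) (z' : XU n K) (hz' : z' ∈ GA.ZZ (XU n K))
    (h1 : z ≠ 1) (h1' : z' ≠ 1) : ∃ h ∈ Ns (GA.UU (XU n K)), h * z * h⁻¹ = z' := by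
  have h0 := SA.zero_ne_la (n := n) (by have := hp.five; omega)
  obtain ⟨c, c1, rfl⟩ := (FV.mem_Z _).1 hz
  obtain ⟨c', c2, rfl⟩ := (FV.mem_Z _).1 hz'
  have c0 : c ≠ 0 := by rintro rfl; exact h1 (EE_zero _)
  have c0' : c' ≠ 0 := by rintro rfl; exact h1' (EE_zero _)
  obtain ⟨r, r0, r1, r2⟩ : ∃ r : K, r ≠ 0 ∧ star r = r ∧ r * r * c = c' :=
    ⟨rt (c' / c), rt_ne (div_ne_zero c0' c0), by rw [FQ.star_rt, star_div₀, c1, c2],
      by rw [← pow_two, rt_sq, div_mul_cancel₀ _ c0]⟩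
  obtain ⟨g, -, -, g3⟩ := FV.diag (n := n)
    (fun i => (Pi.mulSingle 0 r : _ → K) i * (Pi.mulSingle (la n) r⁻¹ : _ → K) i) (fun i => by
      by_cases i0 : i = 0
      · subst i0; simp [h0, h0.symm, r1, r0]
      by_cases i1 : i = la n
      · subst i1; simp [h0, h0.symm, r1, r0]
      have i2 : i.rev ≠ 0 := by simpa [Fin.rev_eq_iff] using i1
      have i3 : i.rev ≠ la n := by simpa [Fin.rev_eq_iff] using i0
      simp [i0, i1, i2, i3]) (by simp [Finset.prod_mul_distrib, r0])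
  refine ⟨g, diag_Ns (fun i => ?_) g3, ?_⟩
  · simp only [Pi.mulSingle_apply]; split_ifs <;> simp [r0]
  · rw [Tc_conj iso0 c1, show ac g (ev 0) = r • ev 0 from funext fun i => by
      by_cases i0 : i = 0 <;> simp [g3, ev_apply, i0, h0], Tc_smul, nm, r1, r2]

theorem qz (v : XU n K) (hv : v ∈ GA.QQ (XU n K)) (h1 : v ∉ GA.ZZ (XU n K)) (z : XU n K)
    (hz : z ∈ GA.ZZ (XU n K)) : ∃ u ∈ GA.QQ (XU n K), z = cm v u := by
  obtain ⟨x, c, o, rfl⟩ := (FV.mem_Q _).1 hv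
  obtain ⟨d, d1, rfl⟩ := (FV.mem_Z _).1 hz
  obtain ⟨y, y1, y2⟩ : ∃ y, hf y (ev 0) = 0 ∧ tr (hf y x) ≠ 0 := by
    by_contra hc
    push Not at hc
    obtain ⟨a, rfl⟩ := FW.dual _ x (ev_ne 0) hc
    refine h1 ((FV.mem_Z _).2 ⟨c + tr a, ?_, by rw [← zero_add (a • _), EE_shift]⟩)
    have := o.tr
    rw [show hf (a • ev 0 : Vn n K) (a • ev 0) = 0 from iso0.smul a, tr_eq_zero] at this
    rw [star_add, this, star_tr]
  have s1 : star (d / tr (hf y x)) = d / tr (hf y x) := by rw [star_div₀, d1, star_tr]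
  obtain ⟨c', hc⟩ := FQ.trs _ (star_hf ((d / tr (hf y x)) • y) ((d / tr (hf y x)) • y))
  have o' : Ok (ev 0) ((d / tr (hf y x)) • y) c' := ⟨iso0, by rw [hf_smul_left, y1, mul_zero], hc⟩
  refine ⟨_, (FV.mem_Q _).2 ⟨_, _, o', rfl⟩, (EE_cm o o').symm ▸ congrArg (Tc · _) ?_⟩
  rw [hf_smul_right, s1, tr, star_mul', s1, ← mul_add, star_hf, ← star_hf y x, add_comm,
    div_mul_cancel₀ _ y2]

theorem jobFA : JobFA := fun n K _ _ _ _ _ B _ =>
  have := B
  ⟨ctK, n2, fun β hβ k _ => by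
    obtain ⟨γ, e, -⟩ := FX.ext β
    have := (SA.fa_nu (two_le n K) γ (stU β γ e hβ)).2 k
    exact ⟨fun g => by rw [mem_Mk, mem_Mk, e]; exact this.1 _,
      fun g => by rw [mem_Qk, mem_Qk, e]; exact this.2 _⟩, roota, cz, pfN, trZ, qz⟩

end H66.UAK
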