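import Cfsg.Agent.H85.P6.H66_UAFK
import Cfsg.Agent.H85.P6.H67_UAK0

namespace H57 end H57
open H57
namespace H66 end H66
open H66
namespace H67 end H67
open H67
namespace H85.P6

/-! STD-UM: `JobFY` (the extension of an automorphism normalising `U` or `Z`); semilinear maps. -/

set_option autoImplicit false
set_option linter.unusedSectionVars false

namespace H66.UAK

open H64.SG (O2 Syl Cz Cs Ns cjs Is2 Inv2 UF IsO2 fx mem_fx is2_of_sq)
open Matrix H57 Subgroup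
open H67 H67.UA
open H67.SA (SLn Au la St cI cm)

variable {n : ℕ} {K : Type} [Field K] [StarRing K] [CharP K 2] [Finite K] [hp : Par n K]

/-- `γ` is induced by the `σ`-semilinear bijection `Φ`. -/
structure Sm (γ : Au n K) (σ : RingAut K) (Φ : Vn n K →+ Vn n K) : Prop where
  smul : ∀ a v, Φ (a • v) = σ a • Φ v
  act : ∀ (s : SLn n K) v, Φ (s.1 *ᵥ v) = (γ s).1 *ᵥ Φ v
  bij : Function.Bijective Φ
  lin : σ = 1 → ∃ g : GL (Fin (n + 1)) K, γ = slDiag _ K g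

theorem exists_sm {γ : Au n K} (h : (SA.out n K γ).2 = 1) : ∃ Φ, Sm γ (SA.out n K γ).1 Φ := by
  obtain ⟨g, hg⟩ := SA.exists_dfg (two_le n K) γ
  obtain ⟨-, hg⟩ := hg.resolve_right fun e => e.1 h
  generalize (SA.out n K γ).1 = σ at hg
  subst hg
  refine ⟨H59.semiMap g σ, H59.semiMap_smul g σ, fun s v => ?_,
    Finite.injective_iff_bijective.1 ((injective_iff_map_eq_zero _).2 fun v hv => ?_),
    fun h => ⟨g, by rw [h, map_one, mul_one]⟩⟩
  · change _ = (g.1 * s.1.map σ * (g⁻¹).1) *ᵥ _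
    rw [H59.semiMap_apply, H59.semiMap_apply, map_mulVec_ringAut, mulVec_mulVec, mulVec_mulVec,
      mul_assoc _ _ g.1, Units.inv_mul, mul_one]
  · have h1 := congrArg (fun w => (g⁻¹).1 *ᵥ w) hv
    simp only [H59.semiMap_apply, mulVec_mulVec, Units.inv_mul, one_mulVec, mulVec_zero] at h1
    ext i
    simpa using congrFun h1 i

theorem Sm.ac {γ : Au n K} {σ : RingAut K} {Φ : Vn n K →+ Vn n K} (h : Sm γ σ Φ)
    {β : MulAut (XU n K)} (e : ∀ g, (β g).1 = γ g.1) (s : XU n K) (v : Vn n K) :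
    Φ (ac s v) = ac (β s) (Φ v) := by
  rw [UA.ac, UA.ac, UA.mt, UA.mt, e]; exact h.act _ _

theorem mem_UU_iff {s : SLn n K} :
    s ∈ SA.UU n K ↔ ∀ k v, Wk (k + 1) v → Wk k (s.1 *ᵥ v + v) := by
  rw [SA.mem_UU]
  refine ⟨fun ⟨h1, h2⟩ k v hv i hi => ?_, fun h => ⟨fun i => ?_, fun i j hij => ?_⟩⟩
  · rw [Pi.add_apply, mulVec, dotProduct, Finset.sum_eq_single i, h1, one_mul,
      CharTwo.add_self_eq_zero]
    · intro j _ hj
      rcases lt_or_gt_of_ne hj with hj | hj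
      · rw [h2 i j hj, zero_mul]
      · rw [hv j (by rw [Fin.lt_def] at hj; omega), mul_zero]
    · simp
  · have := h i (ev i) (wk_ev (by omega)) i le_rfl
    simpa [ev, CharTwo.add_eq_zero] using this
  · have := h j (ev j) (wk_ev (by omega)) i hij.le
    simpa [ev, hij.ne'] using this

variable [Base n K]

theorem exU (i j : Fin (n + 1)) (h : j.val = i.val + 1) :
    ∃ u ∈ GA.UU (XU n K), ∀ v, Wk (j.val + 1) v → (ac u v + v) i = v j := by
  have hj := j.2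
  have rv : ∀ a : Fin (n + 1), a.rev.val = n - a.val := fun a => by rw [Fin.val_rev]; omega
  rcases lt_trichotomy (2 * j.val) (n + 1) with h1 | h1 | h1
  · obtain ⟨c, hc⟩ := FQ.trs _ (star_hf (ev j.rev : Vn n K) (ev j.rev))
    have w1 : Wk j.val (ev i : Vn n K) := wk_ev (by omega)
    have w2 : Wk (n + 1 - j.val) (ev j.rev : Vn n K) := wk_ev (by rw [rv]; omega)
    have o : Ok (ev i) (ev j.rev) c := ⟨w1.perp w1 (by omega), w2.perp w1 (by omega), hc⟩
    refine ⟨_, GA.Qk_le_UU (rg_iff.2 ⟨by omega, h1.le⟩) (FV.EE_Q _ h1.le _ _ _ o w1 w2), fun v hv => ?_⟩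
    simp [ac_EE o, hf_ev_right, hv i.rev (by rw [rv]; omega), ev_apply, add_right_comm,
      CharTwo.add_self_eq_zero]
  · have w1 : Wk j.val (ev i : Vn n K) := wk_ev (by omega)
    refine ⟨_, GA.Mk_le_UU (rg_iff.2 ⟨by omega, h1.le⟩) (Tc_mem h1.le w1 (star_one K)), fun v hv => ?_⟩
    simp [ac_Tc (w1.pp w1 h1.le).l (star_one K), hf_ev_right, ev_apply, add_right_comm,
      CharTwo.add_self_eq_zero, show i.rev = j from Fin.ext (by rw [rv]; omega)]
  · obtain ⟨c, hc⟩ := FQ.trs _ (star_hf (ev i : Vn n K) (ev i))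
    have w1 : Wk (n + 1 - j.val) (ev j.rev : Vn n K) := wk_ev (by rw [rv]; omega)
    have w2 : Wk (n + 1 - (n + 1 - j.val)) (ev i : Vn n K) := wk_ev (by omega)
    have o : Ok (ev j.rev) (ev i) c := ⟨w1.perp w1 (by omega), w2.perp w1 (by omega), hc⟩
    refine ⟨_, GA.Qk_le_UU (rg_iff.2 ⟨by omega, by omega⟩) (FV.EE_Q _ (by omega) _ _ _ o w1 w2),
      fun v hv => ?_⟩
    have : i ≠ j.rev := fun e => by have := congrArg Fin.val e; rw [rv] at this; omega
    simp [ac_EE o, hf_ev_right, ev_apply, this, add_right_comm, CharTwo.add_self_eq_zero]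

/-- The vectors fixed by `U` modulo `W_k`. -/
theorem flag {k : ℕ} {v : Vn n K} : Wk (k + 1) v ↔ ∀ u ∈ GA.UU (XU n K), Wk k (ac u v + v) := by
  refine ⟨fun h u hu => (FV.mem_U u).1 hu k v h, fun h => ?_⟩
  have key : ∀ d, Wk (k + 1 + d) v → Wk (k + 1) v := fun d => by
    induction d with
    | zero => exact id
    | succ d ih =>
      refine fun hv => ih fun j hj => ?_
      rcases hj.eq_or_lt with e | e
      · obtain ⟨u, u1, u2⟩ := exU (K := K) ⟨k + d, by omega⟩ j (by simp only; omega)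
        rw [← u2 v (e ▸ hv), h u u1 _ (by simp)]
      · exact hv j e
  exact key n fun i hi => by omega

theorem tau_UU : tau n K ∈ St (SA.UU n K) := SA.mem_St_Pat fun i j _ hs a => by
  rw [tau_x]; exact SA.x_mem_UU (Fin.rev_lt_rev.2 hs) _

/-- The extension without graph part. -/
theorem ext_cases {β : MulAut (XU n K)} {γ : Au n K} (e : ∀ g, (β g).1 = γ g.1) :
    ∃ γ', Ext β γ' ∧ (γ = γ' ∨ γ = γ' * tau n K) := by
  obtain ⟨γ', h1, h2⟩ := FX.ext β
  refine ⟨γ', ⟨h1, h2⟩, (FX.cX (γ'⁻¹ * γ) fun g => ?_).imp (fun h => ?_) fun h => ?_⟩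
  · rw [MulAut.mul_apply, ← e, h1, MulAut.inv_apply_self]
  · exact (inv_mul_eq_one.1 h).symm
  · exact inv_mul_eq_iff_eq_mul.1 h

theorem Sm.wk {γ : Au n K} {σ : RingAut K} {Φ : Vn n K →+ Vn n K} (h : Sm γ σ Φ)
    {β : MulAut (XU n K)} (e : ∀ g, (β g).1 = γ g.1) (hβ : β ∈ St (GA.UU (XU n K))) (k : ℕ) :
    ∀ v, Wk k (Φ v) ↔ Wk k v := by
  induction k with
  | zero =>
    have : ∀ v : Vn n K, Wk 0 v ↔ v = 0 := fun v =>
      ⟨fun h => funext fun i => h i (Nat.zero_le _), fun h i _ => by rw [h]; rfl⟩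
    exact fun v => by rw [this, this, map_eq_zero_iff _ h.bij.1]
  | succ k ih =>
    intro v
    rw [flag, flag]
    refine ⟨fun h1 u hu => (ih _).1 ?_, fun h1 u hu => ?_⟩
    · rw [map_add, h.ac e]; exact h1 _ ((hβ u).1 hu)
    · obtain ⟨u, rfl⟩ := β.surjective u
      rw [← h.ac e, ← map_add, ih]; exact h1 _ ((hβ u).2 hu)

theorem stU (β : MulAut (XU n K)) (γ : Au n K) (e : ∀ g, (β g).1 = γ g.1)
    (hβ : β ∈ St (GA.UU (XU n K))) : γ ∈ St (SA.UU n K) := by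
  obtain ⟨γ', ⟨h1, h2⟩, h3⟩ := ext_cases e
  obtain ⟨Φ, hΦ⟩ := exists_sm h2
  have : γ' ∈ St (SA.UU n K) := SA.mem_St_of_finite fun s hs => mem_UU_iff.2 fun k v hv => by
    obtain ⟨v, rfl⟩ := hΦ.bij.2 v
    rw [← hΦ.act, ← map_add, hΦ.wk h1 hβ]
    exact mem_UU_iff.1 hs k v ((hΦ.wk h1 hβ _ _).1 hv)
  rcases h3 with rfl | rfl
  exacts [this, mul_mem this tau_UU]

variable (K) in
include hp in
theorem ne0 : (0 : Fin (n + 1)) ≠ Fin.rev 0 := by
  have := hp.five; rw [Ne, Fin.ext_iff]; simp; omega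

theorem Tc0_val {c : K} (hc : star c = c) : (Tc c (ev 0 : Vn n K)).1 = SA.x 0 (la n) c := by
  rw [FV.Tc_val 0 c (ne0 K) hc]; simp

theorem stZ (β : MulAut (XU n K)) (γ : Au n K) (e : ∀ g, (β g).1 = γ g.1)
    (hβ : β ∈ St (GA.ZZ (XU n K))) : γ ∈ St (SA.ZZ n K) := SA.mem_St_of_finite fun s hs => by
  obtain ⟨a, rfl⟩ := SA.mem_ZZ.1 hs
  obtain ⟨c, c1, c2⟩ := (FV.mem_Z _).1 ((hβ _).1 ((FV.mem_Z _).2 ⟨1, star_one K, rfl⟩))
  rw [← mul_one a, ← SA.sc_x, SA.lin (two_le n K) _ _ _ (SA.x_mul_self ..), ← Tc0_val (star_one K),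
    ← e, c2, Tc0_val c1, SA.sc_x]
  exact SA.x_mem_ZZ _

theorem jobFY : JobFY := fun _ _ _ _ _ _ _ B =>
  have := B
  ⟨stU, stZ⟩

end H66.UAK
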