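import Cfsg.Agent.H67.SAInd
import Cfsg.Agent.H21.CoverId

namespace H57 end H57
open H57
namespace H67 end H67
open H67
namespace H85.P6

/-! STD-UM (row S3128), piece 1: a type-free version of the STD-A tower.  `X` is a quasisimple group
with the data `Dat` and the facts `Fa`.  Notes: `blueprints/STDUM.md`.  `L = e.range`, `K = C(L)`,
`T` = class of `t`.  API: `H67/GAInd.lean`. -/

set_option autoImplicit false

namespace H67.GA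

open H64.SG (O2 Syl Cz Cs Ns cjs Is2 Inv2 UF IsO2 fx)
open H57 Subgroup

export H67.SA (St cI cm Gen JobK10 JobK11 mem_St mem_St_iff_map mem_St_of_finite conj_mem_St mem_cI
  cm_eq_one cm_eq mem_cjs conj_mem_cjs card_cjs cjs_inv_le cjs_swap exists_odd_core jobK10 jobK11)

universe u

/-- The data. -/
class Dat (X : Type) [Group X] where
  U : Subgroup X
  P : Subgroup X
  S : Subgroup X
  M : ℕ → Subgroup X
  Q : ℕ → Subgroup X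
  x : ℕ → X
  l : ℕ
  q : ℕ
  N : ℕ
  b : ℕ
  A : Type
  [grp : Group A]
  o : MulAut X →* A

attribute [instance] Dat.grp

section Defs

variable (X : Type) [Group X] [Dat X]

/-- a Sylow `2`-subgroup -/
abbrev UU : Subgroup X := Dat.U
/-- `O^{2'}(C(Z))` -/
abbrev PP : Subgroup X := Dat.P
/-- a perfect subgroup of `N(Qk 2)` -/
abbrev SS : Subgroup X := Dat.S
/-- the centre of `Qk k` -/
abbrev Mk (k : ℕ) : Subgroup X := Dat.M k
/-- `O₂(C(xk k))` -/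
abbrev Qk (k : ℕ) : Subgroup X := Dat.Q k
/-- the standard involutions -/
abbrev xk (k : ℕ) : X := Dat.x k
/-- the long root group `Z = Z(U)` -/
abbrev ZZ : Subgroup X := Mk X 1
/-- `Q = O₂(C(Z))` -/
abbrev QQ : Subgroup X := Qk X 1
/-- the number of classes of involutions -/
abbrev ll : ℕ := Dat.l X
/-- `q = |Z|` -/
abbrev qq : ℕ := Dat.q X
/-- `|U| = q ^ NN` -/
abbrev NN : ℕ := Dat.N X
/-- `|Qk ll| = q ^ bg` -/
abbrev bg : ℕ := Dat.b X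
/-- the outer part of an automorphism -/
abbrev out : MulAut X →* Dat.A X := Dat.o
/-- `1 ≤ k ≤ ll` -/
abbrev Rg (k : ℕ) : Prop := 1 ≤ k ∧ k ≤ ll X

variable {X}

/-- `g` is a root involution. -/
def Root (g : X) : Prop := ∃ h, ∃ z ∈ ZZ X, z ≠ 1 ∧ g = h * z * h⁻¹

/-- The subgroup generated by the involutions of `H`. -/
def Iv {G : Type*} [Group G] (H : Subgroup G) : Subgroup G := closure {v | v ∈ H ∧ v * v = 1}

end Defs

section Facts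

variable (X : Type) [Group X] [Dat X]

/-- `X` is quasisimple with trivial multiplier; the automorphisms. -/
class FO : Prop where
  perf : commutator X = ⊤
  oddZ : Odd (Nat.card (center X))
  nrm : ∀ N : Subgroup X, N.Normal → N ≤ center X ∨ N = ⊤
  qs : Function.Surjective (quotCenterAut X)
  out_conj : ∀ g : X, out X (MulAut.conj g) = 1
  out_comm : ∀ a b : Dat.A X, a * b = b * a
  inn : ∀ β : MulAut X, out X β = 1 → Is2 β → ∃ s, β = MulAut.conj s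

/-- Inclusions and orders. -/
class FB : Prop where
  syl : Syl (UU X) ⊤
  two_le : 2 ≤ ll X
  q2 : 2 ≤ qq X
  N3 : 3 ≤ NN X
  lt : 2 * qq X ^ (NN X + 1) < qq X ^ (2 * bg X)
  cardU : Nat.card (UU X) = qq X ^ NN X
  cardZ : Nat.card (ZZ X) = qq X
  big : 2 < Nat.card (Mk X (ll X))
  UP : UU X ≤ PP X
  PZ : PP X ≤ Cs (ZZ X)
  Pc : PP X ⊓ center X = ⊥
  QZ : ¬ QQ X ≤ ZZ X
  MQ : ∀ k, Rg X k → Mk X k ≤ Qk X k
  QU : ∀ k, Rg X k → Qk X k ≤ UU X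
  QM : ∀ k, Rg X k → Qk X k ≤ Cs (Mk X k)
  ZM : ∀ k, Rg X k → ZZ X ≤ Mk X k
  xM : ∀ k, Rg X k → xk X k ∈ Mk X k
  x1 : ∀ k, Rg X k → xk X k ≠ 1
  sqM : ∀ k, Rg X k → ∀ g ∈ Mk X k, g * g = 1
  sqQ : ∀ k, Rg X k → ∀ g ∈ Qk X k, g * g ∈ Mk X k
  cmQ : ∀ k, Rg X k → ∀ a ∈ Qk X k, ∀ b ∈ Qk X k, cm a b ∈ Mk X k

/-- Centralisers and normalisers in `Aut X`. -/
class FA : Prop where
  ctK : ∀ k, Rg X k → ∀ β : MulAut X, (∀ u ∈ Qk X k, β u = u) → β ∈ cI (Mk X k)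
  n2 : ∀ β : MulAut X, (∀ u ∈ QQ X, β u * u⁻¹ ∈ ZZ X) → (∀ z ∈ ZZ X, β z = z) → β ∈ cI (QQ X)
  nu : ∀ β ∈ St (UU X), ∀ k, Rg X k → β ∈ St (Mk X k) ∧ β ∈ St (Qk X k)
  roota : ∀ (g : X) (β : MulAut X), Root g → Root (β g)
  cz : ∀ z ∈ ZZ X, z ≠ 1 → Cz z ≤ Ns (ZZ X)
  pfN : ∀ N ≤ Ns (ZZ X), N ≤ ⁅N, N⁆ → N ≤ PP X
  trZ : ∀ z ∈ ZZ X, ∀ z' ∈ ZZ X, z ≠ 1 → z' ≠ 1 → ∃ h ∈ Ns (UU X), h * z * h⁻¹ = z'
  qz : ∀ v ∈ QQ X, v ∉ ZZ X → ∀ z ∈ ZZ X, ∃ u ∈ QQ X, z = cm v u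

/-- Generation. -/
class FP : Prop where
  pfP : PP X ≤ ⁅PP X, PP X⁆
  pfS : SS X ≤ ⁅SS X, SS X⁆
  ivP : PP X ≤ Iv (PP X)
  ivS : SS X ≤ Iv (SS X)
  ivQ : QQ X ≤ Iv (QQ X)
  SN : SS X ≤ Ns (Qk X 2)
  SM : SS X ≤ Ns (Mk X 2)
  top : PP X ⊔ SS X = ⊤

/-- Generation by involutions. -/
class FG : Prop where
  ig3 : ∀ k, Rg X k → Qk X k ≤ Iv (Cz (xk X k))
  ig4 : ∀ y ∈ Qk X (ll X), Qk X (ll X) ≤
    closure {v | v * v = 1 ∧ v ∈ Ns (Mk X (ll X)) ∧ cm v y ∈ Mk X (ll X)}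

/-- Every automorphism of `P` extends. -/
class FE : Prop where
  ap : ∀ θ : MulAut (PP X), ∃ β : MulAut X, ∀ p : PP X, β p = θ p

/-- Involutions of `X`. -/
class FI : Prop where
  ic : ∀ g : X, Inv2 g → ∃ h k, Rg X k ∧ h * g * h⁻¹ = xk X k
  qk : ∀ k, Rg X k → IsO2 (Qk X k) (Cz (xk X k))

/-- Centralisers of the involutions that are not root elements. -/
class FJ : Prop where
  a45 : ∀ (g y : X) (P : Subgroup X), Inv2 g → ¬ Root g → Inv2 y → Syl P (Cz g) →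
    y ∈ Cs P → IsConj g y ∨ y ∈ O2 (Cz g)
  g4 : ∀ g w : X, Inv2 g → ¬ Root g → Inv2 w → w ∈ Cs (Cz g) → IsConj g w

/-- `2`-subgroups of `Aut X`. -/
class FD : Prop where
  sb : ∀ B : Subgroup (MulAut X), IsPGroup 2 B → Nat.card B ≤ qq X ^ (NN X + 1)
  si1 : ∀ β ∈ St (UU X), β ∈ cI (ZZ X) ∨ qq X ≤ (fx β).relIndex (UU X)
  th : ∀ D D' : Subgroup (MulAut X), IsPGroup 2 D → IsPGroup 2 D' → cI (UU X) ≤ D →
    cI (UU X) ≤ D' → (∀ β ∈ D, ∀ z ∈ ZZ X, β z = z) → (∀ β ∈ D', ∀ z ∈ ZZ X, β z = z) →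
    ∀ θ : MulAut X → MulAut X, (∀ a ∈ D', ∀ b ∈ D', θ (a * b) = θ a * θ b) → Set.BijOn θ D' D →
      (∀ a ∈ cI (ZZ X), θ a ∈ cI (ZZ X)) → ∀ a ∈ cI (QQ X), θ a ∈ cI (QQ X)

/-- The centre of a Sylow `2`-subgroup of the fixed points of an outer involution. -/
class FF : Prop where
  ff : ∀ β : MulAut X, β * β = 1 → out X β ≠ 1 →
    ∀ (P : Subgroup X) (y : X), Syl P (fx β) → y ∈ P → y ∈ Cs P → y * y = 1 → y ∈ ⁅fx β, fx β⁆

/-- Fixed points of an automorphism of order at most `2`. -/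
class FH : Prop where
  fh : ∀ β : MulAut X, β * β = 1 → (∃ y ∈ ⁅fx β, fx β⁆, Inv2 y) ∧
    ((∃ P ≤ fx β, IsPGroup 2 P ∧ qq X ^ bg X ≤ Nat.card P) ∨
      β ≠ 1 ∧ ∃ N ≤ fx β, N ≤ ⁅N, N⁆ ∧ ∃ ρ : ℕ, ρ ∣ (center X).relIndex N ∧
        ∀ g : X, Inv2 g → ¬ ρ ∣ Nat.card (Cz g))

/-- All facts. -/
class Fa : Prop extends FO X, FB X, FA X, FP X, FG X, FE X, FI X, FJ X, FD X, FF X, FH X

end Facts

section Amb

variable {X : Type} [Group X] {G : Type u} [Group G]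

/-- `g` induces `β` on the image of `e`. -/
def Ind {Y : Type} [Group Y] (e : Y →* G) (g : G) (β : MulAut Y) : Prop :=
  ∀ s, g * e s * g⁻¹ = e (β s)

/-- The basic configuration. -/
structure B1 (e : X →* G) (t : G) : Prop where
  ker : e.ker ≤ center X
  inv : Inv2 t
  cen : t ∈ Cs e.range
  cz : Cz t ≤ Ns e.range

/-- `K` has cyclic Sylow `2`-subgroups. -/
structure B0 (e : X →* G) (t : G) : Prop extends B1 e t where
  cyc : ∀ R ≤ Cs e.range, IsPGroup 2 R → IsCyclic R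

/-- `⟨t⟩` is a Sylow `2`-subgroup of `K`. -/
structure CE (e : X →* G) (t : G) : Prop extends B1 e t where
  two : ∀ R ≤ Cs e.range, IsPGroup 2 R → Nat.card R ≤ 2

/-- The wreath case. -/
structure CW (e : X →* G) (t : G) (e₁ e₂ : X →* G) : Prop where
  ker : e₁.ker ≤ center X
  comm : ∀ a b, e₁ a * e₂ b = e₂ b * e₁ a
  diag : ∀ a, e a = e₁ a * e₂ a
  sw : ∀ a, t * e₁ a * t⁻¹ = e₂ a

/-- The big group `Y` with the automorphism `τ` fixing the image of `X`. -/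
structure Big {Y : Type} [Group Y] (ι : X →* Y) (τ : MulAut Y) : Prop where
  perf : commutator Y = ⊤
  mult : H21.multCard Y = 1
  nrm : ∀ N : Subgroup Y, N.Normal → N ≤ center Y ∨ N = ⊤
  cen : ∀ s, ι s ∈ center Y → s ∈ center X

/-- The field case. -/
structure CF (e : X →* G) (t : G) {Y : Type} [Group Y] (ι : X →* Y) (τ : MulAut Y)
    (Φ : Y →* G) : Prop where
  ker : Φ.ker ≤ center Y
  act : Ind Φ t τ
  rg : (Φ.comp ι).range = e.range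

/-- The outcome of the construction. -/
def Res (e : X →* G) (t : G) {Y : Type} [Group Y] (ι : X →* Y) (τ : MulAut Y) : Prop :=
  (∃ Φ, CF e t ι τ Φ) ∨ ∃ e₁ e₂, CW e t e₁ e₂

/-- `A₁ A₂` -/
abbrev two (e₁ e₂ : X →* G) (A : Subgroup X) : Subgroup G := A.map e₁ ⊔ A.map e₂
/-- `G₁ = L₁ L₂` -/
abbrev G12 (e₁ e₂ : X →* G) : Subgroup G := e₁.range ⊔ e₂.range

/-- Common part of both endgames, `M = N(G₁)`. -/
structure EB (e : X →* G) (t : G) (G₁ : Subgroup G) : Prop where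
  uf : UF (Ns G₁) t
  le : e.range ≤ G₁
  odd : Odd (Nat.card (Cs G₁))
  tx : ∀ g, g * g = 1 → IsConj t (t * e g)

/-- Wreath case: the normaliser of `G₁`; changing `t` to a swapping conjugate. -/
structure W0 (t : G) (e₁ e₂ : X →* G) : Prop where
  odd : Odd (Nat.card (Cs (G12 e₁ e₂)))
  ne : t ∉ Ns e₁.range
  pm : ∀ m ∈ Ns (G12 e₁ e₂), m ∈ Ns e₁.range ∧ m ∈ Ns e₂.range ∨
    cjs m e₁.range = e₂.range ∧ cjs m e₂.range = e₁.range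
  chg : ∀ s, IsConj t s → cjs s e₁.range = e₂.range →
    ∃ e', CE e' s ∧ CW e' s e₁ ((MulAut.conj s).toMonoidHom.comp e₁)
  ufs : ∀ g, cjs (g * t * g⁻¹) e₁.range = e₂.range → g ∈ Ns (G12 e₁ e₂)

variable [Dat X]

/-- No root element of `L` is conjugate to `t`. -/
def NR (e : X →* G) (t : G) : Prop := ∀ g, Root g → ¬ IsConj t (e g)

/-- Some element normalising `U ⟨t⟩` moves `t` into `t Z`. -/
def Mv (e : X →* G) (t : G) : Prop := ∃ g ∈ Ns ((UU X).map e ⊔ zpowers t),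
  ∃ z ∈ ZZ X, z ≠ 1 ∧ g * t * g⁻¹ = t * e z

/-- The structure of `C(t)`. -/
structure AB (e : X →* G) (t : G) : Prop where
  ol : ∀ y ∈ O2 (Cz t), Is2 y → y ∈ e.range
  pf : ∀ N ≤ Cz t, N ≤ ⁅N, N⁆ → N ≤ e.range
  cm : ∀ y ∈ ⁅Cz t, Cz t⁆, Is2 y → ∃ l ∈ e.range, Is2 l ∧ y * l⁻¹ ∈ Cs e.range
  nr : NR e t

/-- More on `C(t)` when `⟨t⟩` is Sylow in `K`. -/
structure AE (e : X →* G) (t : G) : Prop where
  inn : ∀ y ∈ Cz t, Is2 y → (∃ l ∈ e.range, y * l⁻¹ ∈ Cs e.range) → y ∈ e.range ∨ t * y ∈ e.range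
  sz : ∀ P ≤ Cz t, IsPGroup 2 P → Nat.card P ≤ 2 * qq X ^ (NN X + 1)

/-- After step (1). -/
structure CA (e : X →* G) (t : G) : Prop extends CE e t where
  mv : Mv e t

/-- The configuration modulo the odd part of `C_K(t)`. -/
structure CH (e : X →* G) (t : G) : Prop extends B1 e t where
  ck : ∀ g ∈ Cz t, g ∈ Cs e.range → g = 1 ∨ g = t
  mv : Mv e t

/-- All translations of `t Z` are induced by the centraliser of `P`. -/
def CP (e : X →* G) (t : G) : Prop :=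
  ∀ z ∈ ZZ X, ∃ w ∈ Cs ((PP X).map e), w * t * w⁻¹ = t * e z

/-- Input of `CU` (`EG0.eg` in `GAInd`). -/
structure EG0 (e : X →* G) (t : G) (G₁ : Subgroup G) : Prop extends EB e t G₁ where
  cM : ∀ k, Rg X k → ∀ m ∈ Ns G₁, m ∈ Cs ((Qk X k).map e) →
    (Is2 (cm m t) → cm m t ∈ (Qk X k).map e) ∧ (Odd (orderOf m) → m ∈ Cs G₁)
  gen : ∀ o ∈ Cs e.range, (∀ ζ ∈ Ns G₁, ζ ∈ Cs ((UU X).map e) → ζ * o * ζ⁻¹ ∈ Cs e.range) →
    o ∈ Ns G₁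

/-- Output of `CU`. -/
structure EG (e : X →* G) (t : G) (G₁ : Subgroup G) : Prop extends EB e t G₁ where
  cu : ∀ k, Rg X k → Cs ((Qk X k).map e) ≤ Ns G₁

/-- Wreath case: unique fixed point; the elements of `T ∩ M` swap. -/
structure GW (e : X →* G) (t : G) (e₁ e₂ : X →* G) : Prop
    extends EG e t (G12 e₁ e₂), W0 t e₁ e₂ where
  sw : ∀ s ∈ Ns (G12 e₁ e₂), IsConj t s → cjs s e₁.range = e₂.range

end Amb

/-- A statement for all `X`, `e`, `t`. -/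
def AllG (P : ∀ (X : Type) [Group X] [Dat X] (G : Type u) [Group G], (X →* G) → G → Prop) : Prop :=
  ∀ (X : Type) [Group X] [Finite X] [Dat X] [Fa X] (G : Type u) [Group G] [Finite G]
    (e : X →* G) (t : G), P X G e t

def JobAB : Prop := AllG.{u} fun _ _ _ _ _ e t => (B0 e t → AB e t) ∧ (CE e t → AE e t)

def JobJB : Prop := AllG.{u} fun X _ _ _ _ e t => B0 e t →
  (∃ s, IsConj t s ∧ s ≠ t ∧ s * t = t * s) → ∃ z ∈ ZZ X, z ≠ 1 ∧ IsConj t (t * e z)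

def JobJA : Prop := AllG.{u} fun X _ _ G _ e t => B0 e t →
  Cfsg.IsTightlyEmbedded (Cs e.range) → Ns (Cs e.range) ≤ Ns (e.range : Subgroup G) →
  (∃ z ∈ ZZ X, z ≠ 1 ∧ IsConj t (t * e z)) → CA e t

def JobP2a : Prop := AllG.{u} fun _ _ _ _ _ e t => CH e t → CP e t

/-- Pass to `N(O) / O` and lift back. -/
def JobH : Prop := ∀ (X : Type) [Group X] [Finite X] [Dat X] [Fa X] (Y : Type) [Group Y] [Finite Y]
  (ι : X →* Y) (τ : MulAut Y), Big ι τ →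
    (∀ (G : Type u) [Group G] [Finite G] (e : X →* G) (t : G), CH e t → Res e t ι τ) →
    ∀ (G : Type u) [Group G] [Finite G] (e : X →* G) (t : G), CA e t → Res e t ι τ

/-- A statement in the wreath case. -/
def AllW (P : ∀ (X : Type) [Group X] [Dat X] (G : Type u) [Group G],
    (X →* G) → G → (X →* G) → (X →* G) → Prop) : Prop :=
  AllG.{u} fun X _ _ G _ e t => ∀ e₁ e₂ : X →* G, CE e t → CW e t e₁ e₂ → P X G e t e₁ e₂

def JobW0 : Prop := AllW.{u} fun _ _ _ _ _ _ t e₁ e₂ => W0 t e₁ e₂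

def JobWU : Prop := AllW.{u} fun _ _ _ _ _ e t e₁ e₂ => W0 t e₁ e₂ → GW e t e₁ e₂

def JobNQ : Prop := AllW.{u} fun X _ _ _ _ e t e₁ e₂ => GW e t e₁ e₂ →
  Ns (two e₁ e₂ (QQ X)) ≤ Ns (G12 e₁ e₂)

/-- Case I: `U* ≤ W`. -/
def JobW1 : Prop := AllW.{u} fun X _ _ G _ e t e₁ e₂ => GW e t e₁ e₂ → ∀ W : Subgroup G,
  IsPGroup 2 W → W ≤ Ns (G12 e₁ e₂) → two e₁ e₂ (UU X) ≤ W → Ns W ≤ Ns (two e₁ e₂ (QQ X))

/-- Case II: the odd part of `t b` centralises `W`. -/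
def JobW2 : Prop := AllW.{u} fun X _ _ G _ e t e₁ e₂ => GW e t e₁ e₂ →
  ∀ (W : Subgroup G) (b : G) (k : ℕ) (y : X), IsPGroup 2 W → W ≤ Ns (G12 e₁ e₂) → t ∈ Ns W →
    b ∈ Ns W → b * b = 1 → Odd k → (t * b) ^ k ∈ W → e₁ (y * y) ∈ W → (e₁ y)⁻¹ * t ∈ W →
    (y * y = 1 ∨ 2 < Nat.card ↥(W ⊓ e₁.range)) →
    ∀ o ∈ zpowers (t * b), Odd (orderOf o) → o ∈ Cs W

/-- Case II: centralisers of `d = y⁻¹ t`. -/
def JobW3 : Prop := AllW.{u} fun X _ _ _ _ e t e₁ e₂ => GW e t e₁ e₂ →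
  (∀ y, Inv2 y → Cz (e₁ y * t) ≤ Ns (G12 e₁ e₂)) ∧ ∀ y ∈ Qk X (ll X),
    Cs (two e₁ e₂ (Mk X (ll X)) ⊔ zpowers ((e₁ y)⁻¹ * t)) ≤ Ns (G12 e₁ e₂)

def JobWE : Prop := AllW.{u} fun X _ _ G _ e t e₁ e₂ => GW e t e₁ e₂ →
  (∀ W : Subgroup G, IsPGroup 2 W → W ≤ Ns (G12 e₁ e₂) → two e₁ e₂ (UU X) ≤ W →
    Ns W ≤ Ns (G12 e₁ e₂)) → Ns (G12 e₁ e₂) = ⊤

end H67.GA
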