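import Cfsg.Agent.H85.P6.H67_GADef

namespace H57 end H57
open H57
namespace H67 end H67
open H67
namespace H85.P6

/-! STD-UM, API of the type-free tower: facts on `X`, `Ind`, homomorphisms with central kernel,
transport, `CU`.  The names are those of `H67/SABasic`, `SAOut`, `SAInd` (without `hn`). -/

set_option autoImplicit false
set_option linter.unusedSectionVars false

namespace H67.GA

open H64.SG (O2 Syl Cz Cs Ns cjs Is2 Inv2 UF IsO2 fx mem_Cs mem_Cz mem_fx)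
open H57 Subgroup

universe u

section Perf

variable {Y : Type*} [Group Y] {G : Type*} [Group G]

theorem hom_eq_one' (hp : commutator Y = ⊤) (f : Y →* G)
    (hf : ∀ a b, f a * f b = f b * f a) (s : Y) : f s = 1 := by
  have : commutator Y ≤ f.ker := commutator_le.2 fun a _ b _ => by
    rw [MonoidHom.mem_ker, map_commutatorElement]
    exact commutatorElement_eq_one_iff_mul_comm.2 (hf a b)
  exact this (by rw [hp]; exact mem_top s)

theorem hom_eq_of_central' (hp : commutator Y = ⊤) (f g : Y →* G)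
    (hc : ∀ a b, Commute (f a * (g a)⁻¹) (g b)) (hc' : ∀ a b, Commute (f a * (g a)⁻¹) (f b)) :
    f = g := by
  have hm : ∀ a b, f (a * b) * (g (a * b))⁻¹ = f a * (g a)⁻¹ * (f b * (g b)⁻¹) := fun a b => by
    rw [map_mul, map_mul, mul_inv_rev, mul_assoc (f a), ← mul_assoc (f b),
      (hc b a).inv_right.eq, mul_assoc]
  ext1 s
  exact mul_inv_eq_one.1 (hom_eq_one' hp (MonoidHom.mk' _ hm)
    (fun a b => ((hc' a b).mul_right (hc a b).inv_right).eq) s)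

theorem mem_center_of_cm' (hp : commutator Y = ⊤) {g : Y} (hg : ∀ a, cm g a ∈ center Y) :
    g ∈ center Y := by
  have := hom_eq_of_central' hp (MulAut.conj g).toMonoidHom (MonoidHom.id _)
    (fun a b => ((mem_center_iff.1 (hg a)) _).symm) fun a b => ((mem_center_iff.1 (hg a)) _).symm
  refine mem_center_iff.2 fun a => ?_
  have h2 : g * a * g⁻¹ = a := congrArg (fun f => f a) this
  rw [mul_inv_eq_iff_eq_mul] at h2
  exact h2.symm

theorem conj_eq_one {g : Y} : MulAut.conj g = 1 ↔ g ∈ center Y := by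
  rw [mem_center_iff, MulEquiv.ext_iff]
  exact forall_congr' fun a => by
    rw [MulAut.conj_apply, MulAut.one_apply, mul_inv_eq_iff_eq_mul, eq_comm]

theorem Iv_le_iff {H K : Subgroup G} : Iv H ≤ K ↔ ∀ v ∈ H, v * v = 1 → v ∈ K :=
  (closure_le _).trans ⟨fun h v a b => h ⟨a, b⟩, fun h v a => h v a.1 a.2⟩

theorem Iv_le (H : Subgroup G) : Iv H ≤ H := Iv_le_iff.2 fun _ h _ => h

theorem mem_Iv {H : Subgroup G} {v : G} (h : v ∈ H) (h2 : v * v = 1) : v ∈ Iv H :=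
  subset_closure ⟨h, h2⟩

theorem Iv_mono {H K : Subgroup G} (h : H ≤ K) : Iv H ≤ Iv K :=
  Iv_le_iff.2 fun _ a b => mem_Iv (h a) b

/-- An element commuting with the images of the involutions of `H` centralises the image of
`Iv H`. -/
theorem mem_Cs_map_Iv {f : Y →* G} {A H : Subgroup Y} (hA : A ≤ Iv H) {g : G}
    (h : ∀ v ∈ H, v * v = 1 → f v * g = g * f v) : g ∈ Cs (A.map f) := by
  rintro _ ⟨a, ha, rfl⟩
  have : Iv H ≤ (Cz g).comap f := Iv_le_iff.2 fun v a b => mem_Cz.2 (h v a b).symm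
  exact (mem_Cz.1 (this (hA ha))).symm

end Perf

section Basic

variable {X : Type} [Group X] [Dat X]

section O

variable [FO X]

theorem perfect : commutator X = ⊤ := FO.perf

theorem hom_eq_one {G : Type*} [Group G] (f : X →* G) (hf : ∀ a b, f a * f b = f b * f a) (s : X) :
    f s = 1 := hom_eq_one' perfect f hf s

theorem hom_eq_of_central {G : Type*} [Group G] (f g : X →* G)
    (hc : ∀ a b, Commute (f a * (g a)⁻¹) (g b)) (hc' : ∀ a b, Commute (f a * (g a)⁻¹) (f b)) :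
    f = g := hom_eq_of_central' perfect f g hc hc'

theorem mem_center_of_cm {g : X} (hg : ∀ a, cm g a ∈ center X) : g ∈ center X :=
  mem_center_of_cm' perfect hg

theorem normal_le_center_or (N : Subgroup X) [h : N.Normal] : N ≤ center X ∨ N = ⊤ := FO.nrm N h

theorem quot_surjective : Function.Surjective (quotCenterAut X) := FO.qs

theorem odd_card_center : Odd (Nat.card (center X)) := FO.oddZ

theorem out_conj (g : X) : out X (MulAut.conj g) = 1 := FO.out_conj g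

theorem out_comm (a b : Dat.A X) : a * b = b * a := FO.out_comm a b

theorem out_cm (α β : MulAut X) : out X (cm α β) = 1 := by
  rw [cm, map_mul, map_mul, map_mul, out_comm (out X α), map_inv, map_inv]; group

theorem out_conj_eq (α β : MulAut X) : out X (α * β * α⁻¹) = out X β := by
  rw [map_mul, map_mul, out_comm (out X α), map_inv]; group

variable [Finite X]

theorem odd_of_center {g : X} (h : g ∈ center X) : Odd (orderOf g) :=
  H64.SG.odd_orderOf_of_mem odd_card_center h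

theorem eq_one_of_center {g : X} (h : g ∈ center X) (h2 : Is2 g) : g = 1 :=
  h2.eq_one (odd_of_center h)

/-- `2`-elements that differ by a central element are equal. -/
theorem eq_of_is2 {a b : X} (ha : Is2 a) (hb : Is2 b) (h : a * b⁻¹ ∈ center X) : a = b := by
  have hc : a * b⁻¹ = b⁻¹ * a := by
    have := mem_center_iff.1 h b
    rw [inv_mul_cancel_right, ← mul_assoc, mul_inv_eq_iff_eq_mul] at this
    rw [mul_inv_eq_iff_eq_mul, mul_assoc, ← this, inv_mul_cancel_left]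
  exact mul_inv_eq_one.1 (eq_one_of_center h (ha.mul hb.inv hc))

theorem conj_inj {a b : X} (ha : Is2 a) (hb : Is2 b) (h : MulAut.conj a = MulAut.conj b) :
    a = b := eq_of_is2 ha hb (conj_eq_one.1 (by rw [map_mul, map_inv, h, mul_inv_cancel]))

/-- A `2`-element with trivial outer part is inner. -/
theorem inner_of_out {β : MulAut X} (h1 : out X β = 1) (h2 : Is2 β) :
    ∃ s, Is2 s ∧ β = MulAut.conj s := by
  obtain ⟨s, rfl⟩ := FO.inn β h1 h2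
  obtain ⟨a, b, e, ha, hb⟩ := H64.SG.exists_two_odd s
  have h3 : MulAut.conj (s ^ b) = 1 := by
    refine H64.SG.Is2.eq_one ?_ (hb.of_dvd_nat (orderOf_map_dvd _ _))
    rw [map_pow]; exact h2.pow b
  exact ⟨_, ha, by conv_lhs => rw [e, map_mul, h3, mul_one]⟩

end O

theorem root_conj {a : X} (h : Root a) (p : X) : Root (p * a * p⁻¹) := by
  obtain ⟨r, c, h1, h2, rfl⟩ := h
  exact ⟨p * r, c, h1, h2, by group⟩

theorem root_of_mem {z : X} (hz : z ∈ ZZ X) (h1 : z ≠ 1) : Root z := ⟨1, z, hz, h1, by simp⟩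

section B

variable [FB X]

theorem rg1 : Rg X 1 := ⟨le_rfl, one_le_two.trans FB.two_le⟩
theorem rg2 : Rg X 2 := ⟨one_le_two, FB.two_le⟩
theorem rgl : Rg X (ll X) := ⟨one_le_two.trans FB.two_le, le_rfl⟩
theorem syl_UU : Syl (UU X) ⊤ := FB.syl
theorem isP_UU : IsPGroup 2 (UU X) := syl_UU.2.1
theorem is2_of_UU {g : X} (h : g ∈ UU X) : Is2 g := H64.SG.isPGroup_iff_is2.1 isP_UU g h
theorem Qk_le_UU {k : ℕ} (h : Rg X k) : Qk X k ≤ UU X := FB.QU k h
theorem Mk_le_Qk {k : ℕ} (h : Rg X k) : Mk X k ≤ Qk X k := FB.MQ k h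
theorem Mk_le_UU {k : ℕ} (h : Rg X k) : Mk X k ≤ UU X := (Mk_le_Qk h).trans (Qk_le_UU h)
theorem QQ_le_UU : QQ X ≤ UU X := Qk_le_UU rg1
theorem ZZ_le_QQ : ZZ X ≤ QQ X := Mk_le_Qk rg1
theorem ZZ_le_UU : ZZ X ≤ UU X := Mk_le_UU rg1
theorem ZZ_le_Mk {k : ℕ} (h : Rg X k) : ZZ X ≤ Mk X k := FB.ZM k h
theorem ZZ_le_Qk {k : ℕ} (h : Rg X k) : ZZ X ≤ Qk X k := (ZZ_le_Mk h).trans (Mk_le_Qk h)
theorem UU_le_PP : UU X ≤ PP X := FB.UP
theorem QQ_le_PP : QQ X ≤ PP X := QQ_le_UU.trans UU_le_PP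
theorem ZZ_le_PP : ZZ X ≤ PP X := ZZ_le_UU.trans UU_le_PP
theorem PP_le_Cs : PP X ≤ Cs (ZZ X) := FB.PZ
theorem UU_le_Cs : UU X ≤ Cs (ZZ X) := UU_le_PP.trans PP_le_Cs
theorem isP_Qk {k : ℕ} (h : Rg X k) : IsPGroup 2 (Qk X k) := isP_UU.to_le (Qk_le_UU h)
theorem isP_Mk {k : ℕ} (h : Rg X k) : IsPGroup 2 (Mk X k) := isP_UU.to_le (Mk_le_UU h)
theorem isP_QQ : IsPGroup 2 (QQ X) := isP_Qk rg1
theorem isP_ZZ : IsPGroup 2 (ZZ X) := isP_Mk rg1
theorem Mk_le_Cs {k : ℕ} (h : Rg X k) : Mk X k ≤ Cs (Mk X k) := (Mk_le_Qk h).trans (FB.QM k h)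
theorem sq_of_ZZ {z : X} (h : z ∈ ZZ X) : z * z = 1 := FB.sqM 1 rg1 z h
theorem inv2_xk {k : ℕ} (h : Rg X k) : Inv2 (xk X k) := ⟨FB.sqM k h _ (FB.xM k h), FB.x1 k h⟩
theorem exists_ZZ : ∃ z ∈ ZZ X, z ≠ 1 := ⟨_, FB.xM 1 rg1, FB.x1 1 rg1⟩
theorem Root.inv2 {g : X} (h : Root g) : Inv2 g := by
  obtain ⟨r, c, h1, h2, rfl⟩ := h
  exact H9.UF.inv2_conj ⟨sq_of_ZZ h1, h2⟩ (isConj_iff.2 ⟨r, rfl⟩)

end B

section A

variable [Finite X] [FO X] [FB X] [FA X]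

theorem UU_le_Ns_Mk {k : ℕ} (h : Rg X k) : UU X ≤ Ns (Mk X k) := fun _ hu =>
  conj_mem_St.1 (FA.nu _ (conj_mem_St.2 (le_normalizer hu)) k h).1
theorem UU_le_Ns_Qk {k : ℕ} (h : Rg X k) : UU X ≤ Ns (Qk X k) := fun _ hu =>
  conj_mem_St.1 (FA.nu _ (conj_mem_St.2 (le_normalizer hu)) k h).2

/-- `C(Qk k) = Mk k Z(X)`. -/
theorem exists_of_Cs_Qk {k : ℕ} (h : Rg X k) {g : X} (hg : g ∈ Cs (Qk X k)) :
    ∃ m ∈ Mk X k, g * m⁻¹ ∈ center X := by
  obtain ⟨m, hm, e⟩ := mem_cI.1 (FA.ctK k h (MulAut.conj g) fun u hu => by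
    rw [MulAut.conj_apply, ← hg u hu, mul_inv_cancel_right])
  exact ⟨m, hm, conj_eq_one.1 (by rw [map_mul, map_inv, e, mul_inv_cancel])⟩

/-- A `2`-element centralising `Qk k` lies in `Mk k`. -/
theorem mem_Mk_of_Cs {k : ℕ} (h : Rg X k) {g : X} (hg : g ∈ Cs (Qk X k)) (h2 : Is2 g) :
    g ∈ Mk X k := by
  obtain ⟨m, hm, e⟩ := exists_of_Cs_Qk h hg
  rwa [eq_of_is2 h2 (is2_of_UU (Mk_le_UU h hm)) e]

theorem ctQ (β : MulAut X) (h : ∀ u ∈ QQ X, β u = u) : β ∈ cI (ZZ X) := FA.ctK 1 rg1 β h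

/-- `Z(U) = Z`. -/
theorem mem_ZZ_of_Cs {g : X} (hg : g ∈ Cs (UU X)) (h2 : Is2 g) : g ∈ ZZ X :=
  mem_Mk_of_Cs rg1 (centralizer_le QQ_le_UU hg) h2

theorem st_ZZ {β : MulAut X} (h : β ∈ St (UU X)) : β ∈ St (ZZ X) := (FA.nu β h 1 rg1).1
theorem st_QQ {β : MulAut X} (h : β ∈ St (UU X)) : β ∈ St (QQ X) := (FA.nu β h 1 rg1).2

/-- A nontrivial subgroup of `U` normalised by `U` meets `Z`. -/
theorem exists_ZZ_of_Ns {N : Subgroup X} (h1 : N ≤ UU X) (h2 : UU X ≤ Ns N) (h3 : N ≠ ⊥) :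
    ∃ z ∈ ZZ X, z ∈ N ∧ z ≠ 1 := by
  obtain ⟨z, hz, z1⟩ := (bot_or_exists_ne_one _).resolve_left
    (H98.inf_centralizer_ne_bot (isP_UU.to_le h1) isP_UU h2 h3)
  exact ⟨z, mem_ZZ_of_Cs hz.2 (is2_of_UU (h1 hz.1)), hz.1, z1⟩

theorem ct [FI X] (g : X) (Q : Subgroup X) (hg : Inv2 g) (hQ : IsO2 Q (Cz g)) :
    ∀ y ∈ Cs Q, Is2 y → y ∈ Q ∧ y * y = 1 := fun y hy h2 => by
  obtain ⟨h, k, hk, e⟩ := FI.ic g hg
  have h1 : cjs h Q = Qk X k := by
    rw [hQ.eq, (FI.qk k hk).eq, ← e, ← H64.SG.cj_Cz]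
    exact H98.cj_pCoreOf _ _
  have h3 := mem_Mk_of_Cs hk (g := h * y * h⁻¹)
    (by rw [← h1, ← H64.SG.cj_Cs]; exact conj_mem_cjs.2 hy) (h2.map (MulAut.conj h).toMonoidHom)
  refine ⟨conj_mem_cjs.1 (h1 ▸ Mk_le_Qk hk h3), ?_⟩
  have := FB.sqM k hk _ h3
  rwa [conj_mul, conj_eq_one_iff] at this

theorem nzn : ∀ β ∈ St (UU X), β ∉ cI (ZZ X) → ∀ N : Subgroup X, UU X ≤ Ns N →
    (∀ u ∈ UU X, β u * u⁻¹ ∈ N) → ZZ X ≤ N := fun β hβ h1 N h2 h3 z hz => by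
  by_cases c : ∀ u ∈ QQ X, β u * u⁻¹ ∈ ZZ X
  · obtain ⟨v, hv, rfl⟩ := mem_cI.1 (FA.n2 β c fun z hz => by
      obtain ⟨v, hv, v1⟩ := SetLike.not_le_iff_exists.1 (FB.QZ (X := X))
      obtain ⟨u, hu, rfl⟩ := FA.qz v hv v1 z hz
      have k : ∀ a ∈ QQ X, ∀ b ∈ UU X, β a * b * (β a)⁻¹ = a * b * a⁻¹ := fun a ha b hb => by
        have := UU_le_Cs (mul_mem (mul_mem (QQ_le_UU ha) hb) (inv_mem (QQ_le_UU ha))) _ (c a ha)
        calc β a * b * (β a)⁻¹ = β a * a⁻¹ * (a * b * a⁻¹) * (β a * a⁻¹)⁻¹ := by group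
          _ = _ := by rw [this]; group
      have m := ((st_QQ hβ) u).1 hu
      simp only [map_mul, map_inv]
      rw [k v hv _ (QQ_le_UU m)]
      calc v * β u * v⁻¹ * (β u)⁻¹ = v * (β u * v⁻¹ * (β u)⁻¹) := by group
        _ = _ := by rw [k u hu _ (inv_mem (QQ_le_UU hv)), cm]; group)
    obtain ⟨u, hu, rfl⟩ := FA.qz v hv (fun h => h1 (mem_cI.2 ⟨v, h, rfl⟩)) z hz
    exact h3 u (QQ_le_UU hu)
  · push Not at c
    obtain ⟨u, hu, c⟩ := c
    obtain ⟨w, hw, rfl⟩ := FA.qz _ (mul_mem (((st_QQ hβ) u).1 hu) (inv_mem hu)) c z hz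
    rw [cm, mul_assoc, mul_assoc, ← mul_assoc w]
    exact mul_mem (h3 u (QQ_le_UU hu))
      (H98.conj_mem_of_mem_normalizer (h2 (QQ_le_UU hw)) (inv_mem (h3 u (QQ_le_UU hu))))

end A

end Basic

section Ind

variable {X : Type} [Group X] {G : Type u} [Group G] {e : X →* G} {g g' t : G}
  {β β' : MulAut X} {A : Subgroup X}

theorem Ind.mul (h : Ind e g β) (h' : Ind e g' β') : Ind e (g * g') (β * β') := fun s => by
  rw [MulAut.mul_apply, ← h, ← h']; group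

theorem Ind.inv (h : Ind e g β) : Ind e g⁻¹ β⁻¹ := fun s => by
  have := h (β⁻¹ s)
  rw [MulAut.apply_inv_self] at this
  rw [← this]; group

theorem ind_one : Ind e 1 1 := fun s => by simp

theorem Ind.pow (h : Ind e g β) (k : ℕ) : Ind e (g ^ k) (β ^ k) := by
  induction k with
  | zero => simpa using ind_one
  | succ k ih => rw [pow_succ, pow_succ]; exact ih.mul h

theorem Ind.conj (h : Ind e g β) (h' : Ind e g' β') : Ind e (g * g' * g⁻¹) (β * β' * β⁻¹) :=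
  (h.mul h').mul h.inv

theorem Ind.cm (h : Ind e g β) (h' : Ind e g' β') : Ind e (cm g g') (cm β β') :=
  (h.conj h').mul h'.inv

theorem ind_conj (s : X) : Ind e (e s) (MulAut.conj s) := fun a => by simp

theorem ind_one_iff : Ind e g 1 ↔ g ∈ Cs e.range := by
  refine ⟨fun h => ?_, fun h s => ?_⟩
  · rintro _ ⟨s, rfl⟩
    have := h s
    rw [MulAut.one_apply, mul_inv_eq_iff_eq_mul] at this
    exact this.symm
  · rw [MulAut.one_apply, mul_inv_eq_iff_eq_mul]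
    exact (h _ ⟨s, rfl⟩).symm

theorem Ind.cjs_map (h : Ind e g β) (A : Subgroup X) :
    cjs g (A.map e) = (A.map β.toMonoidHom).map e := by
  rw [cjs, Subgroup.map_map, Subgroup.map_map]
  congr 1
  ext s
  exact h s

theorem Ind.mem_Ns_map (h : Ind e g β) (hA : β ∈ St A) : g ∈ Ns (A.map e) := by
  rw [← conj_mem_St, mem_St_iff_map]
  exact (h.cjs_map A).trans (by rw [mem_St_iff_map.1 hA])

theorem Ind.mem_Ns (h : Ind e g β) : g ∈ Ns e.range := by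
  rw [MonoidHom.range_eq_map]
  exact h.mem_Ns_map fun _ => by simp

theorem Ind.comm (h : Ind e g β) {s : X} (hs : β s = s) : g * e s = e s * g := by
  have := h s
  rwa [hs, mul_inv_eq_iff_eq_mul] at this

/-- `g` acts as `e s` if and only if `g (e s)⁻¹` centralises the image. -/
theorem ind_conj_iff {s : X} : Ind e g (MulAut.conj s) ↔ g * (e s)⁻¹ ∈ Cs e.range := by
  rw [← ind_one_iff]
  exact ⟨fun h => by simpa using h.mul (ind_conj s).inv,
    fun h => by simpa using h.mul (ind_conj (e := e) s)⟩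

theorem map_mem_Ns {s : X} (h : s ∈ Ns A) : e s ∈ Ns (A.map e) :=
  (ind_conj s).mem_Ns_map (conj_mem_St.2 h)

theorem map_mem_Cs {s : X} (h : s ∈ Cs A) : e s ∈ Cs (A.map e) := by
  rintro _ ⟨a, ha, rfl⟩
  rw [← map_mul, ← map_mul, h a ha]

theorem map_le_range' (A : Subgroup X) : A.map e ≤ e.range := map_le_range e A

theorem Cs_range_le (A : Subgroup X) : Cs e.range ≤ Cs (A.map e) :=
  centralizer_le (map_le_range e A)

theorem mem_Cs_range : g ∈ Cs e.range ↔ ∀ s, e s * g = g * e s :=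
  ⟨fun h s => h _ ⟨s, rfl⟩, by rintro h _ ⟨s, rfl⟩; exact h s⟩

theorem mem_Cs_map : g ∈ Cs (A.map e) ↔ ∀ s ∈ A, e s * g = g * e s :=
  ⟨fun h s hs => h _ ⟨s, hs, rfl⟩, by rintro h _ ⟨s, hs, rfl⟩; exact h s hs⟩

/-! ### Transport -/

/-- `e` conjugated by `g`. -/
abbrev cje (g : G) (e : X →* G) : X →* G := (MulAut.conj g).toMonoidHom.comp e
/-- `e` twisted by `β`. -/
abbrev twe (e : X →* G) (β : MulAut X) : X →* G := e.comp β.toMonoidHom

theorem cje_apply (s : X) : cje g e s = g * e s * g⁻¹ := rfl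
theorem twe_apply (s : X) : twe e β s = e (β s) := rfl
theorem map_cje (A : Subgroup X) : A.map (cje g e) = cjs g (A.map e) :=
  (Subgroup.map_map _ _ _).symm
theorem range_cje : (cje g e).range = cjs g e.range := (MonoidHom.map_range _ _).symm
theorem ker_cje : (cje g e).ker = e.ker := by ext s; simp [MonoidHom.mem_ker]
theorem map_twe (A : Subgroup X) : A.map (twe e β) = (A.map β.toMonoidHom).map e :=
  (Subgroup.map_map _ _ _).symm
theorem map_twe_of_St (h : β ∈ St A) : A.map (twe e β) = A.map e := by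
  rw [map_twe, mem_St_iff_map.1 h]
theorem range_twe : (twe e β).range = e.range := by
  ext s
  exact ⟨fun ⟨a, h⟩ => ⟨β a, h⟩, fun ⟨a, h⟩ => ⟨β.symm a, by simpa using h⟩⟩
theorem aut_mem_center {s : X} : β s ∈ center X ↔ s ∈ center X := by
  rw [mem_center_iff, mem_center_iff]
  refine ⟨fun h a => β.injective (by simpa using h (β a)), fun h a => ?_⟩
  obtain ⟨a, rfl⟩ := β.surjective a
  rw [← map_mul, ← map_mul, h]
theorem ker_twe (h : e.ker ≤ center X) : (twe e β).ker ≤ center X :=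
  fun _ hs => aut_mem_center.1 (h hs)
theorem Ind.cje_eq (h : Ind e g β) : cje g e = twe e β := MonoidHom.ext h
theorem Ind.cje (h : Ind e g β) (a : G) : Ind (cje a e) (a * g * a⁻¹) β := fun s => by
  rw [cje_apply, cje_apply, ← h]; group
theorem Ind.twe (h : Ind e g β) (α : MulAut X) : Ind (twe e α) g (α⁻¹ * β * α) := fun s => by
  rw [twe_apply, twe_apply, h]; simp

theorem B1.cje (h : B1 e t) (g : G) : B1 (cje g e) (g * t * g⁻¹) where
  ker := ker_cje (g := g) (e := e) ▸ h.ker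
  inv := H9.UF.inv2_conj h.inv (isConj_iff.2 ⟨g, rfl⟩)
  cen := by rw [range_cje, ← H64.SG.cj_Cs]; exact conj_mem_cjs.2 h.cen
  cz := by rw [range_cje, ← H64.SG.cj_Ns, ← H64.SG.cj_Cz]; exact map_mono h.cz

theorem B0.cje (h : B0 e t) (g : G) : B0 (cje g e) (g * t * g⁻¹) where
  toB1 := h.toB1.cje g
  cyc R h1 h2 := by
    rw [range_cje, ← H64.SG.cj_Cs] at h1
    have := h.cyc _ (cjs_inv_le h1) (h2.map _)
    exact isCyclic_of_surjective _ (R.equivMapOfInjective (MulAut.conj g⁻¹).toMonoidHom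
      (MulAut.conj g⁻¹).injective).symm.surjective

theorem CE.cje (h : CE e t) (g : G) : CE (cje g e) (g * t * g⁻¹) where
  toB1 := h.toB1.cje g
  two R h1 h2 := by
    rw [range_cje, ← H64.SG.cj_Cs] at h1
    exact card_cjs g⁻¹ R ▸ h.two _ (cjs_inv_le h1) (h2.map _)

theorem NR.cje [Dat X] (h : NR e t) (g : G) : NR (cje g e) (g * t * g⁻¹) := fun s hs c =>
  h s hs (((isConj_iff.2 ⟨g, rfl⟩).trans c).trans (isConj_iff.2 ⟨g, rfl⟩).symm)

/-- `NR` only depends on the class of `t`. -/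
theorem NR.conj [Dat X] {s : G} (h : NR e t) (c : IsConj t s) : NR e s := fun a ha c' => h a ha (c.trans c')

theorem B1.twe (h : B1 e t) (β : MulAut X) : B1 (twe e β) t where
  ker := ker_twe h.ker
  inv := h.inv
  cen := range_twe (e := e) (β := β) ▸ h.cen
  cz := range_twe (e := e) (β := β) ▸ h.cz

theorem B0.twe (h : B0 e t) (β : MulAut X) : B0 (twe e β) t :=
  ⟨h.toB1.twe β, range_twe (e := e) (β := β) ▸ h.cyc⟩

theorem CE.twe (h : CE e t) (β : MulAut X) : CE (twe e β) t :=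
  ⟨h.toB1.twe β, range_twe (e := e) (β := β) ▸ h.two⟩

theorem NR.twe [Dat X] [FA X] (h : NR e t) (β : MulAut X) : NR (twe e β) t :=
  fun a ha => h _ (FA.roota a β ha)

theorem Mv.cje [Dat X] (h : Mv e t) (g : G) : Mv (cje g e) (g * t * g⁻¹) := by
  obtain ⟨a, h1, c, h2, h4, h3⟩ := h
  refine ⟨g * a * g⁻¹, ?_, c, h2, h4, by rw [cje_apply, conj_mul (a := t), ← h3]; group⟩
  have : (UU X).map (GA.cje g e) ⊔ zpowers (g * t * g⁻¹) = cjs g ((UU X).map e ⊔ zpowers t) := by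
    rw [cjs, Subgroup.map_sup, map_cje, MonoidHom.map_zpowers]; rfl
  rw [this, ← H64.SG.cj_Ns]
  exact conj_mem_cjs.2 h1

theorem CH.cje [Dat X] (h : CH e t) (g : G) : CH (cje g e) (g * t * g⁻¹) where
  toB1 := h.toB1.cje g
  ck a h1 h2 := by
    rw [range_cje, ← H64.SG.cj_Cs, mem_cjs] at h2
    rw [← H64.SG.cj_Cz, mem_cjs] at h1
    rcases h.ck _ h1 h2 with h3 | h3
    · left; rw [show a = g * (g⁻¹ * a * g) * g⁻¹ by group, h3]; simp
    · right; rw [← h3]; group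
  mv := h.mv.cje g

theorem CE.b0 [Finite G] (h : CE e t) : B0 e t := by
  refine ⟨h.toB1, fun R h1 h2 => ?_⟩
  have := h.two R h1 h2
  have h0 : 0 < Nat.card R := Nat.card_pos
  exact isCyclic_of_card_dvd_prime (p := 2) (by interval_cases Nat.card R <;> simp)

theorem B1.comm (h : B1 e t) (s : X) : t * e s = e s * t := (h.cen _ ⟨s, rfl⟩).symm

theorem B1.conj_eq (h : B1 e t) (s : X) : t * e s * t⁻¹ = e s := by
  rw [h.comm, mul_inv_cancel_right]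

theorem B1.conj_t (h : B1 e t) (s : X) : e s * t * (e s)⁻¹ = t := by
  rw [← h.comm, mul_inv_cancel_right]

theorem B1.mem_Cz (h : B1 e t) (s : X) : e s ∈ Cz t := H64.SG.mem_Cz.2 (h.comm s)

theorem B1.range_le (h : B1 e t) : e.range ≤ Cz t := by rintro _ ⟨s, rfl⟩; exact h.mem_Cz s

theorem B1.inv_eq (h : B1 e t) : t⁻¹ = t := inv_eq_of_mul_eq_one_right h.inv.1

/-- A `2`-element of `K` commuting with `t` is `1` or `t`. -/
theorem CE.eq_or [Finite G] (h : CE e t) {k : G} (hk : k ∈ Cs e.range) (h2 : Is2 k)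
    (hc : t * k = k * t) : k = 1 ∨ k = t := by
  have hp : IsPGroup 2 ↥(zpowers t ⊔ zpowers k) := (H9.UF.pg_zp h.inv.1).to_sup_of_normal_left'
    h2.zpowers ((zpowers_le.2 (H64.SG.mem_Cs_zpowers.2 hc)).trans (H64.SG.Cs_le_Ns _))
  have h3 := h.two _ (sup_le (zpowers_le.2 h.cen) (zpowers_le.2 hk)) hp
  have h4 : Nat.card (zpowers t) = 2 := by
    rw [Nat.card_zpowers]; exact orderOf_eq_prime (by rw [pow_two, h.inv.1]) h.inv.2
  have h5 : zpowers t = zpowers t ⊔ zpowers k := eq_of_le_of_card_ge le_sup_left (h4 ▸ h3)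
  obtain ⟨i, hi⟩ := (mem_powers_iff_mem_zpowers).2 (h5 ▸ mem_sup_right (mem_zpowers k) : k ∈ zpowers t)
  obtain ⟨j, rfl | rfl⟩ := Nat.even_or_odd' i
  · left; rw [← hi]; simp [pow_mul, pow_two, h.inv.1]
  · right; rw [← hi]; simp [pow_succ, pow_mul, pow_two, h.inv.1]

theorem CH.ce [Dat X] [Finite G] (h : CH e t) : CE e t := by
  refine ⟨h.toB1, fun R h1 h2 => ?_⟩
  obtain ⟨S, hS, h3⟩ := H98.exists_isSyl_le (H9.UF.pg_zp h.inv.1) (zpowers_le.2 h.cen)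
  have h4 : S ⊓ Cz t ≤ zpowers t := fun a ha =>
    (h.ck a ha.2 (hS.1 ha.1)).elim (fun e => e ▸ one_mem _) fun e => e ▸ mem_zpowers _
  have h5 : S = zpowers t := by
    by_contra hc
    obtain ⟨a, ⟨a1, a2⟩, a3⟩ := SetLike.exists_of_lt
      (H98.lt_inf_normalizer hS.2.1 (lt_of_le_of_ne h3 (Ne.symm hc)))
    refine a3 (h4 ⟨a1, mem_Cz.2 ?_⟩)
    obtain ⟨i, hi⟩ := (mem_powers_iff_mem_zpowers).2
      (H98.conj_mem_of_mem_normalizer a2 (mem_zpowers t))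
    obtain ⟨j, rfl | rfl⟩ := Nat.even_or_odd' i
    · exact absurd (conj_eq_one_iff.1 (by rw [← hi]; simp [pow_mul, pow_two, h.inv.1])) h.inv.2
    · exact (mul_inv_eq_iff_eq_mul.1 (by
        rw [← hi]; simp [pow_succ, pow_mul, pow_two, h.inv.1])).symm
  have h6 : Nat.card (zpowers t) = 2 := by
    rw [Nat.card_zpowers]; exact orderOf_eq_prime (by rw [pow_two, h.inv.1]) h.inv.2
  exact h6 ▸ h5 ▸ hS.card_le h2 h1

/-! ### Central kernel -/

variable [Finite X] [Dat X] [FO X] (hk : e.ker ≤ center X)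

theorem range_perfect : e.range ≤ ⁅e.range, e.range⁆ := by
  rw [MonoidHom.range_eq_map, ← map_commutator]
  exact map_mono (perfect).ge

include hk

theorem e_mem_Cs {s : X} : e s ∈ Cs e.range ↔ s ∈ center X := by
  refine ⟨fun h => mem_center_of_cm fun a => hk ?_, fun h => mem_Cs_range.2 fun a => ?_⟩
  · simp only [MonoidHom.mem_ker, map_mul, map_inv]
    exact cm_eq_one.2 (h _ ⟨a, rfl⟩).symm
  · rw [← map_mul, ← map_mul, mem_center_iff.1 h a]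

theorem Ind.unique (h : Ind e g β) (h' : Ind e g β') : β = β' := by
  have key : ∀ a, β a * (β' a)⁻¹ ∈ center X := fun a => hk (by
    rw [MonoidHom.mem_ker, map_mul, map_inv, ← h, ← h', mul_inv_cancel])
  exact MulEquiv.toMonoidHom_injective (hom_eq_of_central β.toMonoidHom β'.toMonoidHom
    (fun a b => (mem_center_iff.1 (key a) _).symm) fun a b => (mem_center_iff.1 (key a) _).symm)

theorem Ind.eq_one_iff (h : Ind e g β) : β = 1 ↔ g ∈ Cs e.range :=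
  ⟨fun e1 => ind_one_iff.1 (e1 ▸ h), fun e1 => h.unique hk (ind_one_iff.2 e1)⟩

theorem exists_ind (hg : g ∈ Ns e.range) : ∃ β, Ind e g β := by
  obtain ⟨π, hπ⟩ : ∃ π : e.range →* X ⧸ center X,
      ∀ s, π (e.rangeRestrict s) = QuotientGroup.mk s :=
    ⟨e.rangeRestrict.liftOfSurjective e.rangeRestrict_surjective ⟨QuotientGroup.mk' _, by
      rwa [QuotientGroup.ker_mk', MonoidHom.ker_rangeRestrict]⟩, fun s =>
      MonoidHom.liftOfRightInverse_comp_apply _ _ _ _ _⟩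
  have hs : Function.Surjective π := fun a => by
    obtain ⟨s, rfl⟩ := QuotientGroup.mk_surjective a
    exact ⟨_, hπ s⟩
  have hz : π.ker = center e.range := by
    ext l
    obtain ⟨s, rfl⟩ := e.rangeRestrict_surjective l
    rw [MonoidHom.mem_ker, hπ, QuotientGroup.eq_one_iff, ← e_mem_Cs hk, mem_center_iff]
    exact ⟨fun h a => Subtype.ext (h a a.2), fun h a ha => congrArg Subtype.val (h ⟨a, ha⟩)⟩
  obtain ⟨β, hβ⟩ := quot_surjective (H64.SG.acOf π hs hz g hg)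
  have key : ∀ a, g * e a * g⁻¹ * (e (β a))⁻¹ ∈ Cs e.range := fun a => by
    have h1 := H64.SG.acOf_apply π hs hz hg (e.rangeRestrict a)
    rw [← hβ, hπ, quotCenterAut_mk, ← hπ, eq_comm, ← mul_inv_eq_one, ← map_inv, ← map_mul,
      ← MonoidHom.mem_ker, hz, mem_center_iff] at h1
    exact fun b hb => congrArg Subtype.val (h1 ⟨b, hb⟩)
  have := hom_eq_of_central (cje g e) (twe e β) (fun a b => (key a _ ⟨_, rfl⟩).symm)
    fun a b => (key a _ (H98.conj_mem_of_mem_normalizer hg ⟨b, rfl⟩)).symm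
  exact ⟨β, fun s => DFunLike.congr_fun this s⟩

/-- The action of `N(L)`. -/
noncomputable def indH : Ns e.range →* MulAut X :=
  MonoidHom.mk' (fun g => (exists_ind hk g.2).choose) fun a b =>
    (exists_ind hk (a * b).2).choose_spec.unique hk
      ((exists_ind hk a.2).choose_spec.mul (exists_ind hk b.2).choose_spec)

theorem ind_indH (g : Ns e.range) : Ind e g (indH hk g) := (exists_ind hk g.2).choose_spec

theorem Ind.indH_eq (h : Ind e g β) : indH hk ⟨g, h.mem_Ns⟩ = β := (ind_indH hk _).unique hk h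

theorem mem_ker_indH {g : Ns e.range} : indH hk g = 1 ↔ g.1 ∈ Cs e.range :=
  (ind_indH hk g).eq_one_iff hk

theorem Ind.pow_eq_one (h : Ind e g β) {k : ℕ} (h1 : g ^ k = 1) : β ^ k = 1 :=
  (h.pow k).unique hk (h1 ▸ ind_one)

theorem Ind.is2 (h : Ind e g β) (h2 : Is2 g) : Is2 β := ⟨_, h.pow_eq_one hk h2.choose_spec⟩

theorem Ind.sq (h : Ind e g β) (h2 : g * g = 1) : β * β = 1 := (h.mul h).unique hk (h2 ▸ ind_one)

theorem Ind.odd (h : Ind e g β) (h2 : Odd (orderOf g)) : Odd (orderOf β) :=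
  H64.SG.odd_orderOf_of_pow h2 (h.pow_eq_one hk (pow_orderOf_eq_one g))

theorem Ind.comm_of_comm (h : Ind e g β) (h' : Ind e g' β') (c : g * g' = g' * g) :
    β * β' = β' * β := (h.mul h').unique hk (c ▸ h'.mul h)

/-- A normal subgroup of `L` is central or `L`. -/
theorem normal_range {N : Subgroup G} (h2 : e.range ≤ Ns N) :
    N ⊓ e.range ≤ Cs e.range ∨ e.range ≤ N := by
  have : (N.comap e).Normal := ⟨fun a ha b => by
    simpa using H98.conj_mem_of_mem_normalizer (h2 ⟨b, rfl⟩) ha⟩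
  rcases normal_le_center_or (N.comap e) with h | h
  · left; rintro _ ⟨h1, s, rfl⟩; exact (e_mem_Cs hk).2 (h h1)
  · right; rintro _ ⟨s, rfl⟩; exact (h ▸ mem_top s : s ∈ N.comap e)

/-- An element whose commutators with `L` centralise `L` centralises `L`. -/
theorem mem_Cs_of_cm (hg : g ∈ Ns e.range) (h : ∀ s, cm g (e s) ∈ Cs e.range) : g ∈ Cs e.range := by
  have := hom_eq_of_central (cje g e) e (fun a b => (h a _ ⟨_, rfl⟩).symm)
    fun a b => (h a _ (H98.conj_mem_of_mem_normalizer hg ⟨b, rfl⟩)).symm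
  exact ind_one_iff.1 fun s => DFunLike.congr_fun this s


theorem odd_of_ker {s : X} (h : e s = 1) : Odd (orderOf s) := odd_of_center (hk h)

theorem odd_card_ker : Odd (Nat.card e.ker) := odd_card_center.of_dvd_nat (card_dvd_of_le hk)

theorem inj2 {a b : X} (ha : Is2 a) (hb : Is2 b) (h : e a = e b) : a = b :=
  eq_of_is2 ha hb (hk (by simp [MonoidHom.mem_ker, h]))

theorem eq_one2 {a : X} (ha : Is2 a) (h : e a = 1) : a = 1 := eq_one_of_center (hk h) ha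

/-- `2`-elements of `e A` have preimages in `A` that are `2`-elements. -/
theorem exists_is2 {s : X} (h : Is2 (e s)) :
    ∃ s' ∈ zpowers s, Is2 s' ∧ e s' = e s := by
  obtain ⟨i, j, h1, h2, h3⟩ := H64.SG.exists_two_odd s
  have h4 : e (s ^ j) = 1 := (map_pow e s j ▸ h.pow j).eq_one (h3.of_dvd_nat (orderOf_map_dvd _ _))
  exact ⟨s ^ i, pow_mem (mem_zpowers s) i, h2, by
    conv_rhs => rw [h1, map_mul, h4, mul_one]⟩

omit hk in
theorem exists_is2_range (hg : g ∈ e.range) (h : Is2 g) : ∃ s, Is2 s ∧ e s = g := by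
  obtain ⟨s, rfl⟩ := hg
  obtain ⟨i, j, h1, h2, h3⟩ := H64.SG.exists_two_odd s
  have h4 : e (s ^ j) = 1 := (map_pow e s j ▸ h.pow j).eq_one (h3.of_dvd_nat (orderOf_map_dvd _ _))
  exact ⟨s ^ i, h2, by conv_rhs => rw [h1, map_mul, h4, mul_one]⟩

theorem sq_of_e {s : X} (h2 : Is2 s) (h : e s * e s = 1) : s * s = 1 :=
  eq_one2 hk (h2.mul h2 rfl) (by rw [map_mul, h])

theorem exists_sq_range (hg : g ∈ e.range) (h : g * g = 1) : ∃ s, s * s = 1 ∧ e s = g := by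
  obtain ⟨s, h1, rfl⟩ := exists_is2_range hg (H64.SG.is2_of_sq h)
  exact ⟨s, sq_of_e hk h1 h, rfl⟩

theorem inv2_e {s : X} (h : Inv2 s) : Inv2 (e s) :=
  ⟨by rw [← map_mul, h.1, map_one], fun h' => h.2 (eq_one2 hk (H64.SG.is2_of_sq h.1) h')⟩

theorem Ind.eq_iff (h : Ind e g β) {a b : X} (ha : Is2 a) (hb : Is2 b) :
    g * e a * g⁻¹ = e b ↔ β a = b :=
  ⟨fun h' => inj2 hk (ha.map β.toMonoidHom) hb ((h a).symm.trans h'), fun h' => h' ▸ h a⟩

theorem Ind.comm_iff (h : Ind e g β) {a : X} (ha : Is2 a) : g * e a = e a * g ↔ β a = a := by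
  rw [← h.eq_iff hk ha ha, mul_inv_eq_iff_eq_mul]

theorem e_comm_iff {a b : X} (ha : Is2 a) : e b * e a = e a * e b ↔ b * a = a * b := by
  rw [(ind_conj b).comm_iff hk ha, MulAut.conj_apply, mul_inv_eq_iff_eq_mul]

theorem mem_map2 (hA : IsPGroup 2 A) {s : X} (hs : Is2 s) : e s ∈ A.map e ↔ s ∈ A := by
  refine ⟨fun ⟨a, ha, h⟩ => ?_, mem_map_of_mem e⟩
  exact inj2 hk (H64.SG.isPGroup_iff_is2.1 hA a ha) hs h ▸ ha

theorem map_le_map2 (hA : IsPGroup 2 A) {B : Subgroup X} (hB : IsPGroup 2 B) :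
    A.map e ≤ B.map e ↔ A ≤ B :=
  ⟨fun h a ha => (mem_map2 hk hB (H64.SG.isPGroup_iff_is2.1 hA a ha)).1 (h ⟨a, ha, rfl⟩), map_mono⟩

theorem map_inf2 (hA : IsPGroup 2 A) {B : Subgroup X} (hB : IsPGroup 2 B) :
    (A ⊓ B).map e = A.map e ⊓ B.map e := by
  refine le_antisymm (map_inf_le _ _ _) ?_
  rintro _ ⟨⟨a, ha, rfl⟩, h⟩
  exact ⟨a, ⟨ha, (mem_map2 hk hB (H64.SG.isPGroup_iff_is2.1 hA a ha)).1 h⟩, rfl⟩

theorem card_map2 (hA : IsPGroup 2 A) : Nat.card (A.map e) = Nat.card A := by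
  refine (Nat.card_congr (Equiv.ofBijective (e.subgroupMap A) ⟨fun a b h => Subtype.ext ?_,
    e.subgroupMap_surjective A⟩)).symm
  exact inj2 hk (H64.SG.isPGroup_iff_is2.1 hA a a.2) (H64.SG.isPGroup_iff_is2.1 hA b b.2)
    (congrArg Subtype.val h)

theorem Ind.st (h : Ind e g β) (hA : IsPGroup 2 A) (hg : g ∈ Ns (A.map e)) : β ∈ St A :=
  mem_St_of_finite fun a ha => (mem_map2 hk hA ((H64.SG.isPGroup_iff_is2.1 hA a ha).map
    β.toMonoidHom)).1 (h a ▸ H98.conj_mem_of_mem_normalizer hg ⟨a, ha, rfl⟩)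

theorem Ind.fix (h : Ind e g β) (hA : IsPGroup 2 A) (hg : g ∈ Cs (A.map e)) : ∀ a ∈ A, β a = a :=
  fun a ha => (h.comm_iff hk (H64.SG.isPGroup_iff_is2.1 hA a ha)).1 (hg _ ⟨a, ha, rfl⟩).symm

/-- The `2`-subgroups of `L` come from `X`. -/
theorem exists_pre {P : Subgroup G} (hP : IsPGroup 2 P) : ∃ A : Subgroup X, IsPGroup 2 A ∧
    A.map e = P ⊓ e.range ∧ ∀ s, s ∈ A ↔ Is2 s ∧ e s ∈ P := by
  have h2 : ∀ a b : X, Is2 a → Is2 b → e a ∈ P → e b ∈ P → Is2 (a * b) := fun a b ha hb pa pb => by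
    obtain ⟨S, hS⟩ := H98.exists_isSyl (p := 2) (P.comap e)
    have key : ∀ c, Is2 c → e c ∈ P → c ∈ S := fun c hc pc => by
      obtain ⟨d, hd, r, hr, rfl⟩ := hS.exists_mul_res (x := c) pc
      have hr' : r ∈ center X := hk (by
        rw [← H64.SG.O2_eq] at hr
        refine (closure_le (K := e.ker)).2 (fun y hy => ?_) hr
        exact (H64.SG.isPGroup_iff_is2.1 hP _ hy.1).eq_one (hy.2.of_dvd_nat (orderOf_map_dvd _ _)))
      rw [eq_of_is2 hc (H64.SG.isPGroup_iff_is2.1 hS.2.1 d hd) (by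
        rwa [mem_center_iff.1 hr' d, mul_inv_cancel_right])]
      exact hd
    exact H64.SG.isPGroup_iff_is2.1 hS.2.1 _ (mul_mem (key a ha pa) (key b hb pb))
  let A : Subgroup X :=
    { carrier := {s | Is2 s ∧ e s ∈ P}
      one_mem' := ⟨H64.SG.is2_one, by simp⟩
      mul_mem' := fun a b => ⟨h2 _ _ a.1 b.1 a.2 b.2, by rw [map_mul]; exact mul_mem a.2 b.2⟩
      inv_mem' := fun a => ⟨a.1.inv, by rw [map_inv]; exact inv_mem a.2⟩ }
  refine ⟨A, H64.SG.isPGroup_iff_is2.2 fun _ h => h.1, le_antisymm ?_ ?_, fun _ => Iff.rfl⟩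
  · rintro _ ⟨s, hs, rfl⟩; exact ⟨hs.2, s, rfl⟩
  · rintro a ⟨h1, h3⟩
    obtain ⟨s, h4, rfl⟩ := exists_is2_range h3 (H64.SG.isPGroup_iff_is2.1 hP _ h1)
    exact ⟨s, ⟨h4, h1⟩, rfl⟩

omit hk in
theorem syl_map [Finite G] {P : Subgroup X} (h : Syl P A) : Syl (P.map e) (A.map e) :=
  H64.SG.syl_iff.2 ((H64.SG.syl_iff.1 h).map e)

omit hk in
theorem syl_map_UU [FB X] [Finite G] : Syl ((UU X).map e) e.range :=
  MonoidHom.range_eq_map e ▸ syl_map syl_UU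

theorem syl_of_map [Finite G] {P : Subgroup X} (hP : IsPGroup 2 P) (hA : P ≤ A)
    (h : Syl (P.map e) (A.map e)) : Syl P A := by
  obtain ⟨S, hS, h1⟩ := H98.exists_isSyl_le hP hA
  have h2 := (H64.SG.syl_iff.1 h).eq_of_le (hS.2.1.map e) (map_mono h1) (map_mono hS.1)
  rw [le_antisymm h1 ((map_le_map2 hk hS.2.1 hP).1 h2.le)]
  exact H64.SG.syl_iff.2 hS

theorem odd_of_Cs (h1 : g ∈ e.range) (h2 : g ∈ Cs e.range) : Odd (orderOf g) := by
  obtain ⟨s, rfl⟩ := h1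
  exact (odd_of_center ((e_mem_Cs hk).1 h2)).of_dvd_nat (orderOf_map_dvd _ _)

theorem eq_one_of_Cs (h1 : g ∈ e.range) (h2 : g ∈ Cs e.range) (h3 : Is2 g) : g = 1 :=
  h3.eq_one (odd_of_Cs hk h1 h2)

omit hk in
theorem B1.not_mem (h : B1 e t) : t ∉ e.range := fun h1 =>
  h.inv.2 (eq_one_of_Cs h.ker h1 h.cen (H64.SG.is2_of_sq h.inv.1))

/-- A `2`-element acting as the `2`-element `e s`. -/
theorem Ind.split {s : X} (h : Ind e g (MulAut.conj s)) (h2 : Is2 g) (hs : Is2 s) :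
    ∃ k ∈ Cs e.range, Is2 k ∧ g = k * e s ∧ g * k = k * g := by
  have h1 := ind_conj_iff.1 h
  have h3 := h1 _ ⟨s, rfl⟩
  have h4 : g * e s = e s * g := h.comm (by simp)
  refine ⟨_, h1, h2.mul (hs.map e).inv ?_, by simp, ?_⟩
  · exact (Commute.inv_right h4).eq
  · rw [mul_assoc, ← (Commute.inv_right h4).eq]

/-- Inner `2`-elements. -/
theorem Ind.inner (h : Ind e g β) (h1 : out X β = 1) (h2 : Is2 g) :
    ∃ s, Is2 s ∧ β = MulAut.conj s ∧ ∃ k ∈ Cs e.range, Is2 k ∧ g = k * e s ∧ g * k = k * g := by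
  obtain ⟨s, hs, rfl⟩ := inner_of_out h1 (h.is2 hk h2)
  exact ⟨s, hs, rfl, h.split hk h2 hs⟩

/-- `C_L(g)` for a `2`-element `g`. -/
theorem Ind.map_fx [Finite G] (h : Ind e g β) (h2 : Is2 β) : (fx β).map e = e.range ⊓ Cz g := by
  refine le_antisymm ?_ ?_
  · rintro _ ⟨s, hs, rfl⟩; exact ⟨⟨s, rfl⟩, mem_Cz.2 (h.comm hs)⟩
  rintro _ ⟨⟨s, rfl⟩, hs⟩
  have h3 : ∀ a, e a = e s → e (β a) = e s := fun a ha => by
    rw [← h, ha, mem_Cz.1 hs, mul_inv_cancel_right]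
  let T : SubMulAction (zpowers β) X := ⟨{a | e a = e s}, fun c a ha => by
    obtain ⟨c, hc⟩ := c
    obtain ⟨k, rfl⟩ := (mem_powers_iff_mem_zpowers).2 hc
    change e ((β ^ k) a) = e s
    clear hc
    induction k with
    | zero => exact ha
    | succ k ih => rw [pow_succ', MulAut.mul_apply]; exact h3 _ ih⟩
  have hc : Nat.card T = Nat.card e.ker := Nat.card_congr
    ⟨fun a => ⟨a.1 * s⁻¹, by have : e a.1 = e s := a.2; simp [MonoidHom.mem_ker, this]⟩,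
      fun a => ⟨a.1 * s, by have : e a.1 = 1 := a.2; change e _ = e s; simp [this]⟩,
      fun a => by simp, fun a => by simp⟩
  obtain ⟨a, ha⟩ := h2.zpowers.nonempty_fixed_point_of_prime_not_dvd_card T
    (by rw [hc]; exact (odd_card_ker hk).not_two_dvd_nat)
  exact ⟨a.1, congrArg Subtype.val (ha ⟨β, mem_zpowers β⟩), a.2⟩

omit hk in
theorem range_le_O2 [FB X] [Finite G] : e.range ≤ O2 e.range := by
  have : (O2 (⊤ : Subgroup X)).Normal :=
    normalizer_eq_top_iff.1 (eq_top_iff.2 (le_normalizer.trans (H64.SG.Ns_le_Ns_O2 ⊤)))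
  rw [MonoidHom.range_eq_map, H64.SG.O2_eq, ← H98.map_res, ← H64.SG.O2_eq]
  rcases normal_le_center_or (O2 (⊤ : Subgroup X)) with h | h
  · have h1 : center X ⊔ UU X = ⊤ := by
      rw [eq_top_iff, ← (H64.SG.syl_iff.1 syl_UU).sup_res, ← H64.SG.O2_eq]
      exact sup_le le_sup_right (h.trans le_sup_left)
    have h2 : center X ⊔ UU X ≤ Cs (ZZ X) :=
      sup_le (fun a ha b _ => mem_center_iff.1 ha b) UU_le_Cs
    obtain ⟨z, hz, z1⟩ := exists_ZZ (X := X)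
    exact absurd (eq_one_of_center (mem_center_iff.2 fun a => (h2 (h1 ▸ mem_top a) _ hz).symm)
      (is2_of_UU (ZZ_le_UU hz))) z1
  · exact map_mono h.ge

/-- An element of `N(L)` that centralises `e (Qk k)`. -/
theorem cqk [FB X] [FA X] {k : ℕ} (hr : Rg X k) (h1 : g ∈ Ns e.range)
    (h2 : g ∈ Cs ((Qk X k).map e)) : ∃ z ∈ Mk X k, g * e z ∈ Cs e.range := by
  obtain ⟨β, h⟩ := exists_ind hk h1
  obtain ⟨ζ, h3, rfl⟩ := mem_cI.1 (FA.ctK k hr β (h.fix hk (isP_Qk hr) h2))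
  exact ⟨ζ⁻¹, inv_mem h3, by simpa only [← map_inv] using ind_conj_iff.1 h⟩

theorem cq [FB X] [FA X] (h1 : g ∈ Ns e.range) (h2 : g ∈ Cs ((QQ X).map e)) :
    ∃ z ∈ ZZ X, g * e z ∈ Cs e.range := cqk hk rg1 h1 h2

/-- The square of an element of `N(L)` that centralises `e (Qk k)` centralises `L`. -/
theorem cq2 [FB X] [FA X] {k : ℕ} (hr : Rg X k) (h1 : g ∈ Ns e.range)
    (h2 : g ∈ Cs ((Qk X k).map e)) : g * g ∈ Cs e.range := by
  obtain ⟨d, d1, hd⟩ := cqk hk hr h1 h2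
  have h7 := hd _ ⟨d, rfl⟩
  have := mul_mem hd hd
  rwa [mul_assoc, h7, ← mul_assoc, ← mul_assoc, mul_assoc (g * g), ← map_mul,
    FB.sqM k hr d d1, map_one, mul_one] at this

end Ind

/-! ### The field case and the wreath case -/

section Cases

variable {X : Type} [Group X] {G : Type u} [Group G] {e e₁ e₂ : X →* G} {g t : G}
  {A : Subgroup X}

theorem CF.le {Y : Type} [Group Y] {ι : X →* Y} {τ : MulAut Y} {Φ : Y →* G}
    (h : CF e t ι τ Φ) : e.range ≤ Φ.range := by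
  rw [← h.rg]; rintro _ ⟨s, rfl⟩; exact ⟨_, rfl⟩

theorem CW.eq (h : CW e t e₁ e₂) : e₂ = cje t e₁ := MonoidHom.ext fun a => (h.sw a).symm

theorem CW.ker₂ (h : CW e t e₁ e₂) : e₂.ker ≤ center X := by
  rw [h.eq, ker_cje]; exact h.ker

theorem CW.symm (h : CW e t e₁ e₂) (ht : t * t = 1) : CW e t e₂ e₁ :=
  ⟨h.ker₂, fun a b => (h.comm b a).symm, fun a => by rw [h.diag, h.comm], fun a => by
    rw [← h.sw, show t * (t * e₁ a * t⁻¹) * t⁻¹ = t * t * e₁ a * (t * t)⁻¹ by group, ht]; simp⟩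

theorem CW.cje (h : CW e t e₁ e₂) (g : G) : CW (cje g e) (g * t * g⁻¹) (cje g e₁) (cje g e₂) :=
  ⟨ker_cje (g := g) (e := e₁) ▸ h.ker, fun a b => by
    simp only [cje_apply, conj_mul, h.comm], fun a => by simp only [cje_apply, conj_mul, h.diag],
    fun a => by rw [cje_apply, cje_apply, ← h.sw]; group⟩

theorem CW.twe (h : CW e t e₁ e₂) (β : MulAut X) : CW (twe e β) t (twe e₁ β) (twe e₂ β) :=
  ⟨ker_twe h.ker, fun _ _ => h.comm _ _, fun _ => h.diag _, fun _ => h.sw _⟩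

theorem CW.cjs_map (h : CW e t e₁ e₂) (A : Subgroup X) : cjs t (A.map e₁) = A.map e₂ := by
  rw [h.eq, map_cje]

theorem CW.cjs_range (h : CW e t e₁ e₂) : cjs t e₁.range = e₂.range := by rw [h.eq, range_cje]

theorem CW.le_Cs (h : CW e t e₁ e₂) : e₂.range ≤ Cs e₁.range := by
  rintro _ ⟨b, rfl⟩ _ ⟨a, rfl⟩; exact h.comm a b

theorem CW.le_Cs' (h : CW e t e₁ e₂) : e₁.range ≤ Cs e₂.range := by
  rintro _ ⟨a, rfl⟩ _ ⟨b, rfl⟩; exact (h.comm a b).symm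

theorem CW.mem_sup (h : CW e t e₁ e₂) {A B : Subgroup X} :
    g ∈ A.map e₁ ⊔ B.map e₂ ↔ ∃ a ∈ A, ∃ b ∈ B, g = e₁ a * e₂ b := by
  rw [H98.mem_sup_right_norm (((map_le_range _ _).trans h.le_Cs).trans
    ((Cs_range_le A).trans (H64.SG.Cs_le_Ns _)))]
  constructor
  · rintro ⟨_, ⟨a, ha, rfl⟩, _, ⟨b, hb, rfl⟩, rfl⟩; exact ⟨a, ha, b, hb, rfl⟩
  · rintro ⟨a, ha, b, hb, rfl⟩; exact ⟨_, ⟨a, ha, rfl⟩, _, ⟨b, hb, rfl⟩, rfl⟩

theorem CW.mem_two (h : CW e t e₁ e₂) : g ∈ two e₁ e₂ A ↔ ∃ a ∈ A, ∃ b ∈ A, g = e₁ a * e₂ b :=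
  h.mem_sup

theorem two_top : two e₁ e₂ ⊤ = G12 e₁ e₂ := by simp only [two, G12, MonoidHom.range_eq_map]

theorem two_le (A : Subgroup X) : two e₁ e₂ A ≤ G12 e₁ e₂ :=
  sup_le_sup (map_le_range _ _) (map_le_range _ _)

theorem two_mono {B : Subgroup X} (h : A ≤ B) : two e₁ e₂ A ≤ two e₁ e₂ B :=
  sup_le_sup (map_mono h) (map_mono h)

theorem two_comm (A : Subgroup X) : two e₂ e₁ A = two e₁ e₂ A := sup_comm _ _

theorem G12_comm : G12 e₂ e₁ = G12 e₁ e₂ := sup_comm _ _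

theorem CW.mem_G12 (h : CW e t e₁ e₂) : g ∈ G12 e₁ e₂ ↔ ∃ a b, g = e₁ a * e₂ b := by
  rw [← two_top, h.mem_two]; simp

theorem CW.map_le (h : CW e t e₁ e₂) (A : Subgroup X) : A.map e ≤ two e₁ e₂ A := by
  rintro _ ⟨a, ha, rfl⟩; exact h.mem_two.2 ⟨a, ha, a, ha, h.diag a⟩

theorem CW.mul_mul (h : CW e t e₁ e₂) (a b c d : X) :
    e₁ a * e₂ b * (e₁ c * e₂ d) = e₁ (a * c) * e₂ (b * d) := by
  rw [map_mul, map_mul, mul_assoc, ← mul_assoc (e₂ b), ← h.comm]; group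

theorem CW.G12_le_Ns (h : CW e t e₁ e₂) : G12 e₁ e₂ ≤ Ns e₁.range :=
  sup_le le_normalizer (h.le_Cs.trans (H64.SG.Cs_le_Ns _))

theorem CW.G12_le_Ns' (h : CW e t e₁ e₂) : G12 e₁ e₂ ≤ Ns e₂.range :=
  sup_le (h.le_Cs'.trans (H64.SG.Cs_le_Ns _)) le_normalizer

theorem CW.ind₁ (h : CW e t e₁ e₂) (a b : X) : Ind e₁ (e₁ a * e₂ b) (MulAut.conj a) := by
  simpa using (ind_conj a).mul (ind_one_iff.2 (h.le_Cs ⟨b, rfl⟩))

theorem CW.ind₂ (h : CW e t e₁ e₂) (a b : X) : Ind e₂ (e₁ a * e₂ b) (MulAut.conj b) := by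
  simpa using (ind_one_iff.2 (h.le_Cs' ⟨a, rfl⟩)).mul (ind_conj b)

theorem CW.t_mem_Ns (h : CW e t e₁ e₂) (ht : t * t = 1) (A : Subgroup X) :
    t ∈ Ns (two e₁ e₂ A) := by
  rw [← conj_mem_St, mem_St_iff_map, Subgroup.map_sup]
  exact (congrArg₂ _ (h.cjs_map A) ((h.symm ht).cjs_map A)).trans (sup_comm _ _)

theorem CW.isP_two (h : CW e t e₁ e₂) (hA : IsPGroup 2 A) : IsPGroup 2 (two e₁ e₂ A) :=
  (hA.map e₁).to_sup_of_normal_left' (hA.map e₂) (((map_le_range _ _).trans h.le_Cs).trans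
    ((Cs_range_le A).trans (H64.SG.Cs_le_Ns _)))

variable [Finite X] [Dat X] [FO X]
theorem CW.center (h : CW e t e₁ e₂) {a b : X} (h1 : e₁ a * e₂ b = 1) :
    a ∈ center X ∧ b ∈ center X :=
  ⟨conj_eq_one.1 ((h.ind₁ a b).unique h.ker (h1 ▸ ind_one)),
    conj_eq_one.1 ((h.ind₂ a b).unique h.ker₂ (h1 ▸ ind_one))⟩

theorem W0.symm (h : W0 t e₁ e₂) (c : CW e t e₁ e₂) (ht : Inv2 t) : W0 t e₂ e₁ := by
  have key : ∀ s, IsConj t s → cjs s e₂.range = e₁.range → cjs s e₁.range = e₂.range :=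
    fun s hs => cjs_swap (H9.UF.inv2_conj ht hs).1
  have hG : G12 e₂ e₁ = G12 e₁ e₂ := G12_comm
  refine ⟨by rw [hG]; exact h.odd, fun h1 => h.ne ?_, fun m hm => ?_, fun s hs h1 => ?_,
    fun g hg => by rw [hG]; exact h.ufs g (key _ (isConj_iff.2 ⟨g, rfl⟩) hg)⟩
  · rw [← (c.symm ht.1).cjs_range, ← H64.SG.cj_Ns, mem_cjs]; simpa using h1
  · rw [hG] at hm
    rcases h.pm m hm with h1 | h1
    exacts [Or.inl h1.symm, Or.inr h1.symm]
  · have h2 := key s hs h1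
    obtain ⟨e', h3, h4⟩ := h.chg s hs h2
    obtain ⟨β, hβ⟩ := exists_ind c.ker (g := t⁻¹ * s) (mem_normalizer_iff.2 fun a => by
      rw [← conj_mem_cjs (g := s), h2, ← c.cjs_range, mem_cjs]
      simp [mul_assoc])
    have h5 := (h4.symm (H9.UF.inv2_conj ht hs).1).twe β⁻¹
    have h6 : twe (cje s e₁) β⁻¹ = e₂ := MonoidHom.ext fun a => by
      have := hβ (β⁻¹ a)
      rw [MulAut.apply_inv_self] at this
      rw [twe_apply, cje_apply, ← c.sw, ← this]; group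
    rw [h6] at h5
    rw [h5.eq] at h5
    exact ⟨_, h3.twe β⁻¹, h5⟩

theorem GW.symm (h : GW e t e₁ e₂) (c : CW e t e₁ e₂) : GW e t e₂ e₁ := by
  have hG : G12 e₂ e₁ = G12 e₁ e₂ := G12_comm
  have h0 := h.toW0.symm c h.uf.inv
  refine ⟨by rw [hG]; exact h.toEG, h0.ne, h0.pm, h0.chg, h0.ufs, fun s hs c' => ?_⟩
  rw [hG] at hs
  exact cjs_swap (H9.UF.inv2_conj h.uf.inv c').1 (h.sw s hs c')

theorem CW.inj2 (h : CW e t e₁ e₂) {a b c d : X} (ha : Is2 a) (hb : Is2 b) (hc : Is2 c)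
    (hd : Is2 d) (h1 : e₁ a * e₂ b = e₁ c * e₂ d) : a = c ∧ b = d :=
  ⟨conj_inj ha hc ((h.ind₁ a b).unique h.ker (h1 ▸ h.ind₁ c d)),
    conj_inj hb hd ((h.ind₂ a b).unique h.ker₂ (h1 ▸ h.ind₂ c d))⟩

theorem CW.eq_one (h : CW e t e₁ e₂) (h1 : g ∈ e₁.range) (h2 : g ∈ e₂.range) (h3 : Is2 g) : g = 1 :=
  eq_one_of_Cs h.ker h1 (h.le_Cs h2) h3

/-- The `2`-elements of `G₁`. -/
theorem CW.exists_is2 (h : CW e t e₁ e₂) (h1 : g ∈ G12 e₁ e₂) (h2 : Is2 g) :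
    ∃ a b, Is2 a ∧ Is2 b ∧ g = e₁ a * e₂ b := by
  obtain ⟨a, b, rfl⟩ := h.mem_G12.1 h1
  let φ : X × X →* G := e₁.noncommCoprod e₂ h.comm
  obtain ⟨i, j, h1, h3, h4⟩ := H64.SG.exists_two_odd (a, b)
  have h5 : φ ((a, b) ^ j) = 1 := (map_pow φ (a, b) j ▸ h2.pow j :).eq_one
    (h4.of_dvd_nat (orderOf_map_dvd _ _))
  refine ⟨a ^ i, b ^ i, h3.map (MonoidHom.fst _ _), h3.map (MonoidHom.snd _ _), ?_⟩
  change φ (a, b) = φ ((a, b) ^ i)
  conv_lhs => rw [h1, map_mul, h5, mul_one]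

theorem CW.syl_two [FB X] [Finite G] (h : CW e t e₁ e₂) : Syl (two e₁ e₂ (UU X)) (G12 e₁ e₂) := by
  let φ : X × X →* G := e₁.noncommCoprod e₂ h.comm
  have key : ∀ A : Subgroup X, (A.prod A).map φ = two e₁ e₂ A := fun A => by
    ext a
    rw [h.mem_two]
    exact ⟨fun ⟨p, h1, h2⟩ => ⟨p.1, h1.1, p.2, h1.2, h2.symm⟩,
      fun ⟨a, h1, b, h2, h3⟩ => ⟨(a, b), ⟨h1, h2⟩, h3.symm⟩⟩
  have h1 : Syl ((UU X).prod (UU X)) ⊤ := ⟨le_top, H64.SG.isPGroup_iff_is2.2 fun p hp => by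
    have := ((is2_of_UU hp.1).map (MonoidHom.inl _ X)).mul
      ((is2_of_UU hp.2).map (MonoidHom.inr _ _)) (by simp)
    simpa using this, by
    have := (syl_UU (X := X)).2.2
    rw [relIndex_top_right] at this ⊢
    rw [index_prod]; exact this.mul this⟩
  rw [← two_top, ← key, ← key, top_prod_top]
  exact H64.SG.syl_iff.2 ((H64.SG.syl_iff.1 h1).map φ)

theorem CW.card_sup (h : CW e t e₁ e₂) (hA : IsPGroup 2 A) {B : Subgroup X}
    (hB : IsPGroup 2 B) : Nat.card ↥(A.map e₁ ⊔ B.map e₂) = Nat.card A * Nat.card B := by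
  rw [← Nat.card_prod]
  refine (Nat.card_congr (Equiv.ofBijective (fun p : A × B =>
    (⟨e₁ p.1 * e₂ p.2, h.mem_sup.2 ⟨_, p.1.2, _, p.2.2, rfl⟩⟩ : ↥(A.map e₁ ⊔ B.map e₂)))
    ⟨fun p q hpq => ?_, fun y => ?_⟩)).symm
  · have i := H64.SG.isPGroup_iff_is2.1 hA
    have j := H64.SG.isPGroup_iff_is2.1 hB
    obtain ⟨h1, h2⟩ := h.inj2 (i _ p.1.2) (j _ p.2.2) (i _ q.1.2) (j _ q.2.2)
      (congrArg Subtype.val hpq)
    exact Prod.ext (Subtype.ext h1) (Subtype.ext h2)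
  · obtain ⟨a, ha, b, hb, h1⟩ := h.mem_sup.1 y.2
    exact ⟨(⟨a, ha⟩, ⟨b, hb⟩), Subtype.ext h1.symm⟩

theorem CW.card_two (h : CW e t e₁ e₂) (hA : IsPGroup 2 A) :
    Nat.card (two e₁ e₂ A) = Nat.card A ^ 2 := by rw [pow_two]; exact h.card_sup hA hA

end Cases


/-! ### CU -/

theorem EG0.eg {X : Type} [Group X] [Finite X] [Dat X] [Fa X] {G : Type u} [Group G] [Finite G]
    {e : X →* G} {t : G} {G₁ : Subgroup G} (h : EG0 e t G₁) (hb : B1 e t) : EG e t G₁ := by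
  have l1 : e.range ≤ Ns G₁ := h.le.trans le_normalizer
  have ht : ∀ k, t ∈ Cs ((Qk X k).map e) := fun k => Cs_range_le _ hb.cen
  have hC : ∀ k, Cs G₁ ≤ Cs ((Qk X k).map e) := fun k =>
    centralizer_le ((map_le_range _ _).trans h.le)
  have key : ∀ k, Rg X k → Odd (Nat.card (O2 (Cs ((Qk X k).map e)))) ∧
      ∀ g ∈ Cs ((Qk X k).map e), ∃ o ∈ O2 (Cs ((Qk X k).map e)), ∃ m ∈ Ns G₁, g = o * m :=
    fun k hk => by
    obtain ⟨O, o1, o2, o3, o4⟩ := H9.UF.jobK5 h.uf (IsConj.refl t) h.uf.mem _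
      ((Qk X k).map e ⊓ Cs ((Qk X k).map e)) (ht k)
      inf_le_right (H98.le_normalizer_of_le_centralizer (H98.centralizer_anti inf_le_left))
      (((isP_Qk hk).map e).to_le inf_le_left) (fun g hg _ => H98.centralizer_anti inf_le_left hg)
      (fun m a1 a2 a3 => ⟨(h.cM k hk m a2 a1).1 a3,
        (Cs _).mul_mem (mul_mem (mul_mem a1 (ht k)) (inv_mem a1)) (inv_mem (ht k))⟩)
    refine ⟨(H64.SG.odd_card_sup o3 h.odd ((hC k).trans o2)).of_dvd_nat (card_dvd_of_le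
      ((closure_le _).2 fun g hg => ?_)), fun g hg => ?_⟩
    · obtain ⟨o, ho, m, a1, a2, e⟩ := o4 g hg.1
      refine e ▸ mul_mem (mem_sup_left ho) (mem_sup_right ((h.cM k hk m a2 a1).2
        (H64.SG.odd_orderOf_of_pow_mem o3 hg.2 ?_)))
      have h0 := H64.SG.mul_pow_mem (inv_mem ho) (o2 hg.1) (orderOf g)
      rwa [pow_orderOf_eq_one, inv_one, mul_one, show o⁻¹ * g = m by rw [e]; group] at h0
    · obtain ⟨o, ho, m, -, a2, e⟩ := o4 g hg
      exact ⟨o, H64.SG.mem_O2_of_odd (o1 ho) (H64.SG.odd_orderOf_of_mem o3 ho), m, a2, e⟩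
  have h1 : ∀ k, Rg X k → ∀ A H : Subgroup X, A ≤ Iv H → H ≤ Ns (Qk X k) →
      O2 (Cs ((Qk X k).map e)) ≤ Cs (A.map e) := fun k hk A H a1 a2 o ho =>
    mem_Cs_map_Iv a1 fun v v1 v2 => mem_Cz.1 (H9.UF.jobK6 h.uf (IsConj.refl t) h.uf.mem
      (h.tx v v2) (l1 ⟨v, rfl⟩) (by rw [← map_mul, v2, map_one]) (hb.comm v) _ (key k hk).1
      (H64.SG.Ns_le_Ns_O2 _ (le_normalizer (ht k)))
      (H64.SG.Ns_le_Ns_O2 _ (H98.normalizer_le_normalizer_centralizer _ (map_mem_Ns (a2 v1))))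
      (fun o ho => mem_Cz.2 ((h.cM k hk o ho.2 (H64.SG.O2_le _ ho.1)).2
        (H64.SG.odd_orderOf_of_mem (key k hk).1 ho.1) _ (h.le ⟨v, rfl⟩))) ho)
  have h2 : ∀ k j, Rg X k → O2 (Cs ((Qk X k).map e)) ≤ Cs ((Qk X j).map e) →
      O2 (Cs ((Qk X k).map e)) ≤ O2 (Cs ((Qk X j).map e)) := fun k j hk a o ho =>
    H64.SG.mem_O2_of_odd (a ho) (H64.SG.odd_orderOf_of_mem (key k hk).1 ho)
  have hP : PP X ≤ Ns (QQ X) := fun p hp => by
    have := (FI.qk 1 (rg1 (X := X))).2.1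
    exact this (mem_Cz.2 (PP_le_Cs hp _ (FB.xM 1 rg1)))
  have h3 := h1 1 rg1 _ _ FP.ivP hP
  have h4 : O2 (Cs ((QQ X).map e)) ≤ Cs e.range := by
    rw [MonoidHom.range_eq_map, ← FP.top, Subgroup.map_sup]
    exact fun o ho => le_centralizer_iff.1 (sup_le (le_centralizer_iff.2
      (zpowers_le.2 (h3 ho))) (le_centralizer_iff.2 (zpowers_le.2 (h1 2 rg2 _ _ FP.ivS FP.SN
        (h2 1 2 rg1 (h3.trans (centralizer_le (map_mono ((Qk_le_UU rg2).trans UU_le_PP)))) ho)))))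
      (mem_zpowers o)
  refine ⟨h.toEB, fun k hk g hg => ?_⟩
  obtain ⟨o, ho, m, hm, rfl⟩ := (key k hk).2 g hg
  have h5 := h2 k 1 hk (h1 k hk _ _ FP.ivQ (QQ_le_UU.trans (UU_le_Ns_Qk hk))) ho
  exact mul_mem (h.gen o (h4 h5) fun ζ _ z => h4 (H98.conj_mem_of_mem_normalizer
    (H64.SG.Ns_le_Ns_O2 _ (le_normalizer (centralizer_le (map_mono QQ_le_UU) z))) h5)) hm

end H67.GA
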