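import Cfsg.Agent.H85.P6.H67_GAInd
import Cfsg.Agent.H81.SUDef

namespace H57 end H57
open H57
namespace H67 end H67
open H67
namespace H85.P6

/-! STD-UM (row S3128), piece 2: `X = SU_(n+1)(q)`, `q` even, for the antidiagonal form, inside
`SL_(n+1)(K)`, `|K| = q²`; vectors, elements, the data `Dat X`.  `F` is the set of `c : K` with
`star c = c`.  Notes: `blueprints/STDUM.md`. -/

set_option autoImplicit false
set_option linter.unusedSectionVars false

namespace H67.UA

open H64.SG (O2 Syl Cz Cs Ns cjs Is2 Inv2 UF IsO2 fx mem_fx)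
open Matrix H57 Subgroup
open H67.SA (SLn Au la)

export H81.SU (rt rt_sq sq_inj rt_mul rt_ne sg)

/-- `star` is not the identity. -/
class Hf (K : Type) [Field K] [StarRing K] : Prop where
  ne : ∃ a : K, star a ≠ a

/-- `q = |F|` -/
noncomputable def qK (K : Type) [Field K] [StarRing K] : ℕ := Nat.card (selfAdjoint K)

/-- The range of the parameters: `n + 1 ≥ 6`, and `q ≥ 4` if `n + 1 = 6`. -/
class Par (n : ℕ) (K : Type) [Field K] [StarRing K] : Prop extends Hf K where
  five : 5 ≤ n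

/-- `V = K^(n+1)` -/
abbrev Vn (n : ℕ) (K : Type) : Type := Fin (n + 1) → K

section Vec

variable {n : ℕ} {K : Type} [Field K] [StarRing K]

/-- the trace -/
abbrev tr (a : K) : K := a + star a
/-- the norm -/
abbrev nm (a : K) : K := a * star a
/-- the hermitian form, linear in the first variable -/
def hf (x y : Vn n K) : K := ∑ i, x i * star (y i.rev)
/-- the matrix of `y ↦ hf y u • v` -/
def op (v u : Vn n K) : Matrix (Fin (n + 1)) (Fin (n + 1)) K := vecMulVec v fun j => star (u j.rev)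
/-- the standard basis -/
def ev (i : Fin (n + 1)) : Vn n K := Pi.single i 1
/-- `W_k`, the span of `e_0 .. e_(k-1)`; `W_k^⊥ = W_(n+1-k)` -/
def Wk (k : ℕ) (v : Vn n K) : Prop := ∀ i : Fin (n + 1), k ≤ i.val → v i = 0
/-- `v` is isotropic -/
abbrev Iso (v : Vn n K) : Prop := hf v v = 0
/-- `u`, `v` are perpendicular isotropic vectors -/
structure Pp (u v : Vn n K) : Prop where
  l : Iso u
  r : Iso v
  p : hf u v = 0
/-- `u`, `v` are linearly independent -/
def Li (u v : Vn n K) : Prop := ∀ a b : K, a • u + b • v = 0 → a = 0 ∧ b = 0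
/-- `u`, `v`, `w` are linearly independent -/
def Li3 (u v w : Vn n K) : Prop := ∀ a b c : K, a • u + b • v + c • w = 0 → a = 0 ∧ b = 0 ∧ c = 0
/-- the parameters of `EE u x c` are admissible -/
structure Ok (u x : Vn n K) (c : K) : Prop where
  iso : Iso u
  perp : hf x u = 0
  tr : tr c = hf x x

theorem hf_add_left (x y z : Vn n K) : hf (x + y) z = hf x z + hf y z := by
  simp [hf, add_mul, Finset.sum_add_distrib]
theorem hf_add_right (x y z : Vn n K) : hf x (y + z) = hf x y + hf x z := by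
  simp [hf, mul_add, Finset.sum_add_distrib]
theorem hf_smul_left (a : K) (x y : Vn n K) : hf (a • x) y = a * hf x y := by
  simp [hf, Finset.mul_sum, mul_assoc]
theorem hf_smul_right (a : K) (x y : Vn n K) : hf x (a • y) = star a * hf x y := by
  simp [hf, Finset.mul_sum, mul_left_comm, mul_comm]
@[simp] theorem hf_zero_left (y : Vn n K) : hf 0 y = 0 := by simp [hf]
@[simp] theorem hf_zero_right (x : Vn n K) : hf x 0 = 0 := by simp [hf]
theorem star_hf (x y : Vn n K) : star (hf x y) = hf y x := by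
  rw [hf, hf, star_sum, ← Equiv.sum_comp Fin.revPerm]
  simp [mul_comm]
theorem hf_symm {x y : Vn n K} (h : hf x y = 0) : hf y x = 0 := by rw [← star_hf, h, star_zero]
theorem ev_apply (i j : Fin (n + 1)) : (ev i : Vn n K) j = if j = i then 1 else 0 := by
  simp [ev, Pi.single_apply]
theorem hf_ev_left (i : Fin (n + 1)) (y : Vn n K) : hf (ev i) y = star (y i.rev) := by
  simp [hf, ev_apply]
theorem hf_ev_right (x : Vn n K) (i : Fin (n + 1)) : hf x (ev i) = x i.rev := by
  rw [← star_hf, hf_ev_left, star_star]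
theorem hf_ev (i j : Fin (n + 1)) : hf (ev i : Vn n K) (ev j) = if j = i.rev then 1 else 0 := by
  rw [hf_ev_right, ev_apply]; simp [Fin.rev_eq_iff]
theorem ev_ne (i : Fin (n + 1)) : (ev i : Vn n K) ≠ 0 := fun h => by
  simpa [ev_apply] using congrFun h i
theorem eq_of_hf {x y : Vn n K} (h : ∀ z, hf x z = hf y z) : x = y := funext fun i => by
  simpa [hf_ev_right] using h (ev i.rev)
theorem Pp.symm {u v : Vn n K} (h : Pp u v) : Pp v u := ⟨h.r, h.l, hf_symm h.p⟩
theorem Iso.smul {v : Vn n K} (h : Iso v) (a : K) : Iso (a • v) := by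
  rw [Iso, hf_smul_left, hf_smul_right, h]; simp
theorem Pp.iso_add {u v : Vn n K} (h : Pp u v) : Iso (u + v) := by
  rw [Iso, hf_add_left, hf_add_right, hf_add_right, h.l, h.r, h.p, h.symm.p]; simp
theorem Pp.smul {u v : Vn n K} (h : Pp u v) (a b : K) : Pp (a • u) (b • v) :=
  ⟨h.l.smul a, h.r.smul b, by rw [hf_smul_left, hf_smul_right, h.p]; simp⟩
theorem Pp.ok {u v : Vn n K} (h : Pp u v) : Ok u v 0 := ⟨h.l, h.symm.p, by simp [h.r]⟩

theorem op_apply (v u : Vn n K) (i j : Fin (n + 1)) : op v u i j = v i * star (u j.rev) := rfl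
theorem op_mulVec (v u y : Vn n K) : op v u *ᵥ y = hf y u • v := by
  ext i
  simp [mulVec, dotProduct, op_apply, hf, Finset.mul_sum, mul_comm, mul_left_comm]
theorem op_mul (v u x w : Vn n K) : op v u * op x w = hf x u • op v w := by
  ext i j
  simp only [mul_apply, op_apply, hf, Matrix.smul_apply, smul_eq_mul, Finset.sum_mul]
  exact Finset.sum_congr rfl fun _ _ => by ring
theorem op_add_left (v w u : Vn n K) : op (v + w) u = op v u + op w u := by
  ext i j; simp [op_apply, add_mul]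
theorem op_add_right (v u w : Vn n K) : op v (u + w) = op v u + op v w := by
  ext i j; simp [op_apply, mul_add]
theorem op_smul_left (a : K) (v u : Vn n K) : op (a • v) u = a • op v u := by
  ext i j; simp [op_apply, mul_assoc]
theorem op_smul_right (a : K) (v u : Vn n K) : op v (a • u) = star a • op v u := by
  ext i j; simp [op_apply, mul_left_comm, mul_comm]
@[simp] theorem op_zero_left (u : Vn n K) : op 0 u = 0 := by ext i j; simp [op_apply]
@[simp] theorem op_zero_right (v : Vn n K) : op v 0 = 0 := by ext i j; simp [op_apply]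
theorem op_ev (i j : Fin (n + 1)) : op (ev i : Vn n K) (ev j.rev) = single i j 1 := by
  ext a b
  simp only [op_apply, ev_apply, Fin.rev_inj, single_apply, @eq_comm _ i a, @eq_comm _ j b]
  by_cases h1 : a = i <;> by_cases h2 : b = j <;> simp [h1, h2]

end Vec

section Grp

variable (n : ℕ) (K : Type) [Field K] [StarRing K] [CharP K 2]

/-- the graph-field automorphism `τ` -/
def tau : Au n K := SA.gam n K * slField _ K (sg K)
/-- `X = SU_(n+1)(q)` -/
abbrev XU : Type := ↥(fx (tau n K))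
/-- `X ≤ SL_(n+1)(K)` -/
abbrev io : XU n K →* SLn n K := (fx (tau n K)).subtype

variable {n K}

theorem tau_x (i j : Fin (n + 1)) (c : K) : tau n K (SA.x i j c) = SA.x j.rev i.rev (star c) := by
  rw [tau, MulAut.mul_apply, SA.slField_x, SA.gam_x]; rfl

theorem tau_mul_self : tau n K * tau n K = 1 := by
  have : (tau n K * tau n K).toMonoidHom = MonoidHom.id _ := SA.hom_ext fun i j _ c => by
    change tau n K (tau n K _) = _
    simp [tau_x]
  exact MulEquiv.toMonoidHom_injective this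

theorem tau_tau (s : SLn n K) : tau n K (tau n K s) = s :=
  congrArg (fun f : Au n K => f s) tau_mul_self

/-- the entries of `τ g⁻¹` -/
theorem tau_inv_apply (g : SLn n K) (i j : Fin (n + 1)) :
    (tau n K g⁻¹).1 i j = star (g.1 j.rev i.rev) := by
  have h1 : (slGraph _ K (slField _ K (sg K) g⁻¹)).1 = (g.1.map star)ᵀ := by
    rw [map_inv]
    change (((slField _ K (sg K) g)⁻¹)⁻¹).1ᵀ = _
    rw [inv_inv]; rfl
  rw [tau, MulAut.mul_apply, SA.gam, MulAut.mul_apply, MulAut.conj_apply, ← SA.pm_inv, SA.val_mul,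
    SA.val_mul, h1]
  have h2 : ∀ a b : Fin (n + 1), (a = Fin.revPerm b) = (b = a.rev) := fun a b =>
    propext ⟨fun h => by simp [h], fun h => by simp [h]⟩
  have h3 : ∀ a b : Fin (n + 1), (a = Fin.revPerm⁻¹ b) = (a = b.rev) := fun a b => rfl
  simp only [mul_apply, SA.pm_apply, h2, h3, ite_mul, one_mul, zero_mul, mul_ite, mul_one, mul_zero,
    Finset.sum_ite_eq', Finset.mem_univ, if_true, transpose_apply, map_apply]

/-- `g ∈ X` iff `g⁻¹` is the conjugate anti-transpose of `g`. -/
theorem mem_XU_iff {g : SLn n K} :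
    g ∈ fx (tau n K) ↔ g.1 * (of fun i j => star (g.1 j.rev i.rev)) = 1 := by
  have h1 : (tau n K g⁻¹).1 = of fun i j => star (g.1 j.rev i.rev) := by
    ext i j; exact tau_inv_apply g i j
  rw [← h1, ← SA.val_mul, mem_fx, map_inv, eq_comm, ← mul_inv_eq_one]
  exact ⟨fun h => by rw [h, SA.val_one], fun h => Subtype.ext h⟩

/-- the matrix of an element of `X` -/
def mt (g : XU n K) : Matrix (Fin (n + 1)) (Fin (n + 1)) K := g.1.1
/-- the action of `X` on `V` -/
def ac (g : XU n K) (v : Vn n K) : Vn n K := mt g *ᵥ v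

theorem X_ext {g h : XU n K} (e : mt g = mt h) : g = h := Subtype.ext (Subtype.ext e)
theorem mt_mul (g h : XU n K) : mt (g * h) = mt g * mt h := rfl
theorem mt_one : mt (1 : XU n K) = 1 := rfl
theorem mt_det (g : XU n K) : (mt g).det = 1 := g.1.2
theorem inv_apply (g : XU n K) (i j : Fin (n + 1)) : mt g⁻¹ i j = star (mt g j.rev i.rev) := by
  change _ = star (g.1.1 _ _)
  rw [← tau_inv_apply, map_inv, mem_fx.1 g.2]; rfl
theorem ac_mul (g h : XU n K) (v : Vn n K) : ac (g * h) v = ac g (ac h v) :=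
  (mulVec_mulVec _ _ _).symm
@[simp] theorem ac_one (v : Vn n K) : ac 1 v = v := one_mulVec v
@[simp] theorem ac_inv_ac (g : XU n K) (v : Vn n K) : ac g⁻¹ (ac g v) = v := by
  rw [← ac_mul, inv_mul_cancel, ac_one]
@[simp] theorem ac_ac_inv (g : XU n K) (v : Vn n K) : ac g (ac g⁻¹ v) = v := by
  rw [← ac_mul, mul_inv_cancel, ac_one]
theorem ac_inj (g : XU n K) {v w : Vn n K} (h : ac g v = ac g w) : v = w := by
  rw [← ac_inv_ac g v, h, ac_inv_ac]
theorem ac_add (g : XU n K) (v w : Vn n K) : ac g (v + w) = ac g v + ac g w := mulVec_add _ _ _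
theorem ac_smul (g : XU n K) (a : K) (v : Vn n K) : ac g (a • v) = a • ac g v := mulVec_smul _ _ _
@[simp] theorem ac_zero (g : XU n K) : ac g 0 = 0 := mulVec_zero _
theorem ac_ev (g : XU n K) (j i : Fin (n + 1)) : ac g (ev j) i = mt g i j := by
  simp [ac, ev]
theorem ac_ext {g h : XU n K} (e : ∀ v, ac g v = ac h v) : g = h :=
  X_ext (Matrix.ext fun i j => by rw [← ac_ev, e, ac_ev])
theorem hf_ac_left (g : XU n K) (x y : Vn n K) : hf (ac g x) y = hf x (ac g⁻¹ y) := by
  simp only [hf, ac, mulVec, dotProduct, inv_apply, star_sum, star_mul', star_star, Fin.rev_rev,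
    Finset.sum_mul, Finset.mul_sum]
  rw [Finset.sum_comm]
  refine Finset.sum_congr rfl fun j _ => ?_
  rw [← Equiv.sum_comp Fin.revPerm]
  simp [mul_comm, mul_left_comm]
@[simp] theorem hf_ac (g : XU n K) (x y : Vn n K) : hf (ac g x) (ac g y) = hf x y := by
  rw [hf_ac_left, ac_inv_ac]
/-- an isometry of determinant `1` lies in `X` -/
theorem exists_X (M : Matrix (Fin (n + 1)) (Fin (n + 1)) K) (h : M.det = 1)
    (h' : ∀ x y, hf (M *ᵥ x) (M *ᵥ y) = hf x y) : ∃ g : XU n K, mt g = M := by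
  refine ⟨⟨⟨M, h⟩, mem_XU_iff.2 (mul_eq_one_comm.1 (Matrix.ext fun i j => ?_))⟩, rfl⟩
  have := h' (ev j) (ev i.rev)
  simp only [hf_ev, Fin.rev_inj] at this
  rw [one_apply, ← this, mul_apply, hf]
  simp [ev, mul_comm]

/-- the element of `X` with matrix `M` (or `1`) -/
noncomputable def mk (M : Matrix (Fin (n + 1)) (Fin (n + 1)) K) : XU n K :=
  open Classical in if h : ∃ g : XU n K, mt g = M then h.choose else 1

theorem mt_mk {M : Matrix (Fin (n + 1)) (Fin (n + 1)) K} (h : ∃ g : XU n K, mt g = M) :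
    mt (mk M) = M := by
  rw [mk, dif_pos h]; exact h.choose_spec
theorem mk_mt (g : XU n K) : mk (mt g) = g := X_ext (mt_mk ⟨g, rfl⟩)

/-- `y ↦ y + hf y x • u + hf y u • x + c hf y u • u` (for `Ok u x c`) -/
noncomputable def EE (u x : Vn n K) (c : K) : XU n K := mk (1 + op u x + op x u + c • op u u)
/-- the transvection `1 + c u u*` (`u` isotropic, `star c = c`) -/
noncomputable abbrev Tc (c : K) (u : Vn n K) : XU n K := EE u 0 c
/-- the transvection `1 + u u*` -/
noncomputable abbrev TT (u : Vn n K) : XU n K := Tc 1 u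
/-- `1 + u v* + v u*` (for `Pp u v`) -/
noncomputable abbrev qq (v u : Vn n K) : XU n K := EE u v 0
/-- `x_ij(a) x_j'i'(ā)` (`i`, `j`, `i'`, `j'` distinct) -/
noncomputable abbrev ss (i j : Fin (n + 1)) (a : K) : XU n K := qq (a • ev i) (ev j.rev)
/-- the stabiliser of `v` -/
def Stab (v : Vn n K) : Subgroup (XU n K) where
  carrier := {g | ac g v = v}
  one_mem' := ac_one v
  mul_mem' := fun {a b} ha hb => by
    change ac (a * b) v = v
    rw [ac_mul, show ac b v = v from hb, show ac a v = v from ha]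
  inv_mem' := fun {a} ha => ac_inj a (by rw [ac_ac_inv, show ac a v = v from ha])

/-- the matrix of `EE u x c` -/
def mE (u x : Vn n K) (c : K) : Matrix (Fin (n + 1)) (Fin (n + 1)) K :=
  1 + op u x + op x u + c • op u u

omit [StarRing K] in
variable (K) in
theorem two0 : (2 : K) = 0 := CharTwo.two_eq_zero
omit [StarRing K] in
@[simp] theorem v_add_self (v : Vn n K) : v + v = 0 := by ext i; simp [CharTwo.add_self_eq_zero]
theorem tr_tr (a : K) : tr (tr a) = 0 := by
  simp only [tr, star_add, star_star]; linear_combination (a + star a) * two0 K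
theorem tr_eq_zero {a : K} : tr a = 0 ↔ star a = a :=
  ⟨fun h => by linear_combination h - a * two0 K, fun h => by rw [tr, h, CharTwo.add_self_eq_zero]⟩
omit [CharP K 2] in
theorem star_tr (a : K) : star (tr a) = tr a := by simp [add_comm]
omit [CharP K 2] in
theorem star_nm (a : K) : star (nm a) = nm a := by simp [mul_comm]
theorem ok_zero {u : Vn n K} (h : Iso u) {c : K} (hc : star c = c) : Ok u 0 c :=
  ⟨h, by simp, by simp [tr_eq_zero.2 hc]⟩
theorem Ok.add {u x y : Vn n K} {c d : K} (h : Ok u x c) (h' : Ok u y d) :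
    Ok u (x + y) (c + d + hf y x) := ⟨h.iso, by rw [hf_add_left, h.perp, h'.perp, add_zero], by
  rw [hf_add_left, hf_add_right, hf_add_right, ← h.tr, ← h'.tr, UA.tr, star_add, star_add, star_hf]
  ring⟩
theorem Ok.star {u x : Vn n K} {c : K} (h : Ok u x c) : Ok u x (star c) :=
  ⟨h.iso, h.perp, by rw [← h.tr, UA.tr, star_star, add_comm]⟩
theorem Ok.ac {u x : Vn n K} {c : K} (h : Ok u x c) (g : XU n K) : Ok (ac g u) (ac g x) c :=
  ⟨by rw [Iso, hf_ac, h.iso], by rw [hf_ac, h.perp], by rw [hf_ac, h.tr]⟩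
theorem Iso.ac {v : Vn n K} (h : Iso v) (g : XU n K) : Iso (ac g v) := by rw [Iso, hf_ac, h]
theorem Pp.ac {u v : Vn n K} (h : Pp u v) (g : XU n K) : Pp (ac g u) (ac g v) :=
  ⟨h.l.ac g, h.r.ac g, by rw [hf_ac, h.p]⟩

omit [CharP K 2] in
theorem mE_mulVec (u x y : Vn n K) (c : K) :
    mE u x c *ᵥ y = y + hf y x • u + hf y u • x + (c * hf y u) • u := by
  rw [mE, add_mulVec, add_mulVec, add_mulVec, smul_mulVec, one_mulVec, op_mulVec, op_mulVec,
    op_mulVec, smul_smul]
omit [CharP K 2] in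
theorem mE_mul {u x y : Vn n K} (hu : Iso u) (hx : hf x u = 0) (hy : hf y u = 0) (c d : K) :
    mE u x c * mE u y d = mE u (x + y) (c + d + hf y x) := by
  simp only [mE, add_mul, mul_add, one_mul, mul_one, smul_mul_assoc, mul_smul_comm, op_mul,
    show hf u u = 0 from hu, hy, hf_symm hx, zero_smul, smul_zero, add_zero, op_add_left,
    op_add_right, add_smul]
  abel
theorem Ok.exists_X {u x : Vn n K} {c : K} (h : Ok u x c) : ∃ g : XU n K, mt g = mE u x c := by
  refine UA.exists_X _ ?_ fun y z => ?_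
  · have h1 : mE u x c * mE u x c * (mE u x c * mE u x c) = 1 := by
      rw [mE_mul h.iso h.perp h.perp, v_add_self, mE_mul h.iso (by simp) (by simp)]
      simp [mE, CharTwo.add_self_eq_zero]
    have h2 := congrArg det h1
    simp only [det_mul, det_one] at h2
    have h3 : (det (mE u x c) + 1) ^ 4 = 0 := by
      linear_combination h2 + (2 * det (mE u x c) ^ 3 + 3 * det (mE u x c) ^ 2 +
        2 * det (mE u x c) + 1) * two0 K
    linear_combination (pow_eq_zero_iff (by decide)).1 h3 - two0 K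
  · simp only [mE_mulVec, hf_add_left, hf_add_right, hf_smul_left, hf_smul_right, star_mul', star_hf,
      show hf u u = 0 from h.iso, h.perp, hf_symm h.perp, ← h.tr, UA.tr]
    linear_combination (hf y u * hf x z + hf y x * hf u z + c * hf y u * hf u z +
      Star.star c * hf y u * hf u z) * two0 K
theorem mt_EE {u x : Vn n K} {c : K} (h : Ok u x c) : mt (EE u x c) = mE u x c := mt_mk h.exists_X
theorem ac_EE {u x : Vn n K} {c : K} (h : Ok u x c) (y : Vn n K) :
    ac (EE u x c) y = y + hf y x • u + hf y u • x + (c * hf y u) • u := by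
  rw [ac, mt_EE h, mE_mulVec]
theorem ac_EE_perp {u x y : Vn n K} {c : K} (h : Ok u x c) (hy : hf y u = 0) :
    ac (EE u x c) y = y + hf y x • u := by simp [ac_EE h, hy]
theorem ac_EE_fix {u x y : Vn n K} {c : K} (h : Ok u x c) (hy : hf y u = 0) (hx : hf y x = 0) :
    ac (EE u x c) y = y := by simp [ac_EE h, hy, hx]
theorem ac_EE_self {u x : Vn n K} {c : K} (h : Ok u x c) : ac (EE u x c) u = u :=
  ac_EE_fix h h.iso (hf_symm h.perp)
theorem ac_Tc {u : Vn n K} {c : K} (h : Iso u) (hc : star c = c) (y : Vn n K) :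
    ac (Tc c u) y = y + (c * hf y u) • u := by simp [ac_EE (ok_zero h hc)]
theorem ac_qq {u v : Vn n K} (h : Pp u v) (y : Vn n K) :
    ac (qq v u) y = y + hf y v • u + hf y u • v := by simp [ac_EE h.ok]
theorem EE_mul {u x y : Vn n K} {c d : K} (h : Ok u x c) (h' : Ok u y d) :
    EE u x c * EE u y d = EE u (x + y) (c + d + hf y x) := X_ext (by
  rw [mt_mul, mt_EE h, mt_EE h', mt_EE (h.add h'), mE_mul h.iso h.perp h'.perp])
@[simp] theorem EE_zero (u : Vn n K) : EE u 0 0 = 1 := by
  rw [EE, ← mk_mt 1, mt_one]; simp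
@[simp] theorem EE_zero_left (x : Vn n K) (c : K) : EE 0 x c = 1 := by
  rw [EE, ← mk_mt 1, mt_one]; simp
theorem EE_inv {u x : Vn n K} {c : K} (h : Ok u x c) : (EE u x c)⁻¹ = EE u x (star c) := by
  rw [inv_eq_iff_mul_eq_one, EE_mul h h.star, v_add_self, ← h.tr, CharTwo.add_self_eq_zero, EE_zero]
theorem EE_conj {u x : Vn n K} {c : K} (h : Ok u x c) (g : XU n K) :
    g * EE u x c * g⁻¹ = EE (ac g u) (ac g x) c := ac_ext fun y => by
  rw [ac_mul, ac_mul, ac_EE h, ac_EE (h.ac g), ac_add, ac_add, ac_add, ac_smul, ac_smul, ac_smul,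
    ac_ac_inv, ← hf_ac g _ x, ← hf_ac g _ u, ac_ac_inv]
theorem EE_smul (a : K) (u x : Vn n K) (c : K) :
    EE (a • u) x c = EE u (star a • x) (nm a * c) := by
  simp only [EE, op_smul_left, op_smul_right, star_star, smul_smul]
  congr 3; ring
theorem EE_shift (a : K) (u x : Vn n K) (c : K) : EE u (x + a • u) c = EE u x (c + tr a) := by
  simp only [EE, op_smul_left, op_smul_right, op_add_left, op_add_right, tr, add_smul]
  congr 1; abel
theorem EE_cm {u x y : Vn n K} {c d : K} (h : Ok u x c) (h' : Ok u y d) :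
    GA.cm (EE u x c) (EE u y d) = Tc (tr (hf x y)) u := by
  rw [GA.cm, mul_inv_eq_iff_eq_mul, mul_inv_eq_iff_eq_mul, EE_mul h h', mul_assoc, EE_mul h' h,
    EE_mul (ok_zero h.iso (star_tr _)) (h'.add h), zero_add, add_comm y, tr, star_hf]
  congr 1
  simp only [hf_zero_right]
  linear_combination -(hf x y) * two0 K
theorem EE_inj {u x y : Vn n K} {c d : K} (hu : u ≠ 0) (h : Ok u x c) (h' : Ok u y d)
    (e : EE u x c = EE u y d) : ∃ a, y = x + a • u ∧ c = d + tr a := by
  obtain ⟨i, hi⟩ := Function.ne_iff.1 hu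
  obtain ⟨z, hz⟩ : ∃ z, hf z u = 1 := ⟨(star (u i))⁻¹ • ev i.rev, by
    rw [hf_smul_left, hf_ev_left, Fin.rev_rev, inv_mul_cancel₀ (by simpa using hi)]⟩
  have h1 := ac_EE h z
  rw [e, ac_EE h' z, hz] at h1
  have h2 : y = x + (hf z x + c + hf z y + d) • u := by
    ext j
    have := congrFun h1 j
    simp only [Pi.add_apply, Pi.smul_apply, smul_eq_mul] at this ⊢
    linear_combination this - (hf z y + d) * u j * two0 K
  refine ⟨_, h2, ?_⟩
  generalize hf z x + c + hf z y + d = a at h2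
  have h3 : Ok u x (d + tr a) := ⟨h.iso, h.perp, by
    have := h'.tr
    rw [h2] at this
    simp only [hf_add_left, hf_add_right, hf_smul_left, hf_smul_right, show hf u u = 0 from h.iso,
      h.perp, hf_symm h.perp, UA.tr, star_add, star_star] at this ⊢
    linear_combination this + (a + star a) * two0 K⟩
  rw [h2, EE_shift] at e
  have h4 := ac_EE h z
  rw [e, ac_EE h3, hz] at h4
  have := congrFun h4 i
  simp only [Pi.add_apply, Pi.smul_apply, smul_eq_mul] at this
  exact mul_right_cancel₀ hi (by linear_combination -this)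
theorem qq_comm (v u : Vn n K) : qq v u = qq u v := by
  simp only [qq, EE, zero_smul, add_zero]; congr 1; abel
theorem qq_smul (a : K) (v u : Vn n K) : qq (a • v) u = qq v (star a • u) := by
  rw [qq, qq, EE_smul, star_star, mul_zero]
theorem qq_add {u v w : Vn n K} (h : Pp u v) (h' : Pp u w) (h0 : hf w v = 0) :
    qq (v + w) u = qq v u * qq w u := by rw [EE_mul h.ok h'.ok, h0]; simp
theorem qq_self (a : K) (u : Vn n K) : qq (a • u) u = Tc (tr a) u := by
  simpa using EE_shift a u 0 0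
theorem Tc_add {u : Vn n K} (h : Iso u) {a b : K} (ha : star a = a) (hb : star b = b) :
    Tc (a + b) u = Tc a u * Tc b u := by rw [EE_mul (ok_zero h ha) (ok_zero h hb)]; simp
theorem Tc_mul_self {u : Vn n K} (h : Iso u) {a : K} (ha : star a = a) : Tc a u * Tc a u = 1 := by
  rw [← Tc_add h ha ha, CharTwo.add_self_eq_zero, Tc, EE_zero]
theorem Tc_smul (a c : K) (u : Vn n K) : Tc c (a • u) = Tc (nm a * c) u := by
  rw [Tc, EE_smul, smul_zero]
theorem Tc_conj {u : Vn n K} (h : Iso u) {c : K} (hc : star c = c) (g : XU n K) :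
    g * Tc c u * g⁻¹ = Tc c (ac g u) := by rw [EE_conj (ok_zero h hc), ac_zero]
theorem Tc_eq_one {u : Vn n K} (hu : u ≠ 0) (h : Iso u) {c : K} (hc : star c = c)
    (e : Tc c u = 1) : c = 0 := by
  obtain ⟨a, h1, h2⟩ := EE_inj hu (ok_zero h hc) (ok_zero h (star_zero K)) (e.trans (EE_zero u).symm)
  have h3 : a • u = 0 := by simpa using h1.symm
  rw [h2, (smul_eq_zero.1 h3).resolve_right hu]; simp
theorem qq_eq_TT {u v : Vn n K} (h : Pp u v) : qq v u = TT (u + v) * TT u * TT v := ac_ext fun y => by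
  simp only [ac_mul, ac_qq h, ac_Tc h.l (star_one K), ac_Tc h.r (star_one K),
    ac_Tc h.iso_add (star_one K), hf_add_left, hf_add_right, hf_smul_left, show hf u u = 0 from h.l,
    show hf v v = 0 from h.r, h.p, h.symm.p]
  ext i
  simp only [Pi.add_apply, Pi.smul_apply, smul_eq_mul]
  linear_combination -(hf y u * u i + hf y v * v i) * two0 K
theorem ev_iso {i : Fin (n + 1)} (h : i ≠ i.rev) : Iso (ev i : Vn n K) := by rw [Iso, hf_ev, if_neg h]
theorem pp_ev {i j : Fin (n + 1)} (hi : i ≠ i.rev) (hj : j ≠ j.rev) (h : j ≠ i.rev) :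
    Pp (ev i : Vn n K) (ev j) := ⟨ev_iso hi, ev_iso hj, by rw [hf_ev, if_neg h]⟩

theorem mem_Stab {g : XU n K} {v : Vn n K} : g ∈ Stab v ↔ ac g v = v := Iff.rfl

variable [Finite K]

/-- `γ` has no graph part and induces `β` on `X`. -/
def Ext (β : MulAut (XU n K)) (γ : Au n K) : Prop :=
  (∀ g, (β g).1 = γ g.1) ∧ (SA.out n K γ).2 = 1

variable (n K)

/-- The field part of an automorphism of `X` (fact `FX.out_eq`). -/
noncomputable def oX : MulAut (XU n K) →* RingAut K :=
  open Classical in if h : ∃ o : MulAut (XU n K) →* RingAut K,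
    ∀ β γ, Ext β γ → o β = (SA.out n K γ).1 then h.choose else 1

noncomputable instance dat : GA.Dat (XU n K) where
  U := (SA.UU n K).subgroupOf _
  P := Stab (ev 0)
  S := closure {g | ∃ a, g = ss 0 1 a ∨ g = ss 1 0 a}
  M k := (SA.Mk n K k).subgroupOf _
  Q k := (SA.Qk n K k).subgroupOf _
  x k := mk (SA.xk K n k).1
  l := (n + 1) / 2
  q := qK K
  N := SA.NN n
  b := SA.bg n
  A := RingAut K
  o := oX n K

variable {n K}

theorem mem_UU {g : XU n K} : g ∈ GA.UU (XU n K) ↔ g.1 ∈ SA.UU n K := Iff.rfl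
theorem mem_PP {g : XU n K} : g ∈ GA.PP (XU n K) ↔ ac g (ev 0) = ev 0 := Iff.rfl
theorem mem_Mk {k : ℕ} {g : XU n K} : g ∈ GA.Mk (XU n K) k ↔ g.1 ∈ SA.Mk n K k := Iff.rfl
theorem mem_Qk {k : ℕ} {g : XU n K} : g ∈ GA.Qk (XU n K) k ↔ g.1 ∈ SA.Qk n K k := Iff.rfl
theorem SS_eq : GA.SS (XU n K) = Subgroup.closure {g | ∃ a, g = ss 0 1 a ∨ g = ss 1 0 a} := rfl
theorem ll_eq : GA.ll (XU n K) = (n + 1) / 2 := rfl
theorem qq_eq : GA.qq (XU n K) = qK K := rfl
theorem NN_eq : GA.NN (XU n K) = SA.NN n := rfl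
theorem bg_eq : GA.bg (XU n K) = SA.bg n := rfl
theorem rg_iff {k : ℕ} : GA.Rg (XU n K) k ↔ 1 ≤ k ∧ 2 * k ≤ n + 1 := by
  rw [GA.Rg, ll_eq]; omega

end Grp

end H67.UA
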