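import Cfsg.Agent.H85.P6.H67_UADef

namespace H57 end H57
open H57
namespace H67 end H67
open H67
namespace H85.P6

/-! STD-UM (row S3128), piece 3: the fact slots on `X = SU_(n+1)(q)`.  Notes: `blueprints/STDUM.md`,
part 2.  `i' = i.rev`. -/

set_option autoImplicit false

namespace H67.UA

open H64.SG (O2 Syl Cz Cs Ns cjs Is2 Inv2 UF IsO2 fx)
open Matrix H57 Subgroup
open H67.SA (SLn Au la St cI cm)

section Facts

variable (n : ℕ) (K : Type) [Field K] [StarRing K] [CharP K 2] [Finite K]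

/-- The field. -/
class FQ : Prop where
  card : Nat.card K = qK K ^ 2
  pow2 : ∃ f, 1 ≤ f ∧ qK K = 2 ^ f
  star_eq : ∀ a : K, star a = a ^ qK K
  aut_star : ∀ (σ : RingAut K) (a : K), σ (star a) = star (σ a)
  gal : ∀ σ : RingAut K, (∀ a, star a = a → σ a = a) → σ = 1 ∨ σ = sg K
  star_rt : ∀ a : K, star (rt a) = rt (star a)
  eta : ∃ η : K, tr η = 1
  trs : ∀ c : K, star c = c → ∃ a, tr a = c
  trn : ∀ a : K, (∀ b, tr (b * a) = 0) → a = 0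
  /-- `K* = F* × N₁` -/
  dec : ∀ a : K, ∃ b, nm b = 1 ∧ a = rt (nm a) * b
  h90 : ∀ c : K, nm c = 1 → ∃ b, b ≠ 0 ∧ c * star b = b
  n1 : ∃ a : K, nm a = 1 ∧ a ≠ 1
  n7 : ∃ a : K, nm a = 1 ∧ a ^ 7 ≠ 1
  odd : ∀ a : K, a ≠ 0 → Odd (orderOf a)
  core : ∀ R : Subring K, (∀ a, nm a = 1 → a ∈ R) → R = ⊤
  art : ∀ d : K, star d = d → ∃ η, η ^ 2 + η = d ∧ (star η = η ∨ star η = η + 1)

/-- Elements and subgroups in terms of vectors. -/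
class FV : Prop where
  out_tau : SA.out n K (tau n K) = (sg K, Multiplicative.ofAdd 1)
  tau_sc : ∀ (g : SLn n K) (c : K), g * g = 1 → tau n K (SA.sc c g) = SA.sc (star c) (tau n K g)
  xk_val : ∀ k, 2 * k ≤ n + 1 → (GA.xk (XU n K) k).1 = SA.xk K n k
  xk_one : GA.xk (XU n K) 1 = TT (ev 0)
  ss_val : ∀ (i j : Fin (n + 1)) (a : K), i ≠ i.rev → j ≠ j.rev → i ≠ j → j ≠ i.rev →
    (ss i j a).1 = SA.x i j a * SA.x j.rev i.rev (star a)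
  Tc_val : ∀ (i : Fin (n + 1)) (c : K), i ≠ i.rev → star c = c → (Tc c (ev i)).1 = SA.x i i.rev c
  mem_Z : ∀ g, g ∈ GA.ZZ (XU n K) ↔ ∃ c, star c = c ∧ g = Tc c (ev 0)
  mem_Q : ∀ g, g ∈ GA.QQ (XU n K) ↔ ∃ x c, Ok (ev 0) x c ∧ g = EE (ev 0) x c
  mem_U : ∀ g, g ∈ GA.UU (XU n K) ↔ ∀ k v, Wk (k + 1) v → Wk k (ac g v + v)
  mem_M : ∀ k, 2 * k ≤ n + 1 → ∀ g, g ∈ GA.Mk (XU n K) k ↔ ∀ v, Wk k (ac g v + v)
  mem_Qk : ∀ k, 2 * k ≤ n + 1 → ∀ g, g ∈ GA.Qk (XU n K) k ↔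
    (∀ v, Wk k v → ac g v = v) ∧ ∀ v, Wk (n + 1 - k) v → Wk k (ac g v + v)
  wk_perp : ∀ k, k ≤ n + 1 → ∀ v : Vn n K, Wk (n + 1 - k) v ↔ ∀ w, Wk k w → hf v w = 0
  EE_M : ∀ k, 2 * k ≤ n + 1 → ∀ u x c, Ok u x c → Wk k u → Wk k x → EE u x c ∈ GA.Mk (XU n K) k
  EE_Q : ∀ k, 2 * k ≤ n + 1 → ∀ u x c, Ok u x c → Wk k u → Wk (n + 1 - k) x →
    EE u x c ∈ GA.Qk (XU n K) k
  /-- generators of `Mk k` -/
  gen_M : ∀ k, 2 * k ≤ n + 1 → ∀ H : Subgroup (XU n K), (∀ v, Wk k v → TT v ∈ H) →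
    GA.Mk (XU n K) k ≤ H
  /-- generators of `Qk k` -/
  gen_Q : ∀ k, 2 * k ≤ n + 1 → ∀ H : Subgroup (XU n K),
    (∀ u x c, Ok u x c → Wk k u → Wk (n + 1 - k) x → EE u x c ∈ H) → GA.Qk (XU n K) k ≤ H
  root : ∀ g : XU n K, GA.Root g → ∃ v, v ≠ 0 ∧ Iso v ∧ g = TT v
  diag : ∀ d : Fin (n + 1) → K, (∀ i, d i * star (d i.rev) = 1) → ∏ i, d i = 1 →
    ∃ g : XU n K, mt g = diagonal d ∧ Odd (orderOf g) ∧ ∀ v i, ac g v i = d i * v i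
  perm : ∀ π : Equiv.Perm (Fin (n + 1)), (∀ i, π i.rev = (π i).rev) →
    ∃ g : XU n K, g.1 = SA.pm π ∧ ∀ i, ac g (ev i) = ev (π i)
  cen : ∀ g : XU n K, g ∈ center (XU n K) ↔ ∃ a : K, ∀ v, ac g v = a • v
  cen' : ∀ g : XU n K, g ∈ center (XU n K) ↔ g.1 ∈ center (SLn n K)

/-- Witt's theorem and generation. -/
class FW : Prop where
  witt : ∀ (r : ℕ) (v w : Fin r → Vn n K), LinearIndependent K v → LinearIndependent K w →
    (∀ i j, hf (v i) (v j) = hf (w i) (w j)) → (∃ p, ¬ Iso p ∧ ∀ i, hf p (w i) = 0) →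
    ∃ g : XU n K, ∀ i, ac g (v i) = w i
  w1 : ∀ v : Vn n K, v ≠ 0 → Iso v → ∃ g : XU n K, ac g (ev 0) = v
  w2 : ∀ u v : Vn n K, Pp u v → Li u v → ∃ g : XU n K, ac g (ev 0) = u ∧ ac g (ev 1) = v
  w3 : ∀ u v w : Vn n K, Pp u v → Pp u w → Pp v w → Li3 u v w → ∃ (g : XU n K) (a : K), a ≠ 0 ∧
    ac g (ev 0) = u ∧ ac g (ev 1) = v ∧ ac g (a • ev 2) = w
  wh : ∀ u v : Vn n K, Iso u → Iso v → hf u v ≠ 0 →
    ∃ g : XU n K, ac g (ev 0) = u ∧ ac g (star (hf u v) • ev (la n)) = v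
  wh1 : ∀ u v w : Vn n K, Pp u v → Pp u w → u ≠ 0 → hf v w ≠ 0 → ∃ g : XU n K,
    ac g (ev 0) = u ∧ ac g (ev 1) = v ∧ ac g (star (hf v w) • ev (1 : Fin (n + 1)).rev) = w
  /-- `u^⊥` is additively generated by its isotropic vectors -/
  span : ∀ u : Vn n K, Iso u → ∀ P : Vn n K → Prop, (∀ x, Pp u x → P x) →
    (∀ x y, hf x u = 0 → hf y u = 0 → P x → P y → P (x + y)) → ∀ x, hf x u = 0 → P x
  ext3 : ∀ u v w : Vn n K, Pp u v → Pp u w → Pp v w → ¬ Li3 u v w →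
    ∃ y, Pp u y ∧ Pp v y ∧ Pp w y ∧ ∀ a b c d : K, a • u + b • v + c • w = d • y → d = 0
  dual : ∀ u x : Vn n K, u ≠ 0 → (∀ y, hf y u = 0 → tr (hf y x) = 0) → ∃ a : K, x = a • u
  rootT : ∀ v : Vn n K, v ≠ 0 → Iso v → GA.Root (TT v)
  genT : ∀ H : Subgroup (XU n K), (∀ v, Iso v → TT v ∈ H) → H = ⊤
  genP : ∀ H : Subgroup (XU n K), (∀ v, Pp (ev 0) v → TT v ∈ H) → GA.PP (XU n K) ≤ H

/-- Automorphisms of `X` extend to `SL_(n+1)(K)`. -/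
class FX : Prop where
  iso : Nonempty (XU n K ≃* Cfsg.SU (n + 1) K (qK K))
  cX : ∀ γ : Au n K, (∀ g : XU n K, γ g.1 = g.1) → γ = 1 ∨ γ = tau n K
  ext : ∀ β : MulAut (XU n K), ∃ γ, Ext β γ
  res : ∀ γ : Au n K, γ * tau n K = tau n K * γ → ∃ β : MulAut (XU n K), ∀ g, (β g).1 = γ g.1
  comm : ∀ (β : MulAut (XU n K)) (γ : Au n K), (∀ g, (β g).1 = γ g.1) → γ * tau n K = tau n K * γ
  out_eq : ∀ (β : MulAut (XU n K)) (γ : Au n K), Ext β γ → GA.out (XU n K) β = (SA.out n K γ).1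
  /-- a `2`-element of `SL` that normalises `X` lies in `X` -/
  inX : ∀ s : SLn n K, Is2 s → MulAut.conj s * tau n K = tau n K * MulAut.conj s → s ∈ fx (tau n K)

/-- The facts that every later slot may use. -/
class Base : Prop extends FQ K, FV n K, FW n K, FX n K, GA.FO (XU n K), GA.FB (XU n K)

/-- The extension of an automorphism that normalises `U` or `Z`. -/
class FY : Prop where
  stU : ∀ (β : MulAut (XU n K)) (γ : Au n K), (∀ g, (β g).1 = γ g.1) → β ∈ St (GA.UU (XU n K)) →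
    γ ∈ St (SA.UU n K)
  stZ : ∀ (β : MulAut (XU n K)) (γ : Au n K), (∀ g, (β g).1 = γ g.1) → β ∈ St (GA.ZZ (XU n K)) →
    γ ∈ St (SA.ZZ n K)

/-- `FI.ic`; the rank determines the class -/
structure IC : Prop where
  ic : ∀ g : XU n K, Inv2 g → ∃ h k, GA.Rg (XU n K) k ∧ h * g * h⁻¹ = GA.xk (XU n K) k
  rk : ∀ g g' : XU n K, Inv2 g → Inv2 g' → (mt g - 1).rank = (mt g' - 1).rank → IsConj g g'

/-- `FI.qk` -/
def QK : Prop := ∀ k, GA.Rg (XU n K) k → IsO2 (GA.Qk (XU n K) k) (Cz (GA.xk (XU n K) k))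

/-- First half of `FE`. -/
def FE1 : Prop := ∀ θ : MulAut (GA.PP (XU n K)), ∃ β ∈ St (GA.PP (XU n K)),
  ∀ u : GA.PP (XU n K), u.1 ∈ GA.QQ (XU n K) → (θ u).1 * (β u.1)⁻¹ ∈ GA.ZZ (XU n K)

/-- `FD.sb`, `FD.si1` -/
structure FD1 : Prop where
  sb : ∀ B : Subgroup (MulAut (XU n K)), IsPGroup 2 B → Nat.card B ≤ qK K ^ (SA.NN n + 1)
  si1 : ∀ β ∈ St (GA.UU (XU n K)), β ∈ cI (GA.ZZ (XU n K)) ∨
    qK K ≤ (fx β).relIndex (GA.UU (XU n K))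

/-- An outer involution of `X` has the fixed points of a graph involution of `SL_(n+1)(F)`. -/
def TR : Prop := ∀ β : MulAut (XU n K), β * β = 1 → GA.out (XU n K) β ≠ 1 →
  ∃ β' : Au n (selfAdjoint K), β' * β' = 1 ∧
    SA.out n (selfAdjoint K) β' = (1, Multiplicative.ofAdd 1) ∧ Nonempty (fx β ≃* fx β')

/-- A prime `ρ` with `ord_ρ(q) = d` does not divide `|C(g)|` or `|X|`. -/
structure PD : Prop where
  cz : ∀ ρ d : ℕ, ρ.Prime → ρ ≠ 2 → (∀ j, ρ ∣ qK K ^ j - 1 ↔ d ∣ j) →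
    (Odd d ∧ n ≤ 2 * d ∨ 4 ∣ d ∧ n ≤ d) → ∀ g : XU n K, Inv2 g → ¬ ρ ∣ Nat.card (Cz g)
  all : ∀ ρ d : ℕ, ρ.Prime → ρ ≠ 2 → (∀ j, ρ ∣ qK K ^ j - 1 ↔ d ∣ j) →
    (Odd d ∧ n + 1 < 2 * d ∨ 4 ∣ d ∧ n + 1 < d) → ¬ ρ ∣ Nat.card (XU n K)

/-- Facts on `SL_(n+1)(K)` and `τ`. -/
class FK : Prop where
  gen : ∀ η : K, tr η = 1 → fx (tau n K) ⊔ cjs (SA.x 0 (la n) η) (fx (tau n K)) = ⊤
  ft : ∀ y : SLn n K, y * tau n K y ∈ center (SLn n K) →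
    ∃ h : SLn n K, MulAut.conj y * tau n K = MulAut.conj h * tau n K * (MulAut.conj h)⁻¹
  uf : ∀ β : Au n K, β * β = 1 →
    (∃ P ≤ fx β, IsPGroup 2 P ∧ Nat.card K ^ SA.bg n ≤ Nat.card P) ∨
    (∃ N ≤ fx β, N ≤ ⁅N, N⁆ ∧ ∃ r : ℕ, r ∣ (center (SLn n K)).relIndex N ∧
      ¬ r ∣ Nat.card (XU n K)) ∨ SA.out n K β = SA.out n K (tau n K)

end Facts

/-- A statement for all parameters. -/
def All (P : ∀ (_ : ℕ) (K : Type) [Field K] [StarRing K] [CharP K 2] [Finite K], Prop) : Prop :=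
  ∀ (n : ℕ) (K : Type) [Field K] [StarRing K] [CharP K 2] [Finite K] [Par n K], P n K

/-- A statement that may use `Base`. -/
def AllB (P : ∀ (_ : ℕ) (K : Type) [Field K] [StarRing K] [CharP K 2] [Finite K], Prop) : Prop :=
  All fun n K _ _ _ _ => Base n K → P n K

def JobFQ : Prop := All fun _ K _ _ _ _ => FQ K
def JobFV : Prop := All fun n K _ _ _ _ => FQ K → FV n K
def JobFW : Prop := All fun n K _ _ _ _ => FQ K → FV n K → FW n K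
def JobFX : Prop := All fun n K _ _ _ _ => FQ K → FV n K → FW n K → FX n K
def JobFO : Prop := All fun n K _ _ _ _ => FQ K → FV n K → FW n K → FX n K → GA.FO (XU n K)
def JobFB : Prop := All fun n K _ _ _ _ => FQ K → FV n K → GA.FB (XU n K)
def JobFY : Prop := AllB fun n K _ _ _ _ => FY n K
def JobFA : Prop := AllB fun n K _ _ _ _ => FY n K → GA.FA (XU n K)
def JobFP : Prop := AllB fun n K _ _ _ _ => GA.FP (XU n K)
def JobFG : Prop := AllB fun n K _ _ _ _ => GA.FG (XU n K)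
def JobIC : Prop := AllB fun n K _ _ _ _ => IC n K
def JobQK : Prop := AllB fun n K _ _ _ _ => QK n K
def JobFE1 : Prop := AllB fun n K _ _ _ _ => GA.FA (XU n K) → GA.FP (XU n K) → QK n K → FE1 n K
def JobFE : Prop := AllB fun n K _ _ _ _ => GA.FA (XU n K) → GA.FP (XU n K) → QK n K → FE1 n K →
  GA.FE (XU n K)
def JobFJ : Prop := AllB fun n K _ _ _ _ => GA.FA (XU n K) → IC n K → QK n K → GA.FJ (XU n K)
def JobFD1 : Prop := AllB fun n K _ _ _ _ => FY n K → GA.FA (XU n K) → FD1 n K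
def JobFD : Prop := AllB fun n K _ _ _ _ => FY n K → GA.FA (XU n K) → FD1 n K → GA.FD (XU n K)
def JobTR : Prop := AllB fun n K _ _ _ _ => TR n K
def JobPD : Prop := AllB fun n K _ _ _ _ => IC n K → QK n K → PD n K
def JobFF : Prop := AllB fun n K _ _ _ _ => TR n K → GA.FF (XU n K)
def JobFH : Prop := AllB fun n K _ _ _ _ => IC n K → TR n K → PD n K → GA.FH (XU n K)
def JobFK : Prop := AllB fun n K _ _ _ _ => PD n K → FK n K

end H67.UA
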