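import Cfsg.Agent.H85.P6.H67_UAK0

namespace H57 end H57
open H57
namespace H67 end H67
open H67
namespace H85.P6

/-! STD-UM: `JobT1`. -/

set_option autoImplicit false
set_option linter.unusedSectionVars false

namespace H67.UA

open H64.SG (O2 Syl Cz Cs Ns cjs Is2 Inv2 UF IsO2 fx mem_Cs mem_Cz is2_of_sq)
open Matrix H57 Subgroup
open H67.SA (SLn Au la St cI cm)
open H67.GA (Ind B1 CE CH CP CW CF)

universe u

section Idx

variable {n : ℕ} (K : Type) [Field K] [StarRing K] [hp : Par n K]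
include hp

variable {K} in
theorem ir {i j : Fin (n + 1)} (hi : i.val < 3) (hj : j.val < 3) : i ≠ j.rev := fun h => by
  have := hp.five
  have := congrArg Fin.val h
  rw [Fin.val_rev] at this; omega
omit hp in
theorem l0 : (0 : Fin (n + 1)).val < 3 := by simp
theorem l1 : (1 : Fin (n + 1)).val < 3 := by
  have := hp.five
  rw [Fin.val_one', Nat.mod_eq_of_lt (by omega)]; omega
theorem l2 : (2 : Fin (n + 1)).val < 3 := by
  have := hp.five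
  exact (Nat.mod_le _ _).trans_lt (show 2 < 3 by omega)

end Idx

variable {n : ℕ} {K : Type} [Field K] [StarRing K] [CharP K 2] [Finite K] [hp : Par n K] [FQ K]
  [FV n K] [FW n K] [GA.Fa (XU n K)] {G : Type u} [Group G] [Finite G] {e : XU n K →* G} {t : G}
  {τ : Vn n K → G}

variable (e t τ) in
/-- `T1` without `comm` -/
structure T0 : Prop where
  zero : τ 0 = 1
  eqv : ∀ g v, Iso v → e g * τ v * (e g)⁻¹ = τ (ac g v)
  tt : ∀ v, Iso v → τ v * t * (τ v)⁻¹ = t * e (TT v)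
  n1 : ∀ (a : K) v, nm a = 1 → Iso v → τ (a • v) = τ v

theorem ac_ne {g : XU n K} {v : Vn n K} (h : v ≠ 0) : ac g v ≠ 0 := fun e =>
  h (ac_inj g (e.trans (ac_zero g).symm))

theorem exists_T0 (h : CH e t) (c : CP e t) : ∃ τ, T0 e t τ := by
  classical
  have := hp.five
  obtain ⟨w, c1, c2⟩ := c (TT (ev 0)) (Tc_mem (k := 1) (by omega) (w0 le_rfl) (star_one K))
  have c3 : ∀ p, ac p (ev 0) = ev 0 → e p * w * (e p)⁻¹ = w := fun p hp =>
    mul_inv_eq_of_eq_mul (c1 _ ⟨p, hp, rfl⟩)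
  choose! γ hγ using FW.w1 (n := n) (K := K)
  let τ : Vn n K → G := fun v => if v ≠ 0 ∧ Iso v then e (γ v) * w * (e (γ v))⁻¹ else 1
  have k1 : ∀ g, τ (ac g (ev 0)) = e g * w * (e g)⁻¹ := fun g => by
    have h1 : ac g (ev 0) ≠ 0 := ac_ne (ev_ne 0)
    have h2 := (iso0 (n := n) (K := K)).ac g
    have h3 := c3 (g⁻¹ * γ (ac g (ev 0))) (by rw [ac_mul, hγ _ h1 h2, ac_inv_ac])
    simp only [τ, if_pos (And.intro h1 h2)]
    nth_rewrite 2 [← h3]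
    rw [map_mul, map_inv]; group
  have k0' : τ 0 = 1 := if_neg fun h => h.1 rfl
  have k2 : ∀ {P : Vn n K → Prop}, P 0 → (∀ g, P (ac g (ev 0))) → ∀ v, Iso v → P v :=
    fun h1 h2 v hv => by
      by_cases h3 : v = 0
      · exact h3 ▸ h1
      · exact hγ v h3 hv ▸ h2 _
  refine ⟨τ, k0', fun g => k2 (by simp [k0']) fun g' => ?_, k2 (by simp [k0']) fun g => ?_,
    fun a v ha => k2 (P := fun v => τ (a • v) = τ v) (by simp) (fun g => ?_) v⟩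
  · rw [← ac_mul, k1, k1, map_mul]; group
  · rw [k1, TT, ← Tc_conj iso0 (star_one K), map_mul, map_mul, map_inv]
    calc _ = e g * (w * ((e g)⁻¹ * t * (e g)⁻¹⁻¹) * w⁻¹) * (e g)⁻¹ := by group
      _ = _ := by rw [← map_inv, h.toB1.conj_t, c2, map_inv, ← mul_assoc (e g), ← h.toB1.comm]; group
  obtain ⟨d, d1, d2⟩ := exists_dg (K := K) (i := (0 : Fin (n + 1))) (j := 1)
    (ir (K := K) l0 l0) (ir (K := K) (l1 K) (l1 K)) (ne01 (K := K)) (ir (K := K) l0 (l1 K)) ha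
  have d3 : ac d (ev 0) = a • ev 0 := by simpa using d2 0
  have d4 : ∀ c, star c = c → d * Tc c (ev 0) * d⁻¹ = Tc c (ev 0) := fun c hc => by
    rw [Tc_conj iso0 hc, d3, Tc_smul, ha, one_mul]
  rw [← ac_smul, ← d3, ← ac_mul, k1, k1, map_mul]
  suffices e d * w * (e d)⁻¹ = w by nth_rewrite 2 [← this]; group
  have d5 : e d * w * (e d)⁻¹ * t * (e d * w * (e d)⁻¹)⁻¹ = t * e (TT (ev 0)) := by
    calc _ = e d * (w * ((e d)⁻¹ * t * (e d)⁻¹⁻¹) * w⁻¹) * (e d)⁻¹ := by group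
      _ = e d * t * (e d)⁻¹ * e (d * TT (ev 0) * d⁻¹) := by
        rw [← map_inv, h.toB1.conj_t, c2, map_mul, map_mul, map_inv]; group
      _ = _ := by rw [h.toB1.conj_t, d4 1 (star_one K)]
  obtain ⟨m, m1, m2⟩ := k0 h GA.rg1 (w := w⁻¹ * (e d * w * (e d)⁻¹)) (by
    calc _ = w⁻¹ * (w * t * w⁻¹) * (e d * w * (e d)⁻¹) := by group
      _ = _ := by rw [c2, ← d5]; group) (centralizer_le (map_mono GA.QQ_le_PP) (mul_mem (inv_mem c1) (by
        rintro _ ⟨p, hp, rfl⟩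
        have := c3 (d⁻¹ * p * d) (by
          rw [ac_mul, ac_mul, d3, ac_smul, mem_PP.1 hp, ← d3, ac_inv_ac])
        nth_rewrite 2 [← this]
        simp only [map_mul, map_inv]
        group)))
  obtain ⟨c, hc, rfl⟩ := (FV.mem_Z m).1 m1
  obtain ⟨z, z1, z2, z3⟩ : ∃ z, e d * w * (e d)⁻¹ = w * z ∧ z * z = 1 ∧ e d * z * (e d)⁻¹ = z := by
    have z1 : e (Tc c (ev 0)) * e (Tc c (ev 0)) = 1 := by rw [← map_mul, Tc_mul_self iso0 hc, map_one]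
    have z2 : e d * e (Tc c (ev 0)) * (e d)⁻¹ = e (Tc c (ev 0)) := by
      rw [← map_inv, ← map_mul, ← map_mul, d4 c hc]
    refine ⟨_, (mul_inv_cancel_left _ _).symm, ?_⟩
    rcases m2 with m2 | m2 <;> rw [m2]
    · exact ⟨z1, z2⟩
    · exact ⟨by rw [mul_assoc, ← mul_assoc (e _), ← h.toB1.comm, mul_assoc, z1, mul_one, h.inv.1],
        by rw [← conj_mul, z2, h.toB1.conj_t]⟩
  have z4 : ∀ k : ℕ, e d ^ k * w * (e d ^ k)⁻¹ = w * z ^ k := fun k => by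
    induction k with
    | zero => simp
    | succ k ih =>
      rw [pow_succ', _root_.mul_inv_rev, mul_assoc (e d), mul_assoc (e d), ← mul_assoc (_ * w), ih,
        ← mul_assoc, ← conj_mul, z1, ← conj_pow, z3, pow_succ', mul_assoc]
  obtain ⟨k, hk⟩ := d1
  have := z4 (orderOf d)
  rw [← map_pow, pow_orderOf_eq_one, hk, pow_succ, pow_mul, pow_two, z2] at this
  rw [z1]; simpa using this.symm

theorem T0.mul_t (h : CH e t) (T : T0 e t τ) : ∃ τ', T0 e t τ' ∧ ∀ v, v ≠ 0 → τ' v = τ v * t := by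
  classical
  refine ⟨fun v => if v = 0 then 1 else τ v * t, ⟨by simp, fun g v hv => ?_, fun v hv => ?_,
    fun a v ha hv => ?_⟩, fun v hv => if_neg hv⟩
  · by_cases h0 : v = 0
    · simp [h0]
    · rw [if_neg h0, if_neg (ac_ne h0), ← T.eqv g v hv, ← conj_mul, h.toB1.conj_t]
  · by_cases h0 : v = 0
    · simp [h0]
    · rw [if_neg h0, ← T.tt v hv]; group
  · have : a ≠ 0 := by rintro rfl; simp at ha
    simp only [smul_eq_zero, this, false_or, T.n1 a v ha hv]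

variable (e t) in
/-- `Wh` -/
def Wh (k : ℕ) (hr : GA.Rg (XU n K) k) : Subgroup G where
  carrier := {w | w ∈ Cs ((GA.Qk (XU n K) k).map e) ∧
    ∃ m ∈ GA.Mk (XU n K) k, w * t * w⁻¹ = t * e m}
  one_mem' := ⟨one_mem _, 1, one_mem _, by simp⟩
  mul_mem' := fun {a b} ⟨a1, m, m1, m2⟩ ⟨b1, m', m3, m4⟩ => ⟨mul_mem a1 b1, _, mul_mem m1 m3, by
    calc _ = a * (b * t * b⁻¹) * a⁻¹ := by group
      _ = a * t * a⁻¹ * (a * e m' * a⁻¹) := by rw [m4]; group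
      _ = _ := by rw [m2, ← a1 _ ⟨m', GA.Mk_le_Qk hr m3, rfl⟩, map_mul]; group⟩
  inv_mem' := fun {a} ⟨a1, m, m1, m2⟩ => ⟨inv_mem a1, _, inv_mem m1, by
    have h1 := a1 _ ⟨m, GA.Mk_le_Qk hr m1, rfl⟩
    calc _ = a⁻¹ * (t * e m) * a * (a⁻¹ * (e m)⁻¹ * a) := by group
      _ = _ := by
        rw [← m2, map_inv, show a⁻¹ * (e m)⁻¹ * a = a⁻¹ * ((e m)⁻¹ * (a * e m) * (e m)⁻¹) by group,
          ← h1]; group⟩

section Wh

variable {k : ℕ} {hr : GA.Rg (XU n K) k} {a b c : G} {m : XU n K}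

theorem Wh.cj (ha : a ∈ Wh e t k hr) (hm : m ∈ GA.Mk (XU n K) k) : a * e m * a⁻¹ = e m :=
  mul_inv_eq_of_eq_mul (ha.1 _ ⟨m, GA.Mk_le_Qk hr hm, rfl⟩).symm

theorem Wh.mul {m' : XU n K} (ha : a ∈ Wh e t k hr) (hm : m' ∈ GA.Mk (XU n K) k)
    (h1 : a * t * a⁻¹ = t * e m) (h2 : b * t * b⁻¹ = t * e m') :
    a * b * t * (a * b)⁻¹ = t * e (m * m') := by
  calc _ = a * (b * t * b⁻¹) * a⁻¹ := by group
    _ = a * t * a⁻¹ * (a * e m' * a⁻¹) := by rw [h2]; group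
    _ = _ := by rw [h1, Wh.cj ha hm, map_mul]; group

theorem Wh.sq (h : CH e t) (ha : a ∈ Wh e t k hr) : ∃ m ∈ GA.Mk (XU n K) k, a * a = e m := by
  obtain ⟨m, m1, m2⟩ := ha.2
  have h1 := Wh.mul ha m1 m2 m2
  rw [GA.FB.sqM k hr m m1, map_one, mul_one] at h1
  obtain ⟨m', m3, h2 | h2⟩ := k0 h hr (eq_mul_of_mul_inv_eq h1).symm (mul_mem ha ha).1
  · exact ⟨m', m3, h2⟩
  have h3 : t * a = a * t := by
    have h4 : t = a * a * (e m')⁻¹ := by rw [h2]; group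
    have h5 := Wh.cj (inv_mem ha) (inv_mem m3)
    rw [map_inv] at h5
    rw [h4]
    nth_rewrite 2 [← h5]
    group
  obtain ⟨m, m1, h4 | h4⟩ := k0 h hr h3 ha.1
  · exact ⟨m * m, mul_mem m1 m1, by rw [h4, map_mul]⟩
  · exact ⟨m * m, mul_mem m1 m1, by
      rw [h4, map_mul, mul_assoc, ← mul_assoc (e m), ← h.toB1.comm, ← mul_assoc, ← mul_assoc, h.inv.1,
        one_mul]⟩

theorem Wh.cm_mem (h : CH e t) (ha : a ∈ Wh e t k hr) (hb : b ∈ Wh e t k hr) :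
    ∃ m ∈ GA.Mk (XU n K) k, cm a b = e m := by
  obtain ⟨m₁, h1, h2⟩ := Wh.sq h ha
  obtain ⟨m₂, h3, h4⟩ := Wh.sq h (mul_mem (inv_mem ha) hb)
  obtain ⟨m₃, h5, h6⟩ := Wh.sq h (inv_mem hb)
  exact ⟨_, mul_mem (mul_mem h1 h3) h5, by rw [map_mul, map_mul, ← h2, ← h4, ← h6, cm]; group⟩

theorem Wh.cm_mul (h : CH e t) (ha : a ∈ Wh e t k hr) (hb : b ∈ Wh e t k hr)
    (hc : c ∈ Wh e t k hr) : cm a (b * c) = cm a b * cm a c := by
  obtain ⟨m, h1, h2⟩ := Wh.cm_mem h ha hc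
  rw [h2, ← Wh.cj hb h1, ← h2]; simp only [cm]; group

theorem T0.mem (T : T0 e t τ) {v : Vn n K} (hv : Wk k v) : τ v ∈ Wh e t k hr := by
  have hk := (rg_iff.1 hr).2
  refine ⟨?_, _, Tc_mem hk hv (star_one K), T.tt v (hv.pp hv hk).l⟩
  rintro _ ⟨p, hp, rfl⟩
  exact eq_mul_of_mul_inv_eq ((T.eqv p v (hv.pp hv hk).l).trans (by rw [Qk_fix hk hp hv]))

end Wh

theorem T0.exists_kappa (h : CH e t) (T : T0 e t τ) : ∃ κ : K, star κ = κ ∧
    ∀ u v, Pp u v → Li u v → cm (τ u) (τ v) = e (Tc κ u * Tc κ v) := by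
  have h5 := hp.five
  have hr : GA.Rg (XU n K) 2 := GA.rg2
  have hk : 2 * 2 ≤ n + 1 := by omega
  obtain ⟨m, m1, m2⟩ := Wh.cm_mem (hr := hr) h (T.mem (w0 (by omega))) (T.mem (w1 le_rfl))
  have m3 := GA.FB.sqM 2 hr m m1
  have k1 : ∀ g, e (g * m * g⁻¹) = cm (τ (ac g (ev 0))) (τ (ac g (ev 1))) := fun g => by
    rw [map_mul, map_mul, map_inv, ← m2, ← T.eqv g _ pp01.l, ← T.eqv g _ pp01.r]
    simp only [cm]; group
  have k2 : ∀ g x y, g * m * g⁻¹ = m → hf (ac m (ac g x)) (ac g y) = hf (ac m x) y :=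
    fun g x y hg => by rw [← ac_mul, ← eq_mul_of_mul_inv_eq hg, ac_mul, hf_ac]
  have i0 : (0 : Fin (n + 1)) ≠ Fin.rev 0 := ir (K := K) l0 l0
  have i1 : (1 : Fin (n + 1)) ≠ Fin.rev 1 := ir (K := K) (l1 K) (l1 K)
  have i2 : (2 : Fin (n + 1)) ≠ Fin.rev 2 := ir (K := K) (l2 K) (l2 K)
  have i3 : (0 : Fin (n + 1)) ≠ Fin.rev 1 := ir (K := K) l0 (l1 K)
  have i4 : (0 : Fin (n + 1)) ≠ Fin.rev 2 := ir (K := K) l0 (l2 K)
  have i5 : (1 : Fin (n + 1)) ≠ Fin.rev 2 := ir (K := K) (l1 K) (l2 K)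
  have i6 : (1 : Fin (n + 1)) ≠ Fin.rev 0 := fun e => i3 (by rw [e, Fin.rev_rev])
  have i7 : (2 : Fin (n + 1)) ≠ Fin.rev 1 := fun e => i5 (by rw [e, Fin.rev_rev])
  have i8 := ne01 (n := n) (K := K)
  have i9 := ne12 (n := n) (K := K)
  obtain ⟨a, a1, a2⟩ := FQ.n1 (K := K)
  obtain ⟨d, -, d2⟩ := exists_dg (K := K) i0 i2 (ne02 (K := K)) i4 a1
  have d3 : d * m * d⁻¹ = m := e_inj h.ker hr m1 d m3 (by
    rw [k1, d2, d2, ← m2]
    simp [-Fin.rev_zero, T.n1 a _ a1 iso0, i8.symm, i6, i9, i5])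
  obtain ⟨s, s1, s2, s3, s4⟩ := exists_sw (K := K) i0 i1 i3
  have s5 : s * m * s⁻¹ = m := e_inj h.ker hr m1 s m3 (by
    rw [k1, s1, s2, ← inv_eq_of_mul_eq_one_right m3, map_inv, ← m2]; simp only [cm]; group)
  have e1 := k2 d (ev (Fin.rev 0)) (ev (Fin.rev 1)) d3
  have e2 := k2 s (ev (Fin.rev 0)) (ev (Fin.rev 1)) s5
  have e3 := k2 s (ev (Fin.rev 0)) (ev (Fin.rev 0)) s5
  rw [s3, s4] at e2
  rw [s3] at e3
  simp only [d2, or_true, if_true, i3.symm, Fin.rev_inj, i8.symm, i7.symm, i9, or_self, if_false,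
    one_smul, ac_smul, hf_smul_left] at e1
  have e4 : hf (ac m (ev (Fin.rev 0))) (ev (Fin.rev 1)) = (0 : K) :=
    (mul_eq_zero.1 (show (a - 1) * _ = 0 by linear_combination e1)).resolve_left (sub_ne_zero.2 a2)
  have e5 : star (hf (ac m (ev (Fin.rev 0))) (ev (Fin.rev 0))) =
      (hf (ac m (ev (Fin.rev 0))) (ev (Fin.rev 0)) : K) := by
    rw [star_hf, hf_ac_left, inv_eq_of_mul_eq_one_right m3]
  generalize hκ : hf (ac m (ev (Fin.rev 0))) (ev (Fin.rev 0)) = κ at e3 e5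
  have m4 : m = Tc κ (ev 0) * Tc κ (ev 1) := Mk_ext hk m1
    (mul_mem (Tc_mem hk (w0 (by omega)) e5) (Tc_mem hk (w1 le_rfl) e5)) fun i j hi hj => by
      have key : ∀ i : Fin (n + 1), i.val < 2 → i = 0 ∨ i = 1 := fun i hi => by
        rw [Fin.ext_iff, Fin.ext_iff, v1 K, Fin.val_zero]; omega
      rcases key i hi with rfl | rfl <;> rcases key j hj with rfl | rfl <;>
        simp only [ac_mul, ac_Tc pp01.l e5, ac_Tc pp01.r e5, hf_add_left, hf_smul_left, hf_ev,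
          Fin.rev_rev, Fin.rev_inj, hκ, e2, e3, e4, i0.symm, i1.symm, i3.symm, i6.symm, i8, i8.symm,
          i0, i1, i3, i6, if_true, if_false, mul_zero, mul_one, add_zero, zero_add]
  refine ⟨κ, e5, fun u v h1 h2 => ?_⟩
  obtain ⟨g, rfl, rfl⟩ := FW.w2 u v h1 h2
  rw [← k1, m4, ← Tc_conj pp01.l e5, ← Tc_conj pp01.r e5, conj_mul]

theorem five {u v : Vn n K} (h : Pp u v) {a b c κ : K} (hκ : star κ = κ) (hc : tr (a * star b) = nm c) :
    Tc κ (u + a • v) * Tc κ (u + b • v) * Tc κ (u + (a + b) • v) * Tc κ (c • v) = Tc κ u := by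
  have h1 : ∀ a : K, Iso (u + a • v) := fun a => by simpa using (h.smul 1 a).iso_add
  refine ac_ext fun y => ?_
  simp only [ac_mul, ac_Tc (h1 _) hκ, ac_Tc (h.r.smul c) hκ, ac_Tc h.l hκ, hf_add_left, hf_add_right,
    hf_smul_left, hf_smul_right, show hf u u = 0 from h.l, show hf v v = 0 from h.r, h.p, h.symm.p,
    mul_zero, add_zero, star_add]
  ext i
  simp only [Pi.add_apply, Pi.smul_apply, smul_eq_mul, tr, nm, star_mul', star_star] at hc ⊢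
  linear_combination κ * hf y v * v i * hc + κ * (hf y u * u i + (a + b) * hf y u * v i +
    (star a + star b) * hf y v * u i + (a * star a + b * star b + c * star c) * hf y v * v i) * two0 K

theorem T0.prod (h : CH e t) (T : T0 e t τ) {a b c : K} (hc : tr (a * star b) = nm c) :
    ∃ m ∈ GA.Mk (XU n K) 2, ∃ s, (s = 1 ∨ s = t) ∧ τ (ev 1) * (τ (ev 1 + a • ev 0) *
      τ (ev 1 + b • ev 0) * τ (ev 1 + (a + b) • ev 0) * τ (c • ev 0)) = s * e m := by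
  have h5 := hp.five
  have hr : GA.Rg (XU n K) 2 := GA.rg2
  have hk : 2 * 2 ≤ n + 1 := by omega
  have u1 : Wk 2 (ev 1 : Vn n K) := w1 le_rfl
  have u0 : ∀ a : K, Wk 2 (a • ev 0 : Vn n K) := fun a => (w0 (by omega)).smul a
  have k1 : ∀ v, Wk 2 v → τ v ∈ Wh e t 2 hr := fun v => T.mem
  have k2 : ∀ v, Wk 2 v → TT v ∈ GA.Mk (XU n K) 2 := fun v hv => Tc_mem hk hv (star_one K)
  have k3 : ∀ v, Wk 2 v → τ v * t * (τ v)⁻¹ = t * e (TT v) := fun v hv => T.tt v (hv.pp hv hk).l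
  have ua := u1.add (u0 a)
  have ub := u1.add (u0 b)
  have uc := u1.add (u0 (a + b))
  have p1 := mul_mem (k1 _ ua) (k1 _ ub)
  have p2 := mul_mem p1 (k1 _ uc)
  have p3 := Wh.mul p2 (k2 _ (u0 c)) (Wh.mul p1 (k2 _ uc) (Wh.mul (k1 _ ua) (k2 _ ub) (k3 _ ua)
    (k3 _ ub)) (k3 _ uc)) (k3 _ (u0 c))
  rw [five pp01.symm (star_one K) hc] at p3
  have p4 := Wh.mul (k1 _ u1) (k2 _ u1) (k3 _ u1) p3
  rw [Tc_mul_self pp01.r (star_one K), map_one, mul_one] at p4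
  obtain ⟨m, m1, m2⟩ := k0 h hr (eq_mul_of_mul_inv_eq p4).symm
    (mul_mem (k1 _ u1) (mul_mem p2 (k1 _ (u0 c)))).1
  exact ⟨m, m1, m2.elim (fun m2 => ⟨1, Or.inl rfl, by rw [m2, one_mul]⟩) fun m2 => ⟨t, Or.inr rfl, m2⟩⟩

theorem exists_tr (c : K) (hc : c ≠ 0) : ∃ a b : K, tr (a * star b) = nm c ∧ a ≠ 0 ∧ b ≠ 0 ∧ a + b ≠ 0 := by
  obtain ⟨a, ha⟩ := FQ.trs (nm c) (star_nm c)
  have h0 : nm c ≠ 0 := mul_ne_zero hc (by simpa using hc)
  refine ⟨a, 1, by simpa using ha, ?_, one_ne_zero, fun h => h0 ?_⟩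
  · rintro rfl; exact h0 (by simpa using ha.symm)
  · rw [← ha, eq_neg_of_add_eq_zero_left h, tr_eq_zero]; simp

/-- The commutator of `τ e_1` with the five-term product. -/
theorem T0.cm_prod (h : CH e t) (T : T0 e t τ) {κ : K} (hκ : star κ = κ)
    (H : ∀ u v, Pp u v → Li u v → cm (τ u) (τ v) = e (Tc κ u * Tc κ v)) {a b c : K}
    (hc : tr (a * star b) = nm c) (ha : a ≠ 0) (hb : b ≠ 0) (hab : a + b ≠ 0) (h0 : c ≠ 0)
    {m : XU n K} (m1 : m ∈ GA.Mk (XU n K) 2) {s : G} (hs : τ (ev 1) * (τ (ev 1 + a • ev 0) *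
      τ (ev 1 + b • ev 0) * τ (ev 1 + (a + b) • ev 0) * τ (c • ev 0)) = s * e m) :
    cm (τ (ev 1)) s = e (Tc κ (ev 1)) := by
  have h5 := hp.five
  have hr : GA.Rg (XU n K) 2 := GA.rg2
  have hk : 2 * 2 ≤ n + 1 := by omega
  have u1 : Wk 2 (ev 1 : Vn n K) := w1 le_rfl
  have u0 : ∀ a : K, Wk 2 (a • ev 0 : Vn n K) := fun a => (w0 (by omega)).smul a
  have k1 : ∀ v, Wk 2 v → τ v ∈ Wh e t 2 hr := fun v => T.mem
  have k2 : ∀ v, Wk 2 v → Tc κ v ∈ GA.Mk (XU n K) 2 := fun v hv => Tc_mem hk hv hκ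
  have k3 : ∀ x y : K, y ≠ 0 → cm (τ (ev 1)) (τ (x • ev 1 + y • ev 0)) =
      e (Tc κ (ev 1) * Tc κ (x • ev 1 + y • ev 0)) := fun x y hy =>
    H _ _ (u1.pp ((u1.smul x).add (u0 y)) hk) fun r s h1 => by
      obtain ⟨h2, h3⟩ := li_ev (n := n) (s * y) (r + s * x) (by rw [← h1]; module)
      have h4 := (mul_eq_zero.1 h2).resolve_right hy
      exact ⟨by simpa [h4] using h3, h4⟩
  have k4 := fun y hy => k3 1 y hy
  have k5 := k3 0 c h0
  simp only [one_smul, zero_smul, zero_add] at k4 k5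
  have ua := u1.add (u0 a)
  have ub := u1.add (u0 b)
  have uc := u1.add (u0 (a + b))
  have p1 := mul_mem (k1 _ ua) (k1 _ ub)
  have p2 := mul_mem p1 (k1 _ uc)
  have p3 := Wh.cm_mul h (k1 _ u1) (k1 _ u1) (mul_mem p2 (k1 _ (u0 c)))
  rw [hs, Wh.cm_mul h (k1 _ u1) p2 (k1 _ (u0 c)), Wh.cm_mul h (k1 _ u1) p1 (k1 _ uc),
    Wh.cm_mul h (k1 _ u1) (k1 _ ua) (k1 _ ub), k4 a ha, k4 b hb, k4 _ hab, k5, ← map_mul, ← map_mul,
    ← map_mul] at p3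
  have c1 : ∀ v, Wk 2 v → ∀ g, Tc κ v * (Tc κ (ev 1) * g) = Tc κ (ev 1) * (Tc κ v * g) :=
    fun v hv g => by rw [← mul_assoc, GA.Mk_le_Cs hr (k2 _ u1) _ (k2 v hv), mul_assoc]
  have c2 : ∀ g : XU n K, Tc κ (ev 1) * (Tc κ (ev 1) * g) = g := fun g => by
    rw [← mul_assoc, Tc_mul_self pp01.r hκ, one_mul]
  rw [← five pp01.symm hκ hc]
  rw [GA.cm_eq_one.2 rfl, one_mul] at p3
  simp only [mul_assoc, c1 _ ua, c1 _ ub, c1 _ uc, c2] at p3 ⊢
  rw [← p3]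
  nth_rewrite 1 [← Wh.cj (inv_mem (k1 _ u1)) m1]
  rw [show τ (ev 1) * (s * ((τ (ev 1))⁻¹ * e m * (τ (ev 1))⁻¹⁻¹ * ((τ (ev 1))⁻¹ * (s * e m)⁻¹))) =
    τ (ev 1) * (s * ((τ (ev 1))⁻¹ * s⁻¹)) by group]

theorem T0.comm (h : CH e t) (T : T0 e t τ) (H : ∀ u v, Pp u v → Li u v → τ u * τ v = τ v * τ u)
    (u v : Vn n K) (h1 : Pp u v) : τ u * τ v = τ v * τ u := by
  by_cases h2 : Li u v
  · exact H u v h1 h2
  by_cases hu : u = 0
  · simp [hu, T.zero]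
  obtain ⟨c, rfl⟩ := exists_smul_of_not_li hu h2
  by_cases h0 : c = 0
  · simp [h0, T.zero]
  obtain ⟨g, rfl⟩ := FW.w1 u hu h1.l
  rw [← ac_smul, ← T.eqv g _ iso0, ← T.eqv g _ (iso0.smul c), conj_mul, conj_mul]
  congr 2
  obtain ⟨a, b, hc, ha, hb, hab⟩ := exists_tr c h0
  obtain ⟨m, m1, s, s1, s2⟩ := T.prod h hc
  have h3 := T.cm_prod h (star_zero K) (fun u v h1 h2 => by
    simpa [GA.cm_eq_one] using H u v h1 h2) hc ha hb hab h0 m1 s2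
  rcases s1 with rfl | rfl
  swap
  · rw [cm, T.tt _ pp01.r, h.toB1.conj_eq, Tc, EE_zero, map_one] at h3
    exact absurd (e_Tc_eq_one h.ker (ev_ne 1) pp01.r (star_one K) h3) one_ne_zero
  have k1 : ∀ y : K, Commute (τ (ev 0)) (τ (ev 1 + y • ev 0)) := fun y =>
    H _ _ ((w0 (by omega)).pp ((w1 le_rfl).add ((w0 (by omega)).smul y))
      (show 2 * 2 ≤ n + 1 by have := hp.five; omega)) fun r s h1 => by
        obtain ⟨h2, h3⟩ := li_ev (n := n) (r + s * y) s (by rw [← h1]; module)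
        exact ⟨by simpa [h3] using h2, h3⟩
  have k2 : Commute (τ (ev 0)) (e m) :=
    eq_mul_of_mul_inv_eq (Wh.cj (hr := GA.rg2) (T.mem (w0 (by omega))) m1)
  have k3 : Commute (τ (ev 0)) (τ (ev 1)) := by simpa using k1 0
  rw [one_mul, ← mul_assoc] at s2
  rw [← eq_inv_mul_iff_mul_eq.2 s2 |>.symm]
  exact (k3.mul_right (((k1 a).mul_right (k1 b)).mul_right (k1 _))).inv_right.mul_right k2

theorem jobT1 : JobT1.{u} := by
  intro n K _ _ _ _ hp _ _ _ _ _ _ G _ _ e t h c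
  obtain ⟨τ, T⟩ := exists_T0 h c
  obtain ⟨κ, hκ, H⟩ := T.exists_kappa h
  obtain ⟨a, b, hc, ha, hb, hab⟩ := exists_tr (1 : K) one_ne_zero
  obtain ⟨m, m1, s, s1, s2⟩ := T.prod h hc
  have h3 := T.cm_prod h hκ H hc ha hb hab one_ne_zero m1 s2
  rcases s1 with rfl | rfl
  · obtain rfl := e_Tc_eq_one h.ker (ev_ne 1) pp01.r hκ (by simpa [cm] using h3.symm)
    exact ⟨τ, T.zero, T.eqv, T.tt, T.n1, T.comm h fun u v h1 h2 => by
      simpa [GA.cm_eq_one] using H u v h1 h2⟩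
  rw [cm, T.tt _ pp01.r, h.toB1.conj_eq] at h3
  have h4 : κ = 1 := by
    have := e_Tc_eq_one h.ker (ev_ne 1) pp01.r (c := κ + 1) (by simp [hκ]) (by
      rw [Tc_add pp01.r hκ (star_one K), map_mul, ← h3, ← map_mul, Tc_mul_self pp01.r (star_one K),
        map_one])
    linear_combination this - two0 K
  subst h4
  obtain ⟨τ', T', h5⟩ := T.mul_t h
  refine ⟨τ', T'.zero, T'.eqv, T'.tt, T'.n1, T'.comm h fun u v h1 h2 => ?_⟩
  have k : ∀ u v, Pp u v → τ u * s * τ v = e (TT u) * (s * (τ u * τ v)) := fun u v h1 => by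
    rw [eq_mul_of_mul_inv_eq (T.tt u h1.l), h.toB1.comm]; group
  rw [h5 u h2.ne, h5 v h2.symm.ne, ← mul_assoc, ← mul_assoc, k u v h1, k v u h1.symm,
    eq_mul_of_mul_inv_eq (eq_mul_of_mul_inv_eq (H u v h1 h2)), map_mul, mul_assoc (e _ * e _),
    ← mul_assoc s, ← mul_assoc s, h.toB1.comm, mul_assoc (e _) s, h.toB1.comm, ← mul_assoc (e _),
    ← mul_assoc (e _), ← mul_assoc (e _), ← map_mul, Tc_mul_self h1.l (star_one K), map_one, one_mul,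
    mul_assoc (e _) s]

end H67.UA
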