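import Cfsg.Agent.H85.P6.H67_UAT1

namespace H57 end H57
open H57
namespace H67 end H67
open H67
namespace H85.P6

/-! STD-UM: `JobTA`. -/

set_option autoImplicit false
set_option linter.unusedSectionVars false

namespace H67.UA

open H64.SG (O2 Syl Cz Cs Ns cjs Is2 Inv2 UF IsO2 fx mem_Cs mem_Cz is2_of_sq)
open Matrix H57 Subgroup
open H67.SA (SLn Au la St cI cm)
open H67.GA (Ind B1 CE CH CP CW CF)

universe u

/-- the seven-term product -/
def D7 {M A : Type*} [Add M] [Mul A] (f : M → A) (u v w : M) : A :=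
  f u * f v * f w * f (u + v) * f (u + w) * f (v + w) * f (u + v + w)

section Abs

variable {M A : Type*} [AddCommGroup M] [CommGroup A] (f : M → A)

theorem d_s1 (u v w : M) : D7 f u v w = D7 f v u w := by
  simp only [D7, add_comm v u]
  exact Additive.ofMul.injective (by simp only [ofMul_mul]; abel)
theorem d_s2 (u v w : M) : D7 f u v w = D7 f u w v := by
  simp only [D7, add_comm w v, add_right_comm u w v]
  exact Additive.ofMul.injective (by simp only [ofMul_mul]; abel)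
theorem d_t (h : ∀ x : M, x + x = 0) (u v w : M) : D7 f u (v + u) w = D7 f u v w := by
  simp only [D7, show u + (v + u) = v by rw [add_left_comm, h, add_zero]]
  simp only [add_comm v u]
  exact Additive.ofMul.injective (by simp only [ofMul_mul]; abel)
theorem d_r (h : ∀ x : M, x + x = 0) (p x y z : M) :
    D7 f p (x + z) (y + z) * D7 f p x z * D7 f p y z = D7 f p x y * (f p * f p *
      (f (x + z) * f (x + z)) * (f (y + z) * f (y + z)) * (f (p + x + z) * f (p + x + z)) *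
      (f (p + y + z) * f (p + y + z)) * (f z * f z) * (f (p + z) * f (p + z))) := by
  have h1 : x + z + (y + z) = x + y := by rw [add_add_add_comm, h, add_zero]
  simp only [D7, add_assoc p, h1]
  exact Additive.ofMul.injective (by simp only [ofMul_mul]; abel)
variable (h2 : ∀ x, f x * f x = 1)
include h2
theorem d_c (u v w y : M) : D7 f u v w * D7 f u (v + w) y = D7 f u v (w + y) * D7 f u w y := by
  rw [← mul_one (D7 f u v w * _), ← mul_one (D7 f u v (w + y) * _)]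
  nth_rewrite 1 [← mul_one (1 : A)]
  nth_rewrite 3 [← mul_one (1 : A)]
  nth_rewrite 1 [← h2 (w + y), ← h2 (u + (w + y)), ← h2 (v + w), ← h2 (u + (v + w))]
  simp only [D7, add_assoc]
  exact Additive.ofMul.injective (by simp only [ofMul_mul]; abel)
theorem d_z (h0 : f 0 = 1) (v w : M) : D7 f 0 v w = 1 := by
  rw [← mul_one (1 : A)]
  nth_rewrite 1 [← mul_one (1 : A), ← h2 v, ← h2 w, ← h2 (v + w)]
  simp only [D7, zero_add, h0, one_mul]
  exact Additive.ofMul.injective (by simp only [ofMul_mul]; abel)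
theorem d_sig (u v w : M) : f (u + (v + w)) * f u * f (v + w) =
    D7 f u v w * (f (u + v) * f u * f v * (f (u + w) * f u * f w)) := by
  calc _ = f (u + (v + w)) * f u * f (v + w) * (f u * f u) * (f v * f v) * (f w * f w) *
      (f (u + v) * f (u + v)) * (f (u + w) * f (u + w)) := by simp only [h2, mul_one]
    _ = _ := by simp only [D7, add_assoc, mul_comm, mul_left_comm, mul_assoc]

end Abs

variable {n : ℕ} {K : Type} [Field K] [StarRing K] [CharP K 2] [Finite K]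

/-- the double perp of `l` -/
def Sp (l : List (Vn n K)) : AddSubgroup (Vn n K) where
  carrier := {x | ∀ z, (∀ a ∈ l, hf a z = 0) → hf x z = 0}
  zero_mem' := fun _ _ => hf_zero_left _
  add_mem' := fun ha hb z hz => by rw [hf_add_left, ha z hz, hb z hz, add_zero]
  neg_mem' := fun {x} h => by rwa [neg_eq_iff_add_eq_zero.2 (v_add_self x)]

theorem mem_Sp {l : List (Vn n K)} {a : Vn n K} (h : a ∈ l) : a ∈ Sp l := fun _ hz => hz a h
theorem Sp.two {l : List (Vn n K)} (x : Sp l) : x + x = 0 := Subtype.ext (v_add_self x.1)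
theorem Sp.perp {l : List (Vn n K)} (hl : ∀ a ∈ l, ∀ b ∈ l, hf a b = 0) (x y : Sp l) :
    hf x.1 y.1 = 0 := x.2 _ fun a ha => hf_symm (y.2 a fun b hb => hl b hb a ha)
theorem pw4 {u v w y : Vn n K} (h1 : Pp u v) (h2 : Pp u w) (h3 : Pp v w) (h4 : Pp u y) (h5 : Pp v y)
    (h6 : Pp w y) : ∀ a ∈ [u, v, w, y], ∀ b ∈ [u, v, w, y], hf a b = 0 := by
  simp [h1.l, h1.r, h2.r, h4.r, h1.p, h2.p, h3.p, h4.p, h5.p, h6.p, h1.symm.p, h2.symm.p, h3.symm.p,
    h4.symm.p, h5.symm.p, h6.symm.p]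
theorem Pp.add {u v w : Vn n K} (h1 : Pp u v) (h2 : Pp u w) (h3 : Pp v w) : Pp u (v + w) :=
  ⟨h1.l, h3.iso_add, by rw [hf_add_right, h1.p, h2.p, add_zero]⟩
theorem Iso.pp {u : Vn n K} (h : Iso u) : Pp u u := ⟨h, h, h⟩
theorem Pp.smul_right {u v : Vn n K} (h : Pp u v) (a : K) : Pp u (a • v) := by
  simpa using h.smul 1 a

variable [hp : Par n K] [FQ K] [FV n K] [FW n K] [GA.Fa (XU n K)] {G : Type u} [Group G] [Finite G]
  {e : XU n K →* G} {t : G} {τ : Vn n K → G}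

namespace T1

variable (T : T1 e t τ)
include T

theorem t0 : T0 e t τ := ⟨T.zero, T.eqv, T.tt, T.n1⟩

theorem transfer {l : List (Vn n K)} (hl : ∀ a ∈ l, ∀ b ∈ l, hf a b = 0) :
    ∃ (C : Type u) (_ : CommGroup C) (ι : C →* G) (f : Sp l → C), Function.Injective ι ∧
      ∀ v, ι (f v) = τ v.1 := by
  let s : Set G := Set.range fun v : Sp l => τ v.1
  exact ⟨closure s, closureCommGroupOfComm (by
    rintro _ ⟨a, rfl⟩ _ ⟨b, rfl⟩
    exact T.comm _ _ ⟨Sp.perp hl a a, Sp.perp hl b b, Sp.perp hl a b⟩), (closure s).subtype,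
    fun v => ⟨τ v.1, subset_closure ⟨v, rfl⟩⟩, Subtype.val_injective, fun _ => rfl⟩

variable {u v w y : Vn n K}

theorem D_conj (h1 : Pp u v) (h2 : Pp u w) (h3 : Pp v w) (g : XU n K) :
    e g * D7 τ u v w * (e g)⁻¹ = D7 τ (ac g u) (ac g v) (ac g w) := by
  simp only [D7, ← ac_add, ← conj_mul, T.eqv g _ h1.l, T.eqv g _ h1.r, T.eqv g _ h2.r,
    T.eqv g _ h1.iso_add, T.eqv g _ h2.iso_add, T.eqv g _ h3.iso_add,
    T.eqv g _ (h2.symm.add h3.symm h1).symm.iso_add]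

theorem D_perm (h1 : Pp u v) (h2 : Pp u w) (h3 : Pp v w) : D7 τ u v w = D7 τ v u w ∧
    D7 τ u v w = D7 τ u w v ∧ D7 τ u (v + u) w = D7 τ u v w := by
  obtain ⟨C, _, ι, f, -, hF⟩ := T.transfer (pw4 h1 h2 h3 h2 h3 h3.r.pp)
  let a : Sp [u, v, w, w] := ⟨u, mem_Sp (by simp)⟩
  let b : Sp [u, v, w, w] := ⟨v, mem_Sp (by simp)⟩
  let c : Sp [u, v, w, w] := ⟨w, mem_Sp (by simp)⟩
  exact ⟨by have := congrArg ι (d_s1 f a b c); simp only [D7, map_mul, hF] at this; exact this,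
    by have := congrArg ι (d_s2 f a b c); simp only [D7, map_mul, hF] at this; exact this,
    by have := congrArg ι (d_t f Sp.two a b c); simp only [D7, map_mul, hF] at this; exact this⟩

/-- K0 for an element that commutes with `τ e_0` -/
theorem k0' (h : CH e t) {k : ℕ} (hr : GA.Rg (XU n K) k) {w : G} (h1 : w * t * w⁻¹ = t * e 1)
    (h2 : w ∈ Wh e t k hr) (h3 : Commute (τ (ev 0)) w) : ∃ m ∈ GA.Mk (XU n K) k, w = e m := by
  rw [map_one, mul_one] at h1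
  obtain ⟨m, m1, m2 | m2⟩ := k0 h hr (eq_mul_of_mul_inv_eq h1).symm h2.1
  · exact ⟨m, m1, m2⟩
  have h4 : Commute (τ (ev 0)) (e m) := eq_mul_of_mul_inv_eq (Wh.cj (hr := hr) (T.t0.mem (w0 hr.1)) m1)
  have h5 := T.tt _ (iso0 (n := n) (K := K))
  rw [eq_mul_inv_of_mul_eq m2.symm, (h3.mul_right h4.inv_right).eq, mul_inv_cancel_right,
    left_eq_mul] at h5
  exact absurd (e_Tc_eq_one h.ker (ev_ne 0) iso0 (star_one K) h5) one_ne_zero

theorem exists_rho (h : CH e t) : ∃ ρ : K, star ρ = ρ ∧ ∀ v, Iso v → τ v * τ v = e (Tc ρ v) := by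
  have h5 := hp.five
  have h1 := T.t0.mem (hr := GA.rg1) (w0 (n := n) le_rfl)
  obtain ⟨m, m1, m2⟩ := T.k0' h GA.rg1 (Tc_mul_self (iso0 (n := n)) (star_one K) ▸ Wh.mul h1
    (Tc_mem (by omega) (w0 le_rfl) (star_one K)) (T.tt _ iso0) (T.tt _ iso0)) (mul_mem h1 h1)
    ((Commute.refl _).mul_right (Commute.refl _))
  obtain ⟨ρ, hρ, rfl⟩ := (FV.mem_Z m).1 m1
  refine ⟨ρ, hρ, fun v hv => ?_⟩
  by_cases h0 : v = 0
  · simp [h0, T.zero]
  obtain ⟨g, rfl⟩ := FW.w1 v h0 hv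
  rw [← T.eqv g _ iso0, conj_mul, m2, ← Tc_conj iso0 hρ, map_mul, map_mul, map_inv]

theorem D_mem (h : CH e t) (h1 : Wk 3 u) (h2 : Wk 3 v) (h3 : Wk 3 w) :
    ∃ m ∈ GA.Mk (XU n K) 3, D7 τ u v w = e m := by
  have hr := rgk (n := n) K (k := 3) (by omega) le_rfl
  have hk := six (n := n) K
  let P : G → XU n K → Prop := fun a m => a ∈ Wh e t 3 hr ∧ a * t * a⁻¹ = t * e m ∧
    Commute (τ (ev 0)) a
  have k1 : ∀ {v}, Wk 3 v → P (τ v) (TT v) := fun hv =>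
    ⟨T.t0.mem hv, T.tt _ (hv.pp hv hk).l, T.comm _ _ ((w0 (by omega)).pp hv hk)⟩
  have k2 : ∀ {a m v}, P a m → Wk 3 v → P (a * τ v) (m * TT v) := fun ha hv =>
    ⟨mul_mem ha.1 (k1 hv).1, Wh.mul ha.1 (Tc_mem hk hv (star_one K)) ha.2.1 (k1 hv).2.1,
      ha.2.2.mul_right (k1 hv).2.2⟩
  obtain ⟨p1, p2, p3⟩ := k2 (k2 (k2 (k2 (k2 (k2 (k1 h1) h2) h3) (h1.add h2)) (h1.add h3)) (h2.add h3))
    ((h1.add h2).add h3)
  refine T.k0' h hr (p2.trans (congrArg (t * e ·) (ac_ext fun y => ?_))) p1 p3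
  have i : ∀ {x : Vn n K}, Wk 3 x → ∀ y, ac (TT x) y = y + (1 * hf y x) • x := fun hx =>
    ac_Tc (hx.pp hx hk).l (star_one K)
  have j : ∀ {x y : Vn n K}, Wk 3 x → Wk 3 y → hf x y = 0 := fun hx hy => (hx.pp hy hk).p
  simp only [ac_mul, i h1, i h2, i h3, i (h1.add h2), i (h1.add h3), i (h2.add h3),
    i ((h1.add h2).add h3), hf_add_left, hf_add_right, hf_smul_left, j h1 h1, j h1 h2, j h1 h3, j h2 h1,
    j h2 h2, j h2 h3, j h3 h1, j h3 h2, j h3 h3, mul_zero, add_zero, ac_one, one_mul]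
  ext r
  simp only [Pi.add_apply, Pi.smul_apply, smul_eq_mul]
  linear_combination (hf y u * (2 * u r + v r + w r) + hf y v * (u r + 2 * v r + w r) +
    hf y w * (u r + v r + 2 * w r)) * two0 K

theorem inv_of (h : CH e t) {m g : XU n K} (m1 : m ∈ GA.Mk (XU n K) 3)
    (h1 : e g * e m * (e g)⁻¹ = e m) (x y : Vn n K) : hf (ac m (ac g x)) (ac g y) = hf (ac m x) y := by
  have hr := rgk (n := n) K (k := 3) (by omega) le_rfl
  rw [← ac_mul, eq_mul_of_mul_inv_eq (e_inj h.ker hr m1 g (GA.FB.sqM 3 hr m m1)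
    (by rw [map_mul, map_mul, map_inv, h1])) |>.symm, ac_mul, hf_ac]

theorem D_ent (h : CH e t) {m : XU n K} (m1 : m ∈ GA.Mk (XU n K) 3) (h1 : Pp u v) (h2 : Pp u w)
    (h3 : Pp v w) (m2 : D7 τ u v w = e m) {a b c : Vn n K} (k1 : Pp b u) (k2 : hf v b = 1)
    (k3 : hf w b = 0) (k4 : hf a u = 1) (k5 : hf a b = 0) (k6 : hf c u = 0) (k7 : hf c b = 0) :
    hf (ac m b) b = 0 ∧ hf (ac m b) c = 0 := by
  have h4 := T.inv_of h m1 (g := qq u b) (by
    rw [← m2, T.D_conj h1 h2 h3, ac_qq k1, ac_qq k1, ac_qq k1, k2, k3, h1.l, h1.symm.p, h2.symm.p,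
      k1.symm.p]
    simpa using (T.D_perm h1 h2 h3).2.2) a
  have h5 := h4 b
  have h6 := h4 c
  simp only [ac_qq k1, k4, k5, k6, k7, k1.p, show hf b b = 0 from k1.l, zero_smul, one_smul, add_zero,
    ac_add, hf_add_left, add_eq_left] at h5 h6
  exact ⟨h5, h6⟩

theorem D_li3 (h : CH e t) (h1 : Pp u v) (h2 : Pp u w) (h3 : Pp v w) (h4 : Li3 u v w) :
    D7 τ u v w = 1 := by
  obtain ⟨g, a, ha, rfl, rfl, rfl⟩ := FW.w3 u v w h1 h2 h3 h4
  have p1 := pp01 (n := n) (K := K)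
  have p2 := (pp02 (n := n) (K := K)).smul_right a
  have p3 := (pp12 (n := n) (K := K)).smul_right a
  rw [← T.D_conj p1 p2 p3, conj_eq_one_iff]
  obtain ⟨m, m1, m2⟩ := T.D_mem h (w0 (by omega)) (w1 (by omega)) ((w2 le_rfl).smul a)
  rw [m2, Mk_ext (six K) m1 (one_mem _) fun i j hi hj => ?_, map_one]
  have hs : star a ≠ 0 := by simpa using ha
  have i0 := l0 (n := n)
  have i1 := l1 (n := n) K
  have i2 := l2 (n := n) K
  have z1 : ∀ {i j : Fin (n + 1)}, i.val < 3 → j.val < 3 → hf (ev i.rev : Vn n K) (ev j.rev) = 0 :=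
    fun hi hj => by rw [hf_ev, Fin.rev_rev, if_neg (ir (K := K) hi hj).symm]
  have z2 : ∀ i j : Fin (n + 1), hf (ev i : Vn n K) (ev j.rev) = if j = i then 1 else 0 :=
    fun i j => by simp only [hf_ev, Fin.rev_inj]
  have z3 : ∀ i j : Fin (n + 1), hf (ev i.rev : Vn n K) (ev j) = if j = i then 1 else 0 :=
    fun i j => by simp only [hf_ev, Fin.rev_rev]
  have n1 := ne01 (n := n) (K := K)
  have n2 := ne02 (n := n) (K := K)
  have n3 := ne12 (n := n) (K := K)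
  have s1 := (T.D_perm p1 p2 p3).1
  have s2 := (T.D_perm p1 p2 p3).2.1
  have s3 := (T.D_perm p1.symm p3 p2).2.1
  have s4 := (T.D_perm p2 p1 p3.symm).1
  have s5 := (T.D_perm p3 p1.symm p2.symm).1
  obtain ⟨b0, hb0⟩ : ∃ b : Vn n K, b = ev (Fin.rev 0) := ⟨_, rfl⟩
  obtain ⟨b1, hb1⟩ : ∃ b : Vn n K, b = ev (Fin.rev 1) := ⟨_, rfl⟩
  obtain ⟨b2, hb2⟩ : ∃ b : Vn n K, b = (star a)⁻¹ • ev (Fin.rev 2) := ⟨_, rfl⟩
  have E := @T1.D_ent n K _ _ _ _ _ _ _ _ _ G _ _ e t τ T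
  have H : ∀ {P : Prop}, (Iso b0 → Iso b1 → Iso b2 → P) → P := fun H => H
    (by rw [hb0]; exact z1 i0 i0) (by rw [hb1]; exact z1 i1 i1) (by rw [hb2]; exact Iso.smul (z1 i2 i2) _)
  refine H fun j0 j1 j2 => ?_
  have e1 := E h m1 p1 p2 p3 m2 (a := b0) (b := b1) (c := b2) ⟨j1, p1.l, ?_⟩ ?_ ?_ ?_ ?_ ?_ ?_
  have e2 := E h m1 p2 p1 p3.symm (s2 ▸ m2) (a := b0) (b := b2) (c := b1) ⟨j2, p1.l, ?_⟩ ?_ ?_ ?_ ?_ ?_ ?_
  have e3 := E h m1 p1.symm p3 p2 (s1 ▸ m2) (a := b1) (b := b0) (c := b2) ⟨j0, p1.r, ?_⟩ ?_ ?_ ?_ ?_ ?_ ?_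
  have e4 := E h m1 p3 p1.symm p2.symm (s3 ▸ s1 ▸ m2) (a := b1) (b := b2) (c := b0) ⟨j2, p1.r, ?_⟩
    ?_ ?_ ?_ ?_ ?_ ?_
  have e5 := E h m1 p2.symm p3.symm p1 (s4 ▸ s2 ▸ m2) (a := b2) (b := b0) (c := b1) ⟨j0, p2.r, ?_⟩
    ?_ ?_ ?_ ?_ ?_ ?_
  have e6 := E h m1 p3.symm p2.symm p1.symm (s5 ▸ s3 ▸ s1 ▸ m2) (a := b2) (b := b1) (c := b0)
    ⟨j1, p2.r, ?_⟩ ?_ ?_ ?_ ?_ ?_ ?_
  · have key : ∀ i : Fin (n + 1), i.val < 3 → i = 0 ∨ i = 1 ∨ i = 2 := fun i hi => by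
      rw [Fin.ext_iff, Fin.ext_iff, Fin.ext_iff, v1 K, v2 K, Fin.val_zero]; omega
    simp only [hb0, hb1, hb2, ac_smul, hf_smul_left, hf_smul_right, mul_eq_zero, inv_eq_zero,
      star_eq_zero, ha, false_or] at e1 e2 e3 e4 e5 e6
    rw [ac_one, z1 hj hi]
    rcases key i hi with rfl | rfl | rfl <;> rcases key j hj with rfl | rfl | rfl <;> tauto
  all_goals simp only [hb0, hb1, hb2, hf_smul_left, hf_smul_right, z1 i0 i1, z1 i0 i2, z1 i1 i0,
    z1 i1 i2, z1 i2 i0, z1 i2 i1, z2, z3, n1, n2, n3, n1.symm, n2.symm, n3.symm, if_true, if_false,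
    mul_zero, mul_one, star_inv₀, star_star, inv_mul_cancel₀ ha, mul_inv_cancel₀ hs,
    mul_inv_cancel₀ ha, inv_mul_cancel₀ hs]

theorem D_line (h : CH e t) {ρ : K} (hρ : star ρ = ρ) (hs : ∀ v, Iso v → τ v * τ v = e (Tc ρ v))
    {a b : K} (ha : a ≠ 0) (hb : b ≠ 0) (hab : a ≠ b) :
    ρ = 0 ∧ D7 τ (ev 1) (a • ev 0) (b • ev 0) = 1 := by
  have hk := six (n := n) K
  have u0 : ∀ a : K, Wk 3 (a • ev 0 : Vn n K) := fun a => (w0 (by omega)).smul a
  have u1 : Wk 3 (ev 1 : Vn n K) := w1 (by omega)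
  have u2 : Wk 3 (ev 2 : Vn n K) := w2 le_rfl
  have P : ∀ {x y : Vn n K}, Wk 3 x → Wk 3 y → Pp x y := fun hx hy => hx.pp hy hk
  obtain ⟨C, _, ι, f, -, hF⟩ := T.transfer
    (pw4 (P u1 (u0 a)) (P u1 (u0 b)) (P (u0 a) (u0 b)) (P u1 u2) (P (u0 a) u2) (P (u0 b) u2))
  have h1 := congrArg ι (d_r f Sp.two ⟨ev 1, mem_Sp (by simp)⟩ ⟨a • ev 0, mem_Sp (by simp)⟩
    ⟨b • ev 0, mem_Sp (by simp)⟩ ⟨ev 2, mem_Sp (by simp)⟩)
  simp only [D7, map_mul, hF] at h1
  change D7 τ (ev 1) (a • ev 0 + ev 2) (b • ev 0 + ev 2) * D7 τ (ev 1) (a • ev 0) (ev 2) *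
    D7 τ (ev 1) (b • ev 0) (ev 2) = D7 τ (ev 1) (a • ev 0) (b • ev 0) * (τ (ev 1) * τ (ev 1) *
      (τ (a • ev 0 + ev 2) * τ (a • ev 0 + ev 2)) * (τ (b • ev 0 + ev 2) * τ (b • ev 0 + ev 2)) *
      (τ (ev 1 + a • ev 0 + ev 2) * τ (ev 1 + a • ev 0 + ev 2)) *
      (τ (ev 1 + b • ev 0 + ev 2) * τ (ev 1 + b • ev 0 + ev 2)) * (τ (ev 2) * τ (ev 2)) *
      (τ (ev 1 + ev 2) * τ (ev 1 + ev 2))) at h1
  have l1 : ∀ c : K, c ≠ 0 → D7 τ (ev 1) (c • ev 0) (ev 2) = 1 := fun c hc =>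
    T.D_li3 h (P u1 (u0 c)) (P u1 u2) (P (u0 c) u2) fun r s q h1 => by
      obtain ⟨h2, h3, h4⟩ := li3_ev (n := n) (s * c) r q (by rw [← h1]; module)
      exact ⟨h3, (mul_eq_zero.1 h2).resolve_right hc, h4⟩
  have va := (u0 a).add u2
  have vb := (u0 b).add u2
  have wa := (u1.add (u0 a)).add u2
  have wb := (u1.add (u0 b)).add u2
  have wc := u1.add u2
  rw [l1 a ha, l1 b hb, T.D_li3 h (P u1 va) (P u1 vb) (P va vb) fun r s q h1 => by
      obtain ⟨h2, h3, h4⟩ := li3_ev (n := n) (s * a + q * b) r (s + q) (by rw [← h1]; module)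
      have h5 : q = 0 := (mul_eq_zero.1 (show q * (a - b) = 0 by
        linear_combination a * h4 - h2)).resolve_right (sub_ne_zero.2 hab)
      exact ⟨h3, by simpa [h5] using h4, h5⟩,
    hs _ (P u1 u1).l, hs _ (P va va).l, hs _ (P vb vb).l, hs _ (P wa wa).l, hs _ (P wb wb).l,
    hs _ (P u2 u2).l, hs _ (P wc wc).l] at h1
  simp only [← map_mul, one_mul] at h1
  have M : ∀ {x : Vn n K}, Wk 3 x → Tc ρ x ∈ GA.Mk (XU n K) 3 := fun hx => Tc_mem hk hx hρ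
  have i0 := l0 (n := n)
  have i1 := UA.l1 (n := n) K
  have i2 := l2 (n := n) K
  have n1 := ne01 (n := n) (K := K)
  have n2 := ne02 (n := n) (K := K)
  have n3 := ne12 (n := n) (K := K)
  have I := @ir n K _ _ _
  have q1 : Pp (ev (Fin.rev 2) : Vn n K) (ev 0) :=
    pp_ev (by rw [Fin.rev_rev]; exact (I i2 i2).symm) (I i0 i0) (by rwa [Fin.rev_rev])
  have h2 := T.inv_of h (mul_mem (mul_mem (mul_mem (mul_mem (mul_mem (mul_mem (M u1) (M va)) (M vb))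
    (M wa)) (M wb)) (M u2)) (M wc)) (g := qq (ev 0) (ev (Fin.rev 2))) (by
      rw [← inv_eq_of_mul_eq_one_right h1.symm, ← conj_inv,
        T.D_conj (P u1 (u0 a)) (P u1 (u0 b)) (P (u0 a) (u0 b))]
      simp only [ac_qq q1, hf_smul_left, hf_ev, Fin.rev_inj, I i0 i0, I i0 i1, n2.symm, n3.symm,
        if_false, zero_smul, add_zero, mul_zero]) (ev (Fin.rev 0)) (ev (Fin.rev 1))
  have i : ∀ {x : Vn n K}, Wk 3 x → ∀ y, ac (Tc ρ x) y = y + (ρ * hf y x) • x := fun hx =>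
    ac_Tc (P hx hx).l hρ
  simp only [ac_qq q1, hf_ev, Fin.rev_rev, if_true, one_smul, (I i0 i2).symm, (I i1 i2).symm, n1,
    if_false, zero_smul, add_zero, ac_add, hf_add_left, add_eq_left] at h2
  simp only [ac_mul, i u1, i va, i vb, i wa, i wb, i u2, i wc, hf_add_left, hf_add_right,
    hf_smul_left, hf_smul_right, hf_ev, Fin.rev_rev, Fin.rev_inj, I i0 i0, I i0 i1, I i0 i2, I i1 i0,
    I i1 i1, I i1 i2, I i2 i0, I i2 i1, I i2 i2, (I i2 i1).symm, n1, n2, n3, n1.symm, n2.symm, n3.symm,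
    if_true, if_false, mul_zero, mul_one, add_zero, zero_add] at h2
  obtain rfl : ρ = 0 := by linear_combination h2 - ρ * two0 K
  exact ⟨rfl, by simpa using h1.symm⟩

theorem sq' (h : CH e t) (v : Vn n K) (hv : Iso v) : τ v * τ v = 1 := by
  obtain ⟨ρ, hρ, hs⟩ := T.exists_rho h
  obtain ⟨a, a1, a2⟩ := FQ.n1 (K := K)
  obtain rfl := (T.D_line h hρ hs (by rintro rfl; simp at a1) one_ne_zero a2).1
  simpa using hs v hv

theorem D_abs (h : CH e t) (h1 : Pp u v) (h2 : Pp u w) (h3 : Pp v w) (h4 : Pp u y) (h5 : Pp v y)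
    (h6 : Pp w y) :
    D7 τ u v w * D7 τ u (v + w) y = D7 τ u v (w + y) * D7 τ u w y ∧ D7 τ 0 v w = 1 ∧
      sig τ (v + w) u = D7 τ u v w * (sig τ v u * sig τ w u) := by
  have p := pw4 h1 h2 h3 h4 h5 h6
  obtain ⟨C, _, ι, f, hi, hF⟩ := T.transfer p
  have f2 : ∀ x, f x * f x = 1 := fun x => hi (by rw [map_mul, hF, map_one, T.sq' h _ (Sp.perp p x x)])
  have f0 : f 0 = 1 := hi (by rw [hF, map_one]; exact T.zero)
  let a : Sp [u, v, w, y] := ⟨u, mem_Sp (by simp)⟩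
  let b : Sp [u, v, w, y] := ⟨v, mem_Sp (by simp)⟩
  let c : Sp [u, v, w, y] := ⟨w, mem_Sp (by simp)⟩
  let d : Sp [u, v, w, y] := ⟨y, mem_Sp (by simp)⟩
  exact ⟨by have := congrArg ι (d_c f f2 a b c d); simp only [D7, map_mul, hF] at this; exact this,
    by have := congrArg ι (d_z f f2 f0 b c); simp only [D7, map_mul, hF, map_one] at this; exact this,
    by have := congrArg ι (d_sig f f2 a b c); simp only [D7, map_mul, hF] at this; exact this⟩

theorem D_zero (h : CH e t) (h3 : Pp v w) : D7 τ 0 v w = 1 :=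
  (T.D_abs h h3.l.pp h3 h3 h3 h3 h3.r.pp).2.1

theorem D_dep (h : CH e t) (h1 : Pp u v) (h4 : Pp u y) (h5 : Pp v y)
    (hy : ∀ a b d : K, a • u + b • v = d • y → d = 0) : D7 τ u v y = 1 := by
  have two : ∀ x z : Vn n K, x + z = 0 → x = z := fun x z hx => by
    rw [eq_neg_of_add_eq_zero_left hx, neg_eq_iff_add_eq_zero.2 (v_add_self z)]
  by_cases h2 : Li u v
  · refine T.D_li3 h h1 h4 h5 fun a b c h3 => ?_
    obtain rfl := hy a b c (two _ _ h3)
    exact ⟨(h2 a b (by simpa using h3)).1, (h2 a b (by simpa using h3)).2, rfl⟩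
  by_cases hu : u = 0
  · rw [hu]; exact T.D_zero h h5
  obtain ⟨c, rfl⟩ := exists_smul_of_not_li hu h2
  have z : ∀ {x : Vn n K}, Iso x → Pp x 0 := fun hx => ⟨hx, hf_zero_left _, hf_zero_right _⟩
  by_cases h0 : c = 0
  · rw [h0, zero_smul, (T.D_perm (z h4.l) h4 (z h4.r).symm).1]; exact T.D_zero h h4
  by_cases h3 : c = 1
  · rw [h3, one_smul, ← zero_add u, add_comm 0 u]
    nth_rewrite 1 [add_zero]
    rw [add_comm u 0, (T.D_perm (z h4.l) h4 (z h4.r).symm).2.2, (T.D_perm (z h4.l) h4 (z h4.r).symm).1]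
    exact T.D_zero h h4
  obtain ⟨g, rfl, rfl⟩ := FW.w2 u y h4 fun a b h6 => by
    obtain rfl := hy a 0 b (two _ _ (by simpa using h6))
    exact ⟨(smul_eq_zero.1 (by simpa using h6)).resolve_right hu, rfl⟩
  obtain ⟨ρ, hρ, hs⟩ := T.exists_rho h
  have h6 := (T.D_line h hρ hs one_ne_zero h0 (Ne.symm h3)).2
  rw [one_smul] at h6
  rw [(T.D_perm h1 h4 h5).2.1, (T.D_perm h4 h1 h5.symm).1, ← ac_smul,
    ← T.D_conj pp01.symm (pp01.symm.smul_right c) ((iso0.pp).smul_right c), h6]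
  simp

theorem sadd' (h : CH e t) (h1 : Pp u v) (h2 : Pp u w) (h3 : Pp v w) :
    sig τ (v + w) u = sig τ v u * sig τ w u := by
  rw [(T.D_abs h h1 h2 h3 h2 h3 h3.r.pp).2.2]
  suffices D7 τ u v w = 1 by rw [this, one_mul]
  by_cases h4 : Li3 u v w
  · exact T.D_li3 h h1 h2 h3 h4
  obtain ⟨y, y1, y2, y3, y4⟩ := FW.ext3 u v w h1 h2 h3 h4
  have h5 := (T.D_abs h h1 h2 h3 y1 y2 y3).1
  rwa [T.D_dep h (h1.add h2 h3) y1 (y2.symm.add y3.symm h3).symm fun a b d h => y4 a b b d (by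
      rw [← h]; module),
    T.D_dep h h1 (h2.add y1 y3) (h3.add y2 y3) fun a b d h => y4 a b (-d) d (by
      rw [h]; module),
    T.D_dep h h2 y1 y3 fun a b d h => y4 a 0 b d (by rw [← h]; module), mul_one, mul_one] at h5

theorem sig_symm (h1 : Pp u v) : sig τ v u = sig τ u v := by
  rw [sig, sig, add_comm, mul_assoc, T.comm u v h1, mul_assoc]

end T1

theorem jobTA : JobTA.{u} := by
  intro n K _ _ _ _ hp _ _ _ _ _ _ G _ _ e t h τ T
  have z1 : ∀ u, Iso u → sig τ 0 u = 1 := fun u hu => by rw [sig, add_zero, T.sq' h u hu, T.zero, one_mul]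
  have z : ∀ {x : Vn n K}, Iso x → Pp x 0 := fun hx => ⟨hx, hf_zero_left _, hf_zero_right _⟩
  let R : Subring K :=
    { carrier := {a | ∀ u v, Pp u v → sig τ (a • v) u = sig τ v (star a • u)}
      one_mem' := fun u v h1 => by rw [star_one, one_smul, one_smul, T.sig_symm h1, T.sig_symm h1.symm]
      mul_mem' := fun {a b} ha hb u v h1 => by
        rw [mul_smul, ha u _ (h1.smul_right b), hb _ _ (h1.symm.smul_right _).symm, smul_smul,
          star_mul]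
      zero_mem' := fun u v h1 => by
        rw [star_zero, zero_smul, zero_smul, z1 u h1.l, T.sig_symm (z h1.r).symm, z1 v h1.r]
      add_mem' := fun {a b} ha hb u v h1 => by
        rw [add_smul, T.sadd' h (h1.smul_right a) (h1.smul_right b) (h1.r.pp.smul a b), ha u v h1,
          hb u v h1, star_add, add_smul, T.sig_symm (h1.symm.smul_right _).symm,
          T.sig_symm (h1.symm.smul_right _).symm, ← T.sadd' h (h1.symm.smul_right _)
            (h1.symm.smul_right _) (h1.l.pp.smul _ _), T.sig_symm ((h1.symm.smul_right _).add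
              (h1.symm.smul_right _) (h1.l.pp.smul _ _))]
      neg_mem' := fun {a} ha => by rwa [CharTwo.neg_eq] }
  have hR : R = ⊤ := FQ.core R fun a ha u v h1 => by
    have h2 : nm (star a) = 1 := by rw [nm, star_star, mul_comm]; exact ha
    rw [sig, sig, T.n1 a v ha h1.r, T.n1 _ u h2 h1.l, ← T.n1 _ _ h2 (h1.smul_right a).iso_add, smul_add,
      smul_smul, mul_comm (star a), show a * star a = 1 from ha, one_smul]
  have sc : ∀ (a : K) u v, Pp u v → sig τ (a • v) u = sig τ v (star a • u) := fun a =>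
    (hR ▸ Subring.mem_top a : a ∈ R)
  refine ⟨T, T.sq' h, fun a b u ha hb hu => ?_, fun u v w => T.sadd' h, sc⟩
  by_cases h0 : b = 0
  · simp [h0, T.zero]
  have hv := hu.smul b
  obtain ⟨c, hc⟩ := FQ.trs (a / b) (by rw [star_div₀, ha, hb])
  have h1 : sig τ ((a / b) • b • u) (b • u) = 1 := by
    rw [← hc, tr, add_smul, T.sadd' h (hv.pp.smul_right _) (hv.pp.smul_right _) (hv.pp.smul _ _),
      sc (star c) _ _ hv.pp, star_star, T.sig_symm (hv.pp.smul_right c).symm,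
      ← T.sadd' h (hv.pp.smul_right _) (hv.pp.smul_right _) (hv.pp.smul _ _), v_add_self, z1 _ hv]
  rw [smul_smul, div_mul_cancel₀ _ h0, sig, ← add_smul, add_comm b, mul_assoc] at h1
  rw [eq_inv_of_mul_eq_one_left h1, _root_.mul_inv_rev, inv_eq_of_mul_eq_one_right (T.sq' h _ hv),
    inv_eq_of_mul_eq_one_right (T.sq' h _ (hu.smul a))]

end H67.UA
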