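/- STD-SP chapter I (S3129), slot R1: recognition of the orthogonal group by Tits' lemma. -/
import Cfsg.Agent.H85.P6.H86_SPIKit

namespace H56 end H56
open H56
namespace H58 end H58
open H58
namespace H81 end H81
open H81
namespace H85.P6


set_option autoImplicit false
set_option linter.unusedSectionVars false

namespace H81.SPIR1

open H67.UA hiding Par
open H67.SP H86.SPI
open H59.SO (Om E gam Ind)
open H56 H58 QuadraticMap

universe u

variable {n : ℕ} {F : Type} [Field F] [StarRing F] [TrivialStar F] [CharP F 2] [Finite F] [Par n F]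
  {G : Type u} [Group G] {e : XU n F →* G} {t : G} {δ : F} {y : Vn n F → G}

theorem lf_zero : lf (0 : Vn n F) = 0 := lf_of q0_zero

theorem polar_lf_w1 (δ : F) {x : Vn n F} (h : q0 x = 0) :
    polar (QD n F δ) (lf x) (w1 n F) = 0 := by
  rw [polar_QD, lf_of h]; simp [w1]

theorem Ew_w0 (δ : F) {x : Vn n F} (h : q0 x = 0) : (Ew δ x).1 (w0 n F) = w0 n F + lf x := by
  rw [H59.SO.E_apply (QD_lf δ x) (polar_lf_w1 δ h)]
  simp [polar_QD, w0, w1, lf]

/-- The points. -/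
abbrev Pt (n : ℕ) (F : Type) [Field F] [StarRing F] [TrivialStar F] [CharP F 2] [Finite F]
    (δ : F) : Type := {w : WW n F // QD n F δ w = 1}

instance act (δ : F) (G : Type u) [Group G] : MulAction (Om (QD n F δ) × G) (Pt n F δ) where
  smul g w := ⟨g.1.1 w.1, (O.map_Q _ _).trans w.2⟩
  one_smul _ := rfl
  mul_smul _ _ _ := rfl

theorem act_val (g : Om (QD n F δ) × G) (w : Pt n F δ) : (g • w).1 = g.1.1 w.1 := rfl

variable (e δ) in
noncomputable def jj : XU n F →* Om (QD n F δ) × G := (iO n F δ).prod e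

variable (δ y) in
noncomputable def ss (x : Vn n F) : Om (QD n F δ) × G := (Ew δ x, y x)

variable (n δ) in
def oo : Pt n F δ := ⟨w0 n F, QD_w0 δ⟩

variable (e δ y) in
def DD' : Set (Om (QD n F δ) × G) :=
  {g | ∃ h x k, q0 x = 0 ∧ g = jj e δ h * ss δ y x * jj e δ k}

theorem ss_zero (h : Fam3 e t δ y) : ss δ y 0 = 1 :=
  Prod.ext (by simp [ss, Ew, lf_zero]) h.zero

theorem ss_mul (hI : MI n F) (h : Fam3 e t δ y) {x x' : Vn n F} (h1 : q0 x = 0) (h2 : q0 x' = 0)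
    (h3 : hf x x' = 0) : ss δ y x * ss δ y x' = ss δ y (x + x') * jj e δ (qq (δ • x') x) := by
  refine Prod.ext ?_ (h.tri x x' h1 h2 h3)
  have h4 : q0 (x + x') = 0 := by rw [q0_add, h1, h2, h3]; simp
  have h5 := hI.ee δ x (δ • x') 0 (by rw [hf_smul_left, hf_symm h3, mul_zero])
  rw [q0_smul, h2, mul_zero, zero_add, zero_pow two_ne_zero] at h5
  have h6 : lf (x + x') = lf x + lf x' := by rw [lf_of h1, lf_of h2, lf_of h4]; simp
  have h7 : ((δ • x', 0, 0) : WW n F) = QD n F δ (w1 n F) • lf x' := by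
    rw [QD_w1, lf_of h2]; simp
  change Ew δ x * Ew δ x' = Ew δ (x + x') * iO n F δ (EE x (δ • x') 0)
  rw [h5, h7, Ew, Ew, Ew, h6, H59.SO.E_add_left (QD_lf δ x) (QD_lf δ x')
    (by rw [polar_QD]; simp [lf, h3]) (polar_lf_w1 δ h1) (polar_lf_w1 δ h2), mul_assoc,
    H59.SO.E_sq, mul_one]

theorem ss_sq (hI : MI n F) (h : Fam3 e t δ y) {x : Vn n F} (h1 : q0 x = 0) :
    ss δ y x * ss δ y x = 1 := by
  rw [ss_mul hI h h1 h1 (hf_self x), v_add_self, ss_zero h, qq_dep, map_one, mul_one]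

theorem ss_inv (hI : MI n F) (h : Fam3 e t δ y) {x : Vn n F} (h1 : q0 x = 0) :
    (ss δ y x)⁻¹ = ss δ y x := inv_eq_of_mul_eq_one_left (ss_sq hI h h1)

theorem ss_act (hT : MT n F) (h : Fam3 e t δ y) {x : Vn n F} (h1 : q0 x = 0) {p : XU n F}
    (hp : ac p x = x) : ss δ y x * jj e δ p * (ss δ y x)⁻¹ = jj e δ (th x p) := by
  refine Prod.ext ?_ (h.act x p h1 hp)
  change Ew δ x * iO n F δ p * (Ew δ x)⁻¹ = iO n F δ (th x p)
  rw [hT.io δ x p h1 hp, H59.SO.E_inv]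

theorem ss_eqv (hI : MI n F) (h : Fam3 e t δ y) {x : Vn n F} (h1 : q0 x = 0) {g : XU n F}
    (hg : g ∈ X0 n F) : jj e δ g * ss δ y x * (jj e δ g)⁻¹ = ss δ y (ac g x) := by
  refine Prod.ext ?_ (h.eqv g hg x h1)
  change iO n F δ g * Ew δ x * (iO n F δ g)⁻¹ = Ew δ (ac g x)
  rw [H59.SO.E_conj, hI.lf, hI.ind, mem_X0.1 hg]

theorem move (hI : MI n F) (hT : MT n F) (hW : MW n F) (h : Fam3 e t δ y) {x x' : Vn n F}
    (h1 : q0 x = 0) (h2 : q0 x' = 0) {p : XU n F} (hp : ac p x' = x) :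
    ∃ r, jj e δ p * ss δ y x' = ss δ y x * jj e δ r := by
  by_cases h0 : x' = 0
  · subst h0
    rw [ac_zero] at hp
    subst hp
    exact ⟨p, by rw [ss_zero h, mul_one, one_mul]⟩
  have h3 : x ≠ 0 := fun k => h0 (ac_inj p (by rw [hp, k, ac_zero]))
  obtain ⟨g, hg, hx⟩ := hW.wt1 x' x h2 h0 h1 h3
  have h4 : ac (p * g⁻¹) x = x := by rw [ac_mul, ← hx, ac_inv_ac, hp, hx]
  refine ⟨th x (p * g⁻¹) * g, ?_⟩
  have h5 := ss_eqv hI h h2 hg
  rw [hx] at h5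
  rw [map_mul, ← ss_act hT h h1 h4, ss_inv hI h h1, ← mul_assoc, ← mul_assoc, ← mul_assoc,
    ss_sq hI h h1, one_mul, ← h5, map_mul, map_inv]
  group

theorem jj_o (hI : MI n F) (h : XU n F) : jj e δ h • oo n δ = oo n δ :=
  Subtype.ext (hI.isIo δ h).1

theorem dd_o (hI : MI n F) (h k : XU n F) {x : Vn n F} (h1 : q0 x = 0) :
    ((jj e δ h * ss δ y x * jj e δ k) • oo n δ).1 = w0 n F + lf (ac h x) := by
  rw [mul_smul, jj_o hI, mul_smul]
  change (iO n F δ h).1 ((Ew δ x).1 (w0 n F)) = _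
  rw [Ew_w0 δ h1, map_add, (hI.isIo δ h).1, hI.lf]

theorem jj_mem (h : Fam3 e t δ y) (g : XU n F) : jj e δ g ∈ DD' e δ y :=
  ⟨g, 0, 1, q0_zero, by rw [ss_zero h, map_one, mul_one, mul_one]⟩

theorem tits (h0 : JobR0.{u}) (hI : MI n F) (hT : MT n F) (hW : MW n F) (h : Fam3 e t δ y) :
    (∀ g ∈ Subgroup.closure (DD' e δ y), g • oo n δ = oo n δ → g ∈ (jj e δ).range) ∧
      ∀ w, ∃ g ∈ Subgroup.closure (DD' e δ y), g • oo n δ = w := by
  refine h0 _ (Pt n F δ) (fun a b => polar (QD n F δ) a.1 b.1 = 0) (oo n δ) _ _ ?_ ?_ ?_ ?_ ?_ ?_ ?_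
    ?_ ?_ ?_ ?_
  · intro a b k
    rwa [polar_comm]
  · intro g a b k
    rwa [act_val, act_val, O.map_polar]
  · intro a b c
    obtain ⟨w, k0, k1, k2, k3, k4⟩ := hW.perp δ a.1 b.1 c.1
    exact ⟨⟨w, k0⟩, k1, k2, k3, k4⟩
  · rintro _ ⟨g, rfl⟩
    exact jj_o hI g
  · rintro _ ⟨g, rfl⟩
    exact jj_mem h g
  · rintro _ ⟨a, x, k, h1, rfl⟩ _ ⟨g, rfl⟩
    exact ⟨a, x, k * g, h1, by rw [map_mul, mul_assoc]⟩
  · rintro _ ⟨a, x, k, h1, rfl⟩
    exact ⟨k⁻¹, x, a⁻¹, h1, by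
      rw [mul_inv_rev, mul_inv_rev, ss_inv hI h h1, map_inv, map_inv, mul_assoc]⟩
  · rintro _ ⟨a, x, k, h1, rfl⟩
    rw [dd_o hI a k h1, polar_QD]
    simp [oo, w0, lf]
  · rintro ⟨⟨v, a, b⟩, hw⟩ k
    have hb : b = 0 := by simpa [polar_QD, oo, w0] using k
    subst hb
    obtain ⟨g, h1, -⟩ := hW.sp v v (hf_self v)
    refine ⟨_, ⟨g⁻¹, ac g v, 1, h1, rfl⟩, Subtype.ext ?_⟩
    rw [dd_o hI _ _ h1, ac_inv_ac]
    rw [QD_apply] at hw
    have : 1 + rt (q0 v) = a := sq_inj (by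
      rw [CharTwo.add_sq, rt_sq]
      linear_combination -hw + (q0 v) * two0 F)
    simp [w0, lf, this]
  · rintro _ ⟨a, x, k, h1, rfl⟩ _ ⟨a', x', k', h2, rfl⟩ hd
    have h3 := congrArg (fun w : Pt n F δ => w.1.1) hd
    simp only [dd_o hI _ _ h1, dd_o hI _ _ h2, w0, lf, Prod.fst_add, zero_add] at h3
    obtain ⟨r, hr⟩ := move hI hT hW h h1 h2 (p := a⁻¹ * a') (by rw [ac_mul, ← h3, ac_inv_ac])
    refine ⟨k⁻¹ * r * k', ?_⟩
    rw [map_mul, map_inv] at hr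
    rw [map_mul, map_mul, map_inv, ← inv_mul_cancel_left (ss δ y x) (jj e δ r), ← hr]
    group
  · rintro _ ⟨a, x, k, h1, rfl⟩ _ ⟨a', x', k', h2, rfl⟩ hd
    rw [dd_o hI _ _ h1, dd_o hI _ _ h2, polar_QD] at hd
    have h3 : hf (ac a x) (ac a' x') = 0 := by simpa [w0, lf] using hd
    obtain ⟨g, h4, h5⟩ := hW.sp _ _ h3
    obtain ⟨r, hr⟩ := move hI hT hW h h4 h1 (p := g * a) (ac_mul _ _ _)
    obtain ⟨r', hr'⟩ := move hI hT hW h h5 h2 (p := g * a') (ac_mul _ _ _)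
    have h6 : hf (ac g (ac a x)) (ac g (ac a' x')) = 0 := by rw [hf_ac, h3]
    refine ⟨k⁻¹ * r⁻¹, ac g (ac a x) + ac g (ac a' x'),
      qq (δ • ac g (ac a' x')) (ac g (ac a x)) * (r' * k'), by rw [q0_add, h4, h5, h6]; simp, ?_⟩
    rw [map_mul] at hr hr'
    have h7 := ss_mul hI h h4 h5 h6
    rw [← ss_inv hI h h4, eq_mul_inv_of_mul_eq hr.symm, eq_mul_inv_of_mul_eq hr'.symm] at h7
    rw [map_mul, map_mul, map_mul, map_inv, map_inv, eq_mul_inv_of_mul_eq h7.symm]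
    group

theorem jobR1 : JobR1.{u} := by
  intro h0 n F _ _ _ _ _ _ G _ _ e t hI hT hW _ hA δ y h
  obtain ⟨k1, k2⟩ := tits h0 hI hT hW h
  set C := Subgroup.closure (DD' e δ y)
  have hj : ∀ g, jj e δ g ∈ C := fun g => Subgroup.subset_closure (jj_mem h g)
  have hb : Function.Bijective ((MonoidHom.fst _ _).comp C.subtype) := by
    refine ⟨(injective_iff_map_eq_one _).2 fun c hc => ?_, fun z => ?_⟩
    · have h1 : c.1.1 = 1 := hc
      obtain ⟨g, hg⟩ := k1 c.1 c.2 (Subtype.ext (by rw [act_val, h1]; rfl))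
      have h2 : g = 1 := hI.inj δ (by rw [map_one, ← h1, ← hg]; rfl)
      exact Subtype.ext (by rw [← hg, h2, map_one]; rfl)
    · obtain ⟨c, hc, h1⟩ := k2 (((z, 1) : _ × G) • oo n δ)
      have h2 : c.1.1 (w0 n F) = z.1 (w0 n F) := congrArg Subtype.val h1
      obtain ⟨g, hg⟩ := hI.rng δ (c.1⁻¹ * z) (by
        change c.1.1⁻¹ (z.1 (w0 n F)) = _
        rw [← h2, O.inv_apply_apply])
      refine ⟨⟨c * jj e δ g, C.mul_mem hc (hj g)⟩, ?_⟩
      change c.1 * iO n F δ g = z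
      rw [hg, mul_inv_cancel_left]
  let Φ : Om (QD n F δ) →* G := ((MonoidHom.snd _ _).comp C.subtype).comp
    (MulEquiv.ofBijective _ hb).symm.toMonoidHom
  have hΦ : ∀ c ∈ C, Φ c.1 = c.2 := fun c hc => by
    have : (MulEquiv.ofBijective _ hb).symm c.1 = ⟨c, hc⟩ :=
      (MulEquiv.symm_apply_eq _).2 rfl
    change ((MulEquiv.ofBijective _ hb).symm c.1).1.2 = _
    rw [this]
  have hres : ∀ x, Φ (iO n F δ x) = e x := fun x => hΦ _ (hj x)
  let θ : Om (QD n F δ) × G →* Om (QD n F δ) × G :=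
    (tO n F δ).toMonoidHom.prodMap (MulAut.conj t).toMonoidHom
  have hθ : ∀ g, θ (jj e δ g) = jj e δ g := fun g =>
    Prod.ext (hI.ti δ g) (mul_inv_eq_iff_eq_mul.2 (hA.cen g))
  have hθ' : ∀ x, q0 x = 0 → θ (ss δ y x) = ss δ y x * jj e δ (TT x) := fun x h1 => by
    refine Prod.ext (hI.tw δ x h1) ?_
    change t * y x * t⁻¹ = y x * e (TT x)
    have h2 := h.tr x h1
    have h3 : (y x)⁻¹ = y x := congrArg Prod.snd (ss_inv hI h h1)
    have h4 : t⁻¹ = t := inv_eq_of_mul_eq_one_left hA.tt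
    have h5 : (e (TT x))⁻¹ = e (TT x) := by
      rw [← map_inv, inv_eq_of_mul_eq_one_left (TT_sq x)]
    rw [one_smul] at h2
    have h6 : t * y x * t⁻¹ = e (TT x) * y x := by
      rw [← inv_mul_cancel_left t (e (TT x)), ← h2, h4]
      group
    rw [← inv_inj, mul_inv_rev, mul_inv_rev, mul_inv_rev, h3, h5, ← h6, h4, h4, mul_assoc]
  have hC : C ≤ C.comap θ := (Subgroup.closure_le _).2 (by
    rintro _ ⟨a, x, k, h1, rfl⟩
    change θ _ ∈ C
    rw [map_mul, map_mul, hθ, hθ, hθ' x h1]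
    exact Subgroup.subset_closure ⟨a, x, TT x * k, h1, by rw [map_mul]; group⟩)
  refine ⟨δ, Φ, ?_, hres, fun z => ?_⟩
  · have := hI.simple δ
    rcases (inferInstance : Φ.ker.Normal).eq_bot_or_eq_top with k | k
    · rw [k]; exact bot_le
    · have h1 : Φ (iO n F δ (TT (ev 0))) = 1 := (MonoidHom.mem_ker).1 (k ▸ Subgroup.mem_top _)
      rw [hres, ← map_one e] at h1
      exact absurd (Tc_eq_one (ev_ne 0) (hf_self _) (star_one F) (hA.inj h1)) one_ne_zero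
  · obtain ⟨c, rfl⟩ := hb.2 z
    have h1 := hΦ _ (hC c.2)
    have h2 := hΦ _ c.2
    exact (congrArg (fun g => t * g * t⁻¹) h2).trans h1.symm

end H81.SPIR1
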