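import Cfsg.Agent.H85.P6.H86_SPIDef

namespace H86 end H86
open H86
namespace H85.P6

/-! STD-SP chapter I: Tits' lemma `R0` and the assembly. -/

set_option autoImplicit false
set_option linter.unusedSectionVars false

namespace H86.SPI

open H64.SG (Cz Cs Ns cjs Inv2)
open H67.UA hiding Par
open H67.SP

universe u

theorem jobR0 : JobR0.{u} := by
  intro Γ _ Ω _ R o H D hs hR hw hH hHD hDH hi hD he hb hc
  have tr : ∀ (g : Γ) a, R a (g • o) → R (g⁻¹ • a) o := fun g a h => by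
    simpa using hR g⁻¹ _ _ h
  have i1 : ∀ d ∈ D, ∀ d' ∈ D, R ((d * d') • o) o → d * d' ∈ D := fun d hd d' hd' h => by
    have := hc _ (hi d hd) _ hd' (by simpa [mul_smul] using hs _ _ (hR d⁻¹ _ _ h))
    rwa [inv_inv] at this
  have q1 : ∀ a ∈ D, ∀ b ∈ D, ∀ a' ∈ D, ∀ b' ∈ D, (a * b) • o = (a' * b') • o → R (a • o) (a' • o) →
      (a * b)⁻¹ * (a' * b') ∈ H := fun a ha b hb' a' ha' b' hb'' h k => by
    have h1 : (a⁻¹ * a' * b') • o = b • o := by
      rw [mul_assoc, mul_smul, ← h, ← mul_smul, inv_mul_cancel_left]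
    have := hb b hb' _ (i1 _ (hc a ha a' ha' k) _ hb'' (h1 ▸ hD b hb')) h1.symm
    convert this using 1
    group
  have dec : ∀ w c, R w o → R w c → ∃ a ∈ D, ∃ b ∈ D, a • o = w ∧ (a * b) • o = c := fun w c h k => by
    obtain ⟨a, ha, rfl⟩ := he w h
    obtain ⟨b, hb', h2⟩ := he _ (tr a c (hs _ _ k))
    exact ⟨a, ha, b, hb', rfl, by rw [mul_smul, h2, smul_inv_smul]⟩
  have up : ∀ a : Γ, ∀ b ∈ D, R ((a * b) • o) (a • o) := fun a b hb' => by
    rw [mul_smul]; exact hR a _ _ (hD b hb')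
  have q2 : ∀ a ∈ D, ∀ b ∈ D, ∀ a' ∈ D, ∀ b' ∈ D, (a * b) • o = (a' * b') • o →
      (a * b)⁻¹ * (a' * b') ∈ H := fun a ha b hb' a' ha' b' hb'' h => by
    obtain ⟨w, w0, w1, w2, w3⟩ := hw ((a * b) • o) (a • o) (a' • o)
    obtain ⟨x, hx, y, hy, rfl, h2⟩ := dec w _ w0 w1
    have := mul_mem (q1 a ha b hb' x hx y hy h2.symm (hs _ _ w2))
      (q1 x hx y hy a' ha' b' hb'' (h2.trans h) w3)
    convert this using 1
    group
  have p3 : ∀ a ∈ D, ∀ b ∈ D, ∀ c ∈ D, ∃ x ∈ D, ∃ y ∈ D, a * b * c = x * y := fun a ha b hb' c hc' => by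
    obtain ⟨w, w0, w1, w2, -⟩ := hw ((a * b) • o) ((a * b * c) • o) o
    obtain ⟨x, hx, y, hy, rfl, h2⟩ := dec w _ w0 w1
    have h3 := hDH y hy _ (q2 x hx y hy a ha b hb' h2)
    have h4 : y * ((x * y)⁻¹ * (a * b)) * c = x⁻¹ * (a * b * c) := by group
    refine ⟨x, hx, _, i1 _ h3 c hc' ?_, by rw [h4]; group⟩
    rw [h4, mul_smul]
    exact tr x _ (hs _ _ w2)
  have one : (1 : Γ) ∈ D := hHD 1 (one_mem H)
  refine ⟨fun g hg h => ?_, fun w => ?_⟩
  · have : ∃ x ∈ D, ∃ y ∈ D, g = x * y := by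
      clear h
      induction hg using Subgroup.closure_induction_right with
      | one => exact ⟨1, one, 1, one, by simp⟩
      | mul_right g _ d hd ih =>
        obtain ⟨x, hx, y, hy, rfl⟩ := ih
        exact p3 x hx y hy d hd
      | mul_inv_cancel g _ d hd ih =>
        obtain ⟨x, hx, y, hy, rfl⟩ := ih
        exact p3 x hx y hy _ (hi d hd)
    obtain ⟨x, hx, y, hy, rfl⟩ := this
    simpa using q2 1 one 1 one x hx y hy (by simpa using h.symm)
  · obtain ⟨b, b0, b1, -⟩ := hw w w w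
    obtain ⟨x, hx, y, hy, -, h⟩ := dec b w b0 b1
    exact ⟨_, mul_mem (Subgroup.subset_closure hx) (Subgroup.subset_closure hy), h⟩

variable {n : ℕ} {F : Type} [Field F] [StarRing F] [TrivialStar F] [CharP F 2] [Finite F] [Par n F]
  {G : Type u} [Group G] {e : XU n F →* G} {t : G} {k : F} {y : Vn n F → G}

theorem TT_sq (x : Vn n F) : TT x * TT x = 1 := Tc_mul_self (hf_self x) (star_one F)

theorem TT_eq_one {x : Vn n F} (h : TT x = 1) : x = 0 := by
  by_contra h0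
  exact one_ne_zero (Tc_eq_one h0 (hf_self x) (star_one F) h)

open Classical in
/-- Multiply the family by `t`. -/
theorem Fam.flip (hV : AV e t) (h : Fam e t k y) :
    Fam e t k fun x => if x = 0 then 1 else y x * t where
  zero := if_pos rfl
  eqv g hg x hx := by
    by_cases h0 : x = 0
    · simp [h0]
    · rw [if_neg h0, if_neg fun h1 => h0 (ac_inj g (h1.trans (ac_zero g).symm)), ← h.eqv g hg x hx,
        mul_assoc _ _ t, ← map_inv, ← hV.cen]
      group
  act x p hx hp := by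
    by_cases h0 : x = 0
    · have := h.act x p hx hp
      rw [h0, h.zero] at this
      simpa [h0] using this
    · rw [if_neg h0, ← h.act x p hx hp, mul_assoc _ t, hV.cen]
      group
  tr x hx := by
    by_cases h0 : x = 0
    · simp [h0]
    · rw [if_neg h0, ← h.tr x hx]
      group

theorem fam2_of (hT : MT n F) (hW : MW n F) (h : Fam e t k y) (hR : Rho e y 0) : Fam2 e t k y where
  toFam := h
  sq x hx := by simpa using hR.1 x hx
  com x x' hx := by
    obtain ⟨c, hc⟩ := hR.2 x x' hx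
    have h0 : hf (c • x') x = 0 := by rw [hf_smul_left, hf_comm, hx.p, mul_zero]
    have h1 : qq (c • x') x ∈ X0 n F := by
      have := hW.ee x (c • x') hx.l h0
      rwa [q0_smul, hx.r, mul_zero] at this
    have h2 : ac (qq (c • x') x) x' = x' :=
      ac_EE_fix (ok h0 0) (by rw [hf_comm, hx.p]) (by rw [hf_smul_right, hf_self, mul_zero])
    have h3 := h.act x' _ hx.r h2
    rw [hT.x0 x' _ h1 hx.r h2, mul_inv_eq_iff_eq_mul] at h3
    refine ⟨c, ?_⟩
    rw [mul_assoc, h3, ← mul_assoc, ← mul_inv_eq_iff_eq_mul, hc]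
    simp

theorem jobI_of (m1 : JobM1) (mi : JobMI) (mt : JobMT) (mw : JobMW) (fc : JobFC) (a0 : JobA0.{u})
    (a1 : JobA1.{u}) (dd : JobDD.{u}) (a2 : JobA2.{u}) (a3 : JobA3.{u}) (dq : JobDQ.{u})
    (k1 : JobK1.{u}) (a5 : JobA5.{u}) (r1 : JobR1.{u}) : JobI.{u} := by
  intro n F _ _ _ _ _ _ G _ _ e t hC κ h0 hTr
  have hI := mi n F (m1 n F)
  have hT := mt n F hI
  have hW := mw n F hI
  have hF := fc n F
  have hV := a0 n F G e t hI hT hW hF hC
  have hk := inv_ne_zero h0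
  obtain ⟨y, hy⟩ := a1 n F G e t hI hT hW hF hV κ h0 hTr
  generalize κ⁻¹ = k at hk hy
  have D := dd n F G e t hI hT hW hF hV
  have A2 := fun y hy => a2 n F G e t hI hT hW hF hV k y hk hy (D k y hy)
  obtain ⟨y, hy⟩ : ∃ y, Fam2 e t k y := by
    obtain ⟨ρ, hρ⟩ := A2 y hy
    rcases a3 n F G e t hI hT hW hF hV k y ρ hk hy (D k y hy) hρ with rfl | rfl
    · exact ⟨y, fam2_of hT hW hy hρ⟩
    · obtain ⟨ρ', h'⟩ := A2 _ (hy.flip hV)
      have h1 := h'.1 (ev 0) (q0_ev 0)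
      have h2 := hy.tr (ev 0) (q0_ev 0)
      have h3 := hρ.1 (ev 0) (q0_ev 0)
      simp only [if_neg (ev_ne (K := F) (0 : Fin (n + 1)))] at h1
      have h4 : y (ev 0) * t * (y (ev 0) * t) =
          y (ev 0) * t * (y (ev 0))⁻¹ * (y (ev 0) * y (ev 0)) * t := by group
      rw [h4, h2, h3, mul_assoc t, ← map_mul, TT_sq, map_one, mul_one, hV.tt, ← map_one e] at h1
      obtain rfl : ρ' = 0 :=
        (smul_eq_zero.1 (TT_eq_one (hV.inj h1).symm)).resolve_right (ev_ne 0)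
      exact ⟨_, fam2_of hT hW (hy.flip hV) h'⟩
  have hD := D k y hy.toFam
  obtain rfl := k1 n F G e t hI hT hW hF hV k y hk hy hD (dq n F G e t hI hT hW hF hV k y hk hy hD)
  obtain ⟨δ, h3⟩ := a5 n F G e t hI hT hW hF hV y hy hD
  exact r1 jobR0 n F G e t hI hT hW hF hV δ y h3

end H86.SPI
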