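import Cfsg.Agent.H85.P6.H86_SPIQuo

namespace H86 end H86
open H86
namespace H85.P6

/-! STD-SP chapter I: slot `DQ`. -/

set_option autoImplicit false
set_option linter.unusedSectionVars false

namespace H86.SPI

open H67.UA hiding Par
open H67.SP

universe u

/-- Hua's identity kills a symmetric, alternating, biadditive form of degree one. -/
theorem hua {F : Type} [Field F] [CharP F 2] [Finite F] (α : F → F → F) (h1 : ∀ c s, α c s = α s c)
    (h2 : ∀ c s s', α c (s + s') = α c s + α c s') (h3 : ∀ c, α c c = 0)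
    (h4 : ∀ r c s, r ≠ 0 → α (r * c) (r * s) = r * α c s) (s : F) : α 1 s = 0 := by
  have h0 : α 1 0 = 0 := by simpa using h2 1 0 0
  have h5 : ∀ r, r ≠ 0 → α 1 r = r * α 1 r⁻¹ := fun r hr => by
    rw [← h4 r 1 r⁻¹ hr, mul_one, mul_inv_cancel₀ hr, h1]
  obtain ⟨r, rfl⟩ := H59.SO.exists_sq s
  by_cases k0 : r = 0
  · simpa [k0] using h0
  by_cases k1 : 1 + r = 0
  · rw [show r = 1 by linear_combination k1 - two0 F, mul_one, h3]
  have k2 : (r + r * r)⁻¹ = r⁻¹ + (1 + r)⁻¹ := by
    rw [show r + r * r = r * (1 + r) by ring]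
    field_simp
    linear_combination -r * two0 F
  have k3 := h5 (r + r * r) (by rw [show r + r * r = r * (1 + r) by ring]; exact mul_ne_zero k0 k1)
  have k4 := h5 _ k1
  rw [h2, h3, zero_add] at k4
  rw [k2, h2, h2] at k3
  linear_combination k3 - (1 + r) * h5 r k0 - r * k4 + r * α 1 r * two0 F

variable {n : ℕ} {F : Type} [Field F] [StarRing F] [TrivialStar F] [CharP F 2] [Finite F] [Par n F]
  {x x' f : Vn n F} {G : Type u} [Group G] [Finite G] {e : XU n F →* G} {t : G} {k : F}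
  {y : Vn n F → G}

theorem Tri.ac_qq (h : Tri x x' f) (s a b : F) :
    ac (qq (s • f) x) (a • x + b • x') = (a + b * s) • x + b • x' := by
  rw [H67.UA.ac_qq (pp (by rw [hf_smul_right', h.xf, mul_zero]))]
  simp only [hf_add_left, hf_smul_left, hf_smul_right', h.xf, h.one, hf_self, hf_symm h.p]
  module

theorem jobDQ : JobDQ.{u} := by
  intro n F _ _ _ _ _ _ G _ _ e t _ hT hW hF hV k y hk hy hD x x' f hx
  have hs := hx.toTs
  have h := hx.p
  let g : F → XU n F := fun s => qq (s • f) x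
  let D : F → F → G := fun c s => dd y (c • x + (0 : F) • x') (s • x + (1 : F) • x')
  have gX : ∀ s, g s ∈ X0 n F := fun s => hW.qq_mem hx.l hx.s hx.xf s
  have gM : ∀ s, e (g s) ∈ ML e h := fun s => mem_ML fun c => by
    rw [← map_mul, ← map_mul, EE_comm (by rw [hf_smul_left, hf_symm hx.xf, mul_zero])
      (by rw [hf_smul_left, hf_symm h, mul_zero])]
  have g2 : ∀ s, e (g s) * e (g s) = 1 := fun s => by
    rw [← map_mul, qq_sq (by rw [hf_smul_left, hf_symm hx.xf, mul_zero]), map_one]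
  have yM := fun r s => hy.mem_ML (h := h) hW hs r s
  have De : ∀ c s, D c s = y ((c + s) • x + (1 : F) • x') * y (c • x + (0 : F) • x') *
      y (s • x + (1 : F) • x') := fun c s => by
    simp only [D, dd]; congr 3; module
  have DM : ∀ c s, D c s ∈ ML e h := fun c s => De c s ▸ mul_mem (mul_mem (yM _ _) (yM _ _)) (yM _ _)
  have gD : ∀ c s, e (g s) * D c 0 * (e (g s))⁻¹ = D c s := fun c s => by
    have := fun a b => hy.eqv _ (gX s) _ (hs.q0 a b)
    simp only [g, hx.ac_qq] at this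
    have h1 := this c 1
    have h2 := this c 0
    have h3 := this 0 1
    rw [one_mul] at h1
    rw [zero_mul, add_zero] at h2
    rw [one_mul, zero_add] at h3
    rw [De c s, ← h1, ← h2, ← h3, De, add_zero]
    simp only [g]
    group
  have DD' := fun c s => hD _ _ (hs.q0 c 0) (hs.q0 s 1) (hf_comb h c 0 s 1)
  let ζ : F → F → G := fun c s => (D c 0)⁻¹ * D c s
  have ζM : ∀ c s, ζ c s ∈ ML e h := fun c s => mul_mem (inv_mem (DM _ _)) (DM _ _)
  have ζt : ∀ c s, ζ c s * t = t * ζ c s := fun c s => by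
    have h1 := (DD' c 0).2
    have h2 := (DD' c s).2
    rw [smul_add, smul_smul, smul_smul, qq_comb h] at h1 h2
    simp only [zero_mul, add_zero] at h1 h2
    rw [← h1] at h2
    change D c s * t * (D c s)⁻¹ = D c 0 * t * (D c 0)⁻¹ at h2
    rw [mul_inv_eq_iff_eq_mul] at h2
    simp only [ζ, mul_assoc, h2]
    group
  have ζp : ∀ c s p, ac p x = x → ac p x' = x' → ζ c s * e p = e p * ζ c s := fun c s p h1 h2 => by
    have k : ∀ s, Commute (D c s) (e p) := fun s => (DD' c s).1 p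
      (by simp [ac_smul, h1]) (by simp [ac_add, ac_smul, h1, h2])
    exact ((k 0).inv_left.mul_left (k s)).eq
  have cA : ∀ r r', Commute (pY e y h r 1) (pY e y h r' 1) := fun r r' => by
    by_cases k : r = r'
    · rw [k]
    · exact hy.pY_comm hW hs (by rw [mul_one, one_mul]; exact fun k' => k (by
        linear_combination k' - r' * two0 F))
  have cB : ∀ c r, Commute (pY e y h c 0) (pY e y h r 1) := fun c r => by
    by_cases k : c = 0
    · rw [k, hy.pY_zero]; exact Commute.one_left _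
    · exact (hy.pY_comm hW hs (by simpa using k)).symm
  have yi : ∀ r s, (pY e y h r s)⁻¹ = pY e y h r s := fun r s =>
    inv_eq_of_mul_eq_one_left (hy.pY_sq hW hs r s)
  have ζf : ∀ c s, pr e h (ζ c s) =
      pY e y h 0 1 * pY e y h c 1 * pY e y h (c + s) 1 * pY e y h s 1 := fun c s => by
    simp only [ζ]
    rw [pr_mul (inv_mem (DM _ _)) (DM _ _), pr_inv (DM _ _), De, De,
      pr_mul (mul_mem (yM _ _) (yM _ _)) (yM _ _), pr_mul (yM _ _) (yM _ _),
      pr_mul (mul_mem (yM _ _) (yM _ _)) (yM _ _), pr_mul (yM _ _) (yM _ _), add_zero, mul_inv_rev,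
      mul_inv_rev, yi, yi, yi, (cB c c).eq, ← (cB c (c + s)).eq]
    simp only [mul_assoc]
    rw [← mul_assoc (pY e y h c 0), hy.pY_sq hW hs, one_mul]
  have gT : ∀ s a b, pr e h (e (g s)) * pT e h a b * (pr e h (e (g s)))⁻¹ = pT e h (a + b * s) b :=
    fun s a b => by
      rw [← pr_inv (gM s), ← pr_mul (gM s) (TT_mem_ML _ _),
        ← pr_mul (mul_mem (gM s) (TT_mem_ML _ _)) (inv_mem (gM s)), ← map_inv, ← map_mul, ← map_mul,
        TT_conj, hx.ac_qq]
  have ζg : ∀ c s, ζ c s * e (g s) = (D c 0)⁻¹ * e (g s) * D c 0 := fun c s => by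
    simp only [ζ, ← gD c s, inv_eq_of_mul_eq_one_left (g2 s), mul_assoc, g2, mul_one]
  have ex : ∀ c s, ∃ a, pr e h (ζ c s) = pT e h a 0 := fun c s => by
    by_cases s0 : s = 0
    · exact ⟨0, by simp [ζ, s0, pr_one, pT]⟩
    obtain ⟨a, b, H | H⟩ := hV.v2' (h := h) hx.li (ζt c s) (ζp c s)
    · have h1 : ζ c s * (e (g s) * ζ c s * (e (g s))⁻¹) = 1 := by
        rw [inv_eq_of_mul_eq_one_left (g2 s), mul_assoc (e _), ← mul_assoc, ζg,
          show ∀ a b : G, a⁻¹ * b * a * (a⁻¹ * b * a) = a⁻¹ * (b * b) * a from fun a b => by group, g2]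
        group
      have h2 := congrArg (pr e h) h1
      rw [pr_mul (ζM _ _) (mul_mem (mul_mem (gM _) (ζM _ _)) (inv_mem (gM _))),
        pr_mul (mul_mem (gM _) (ζM _ _)) (inv_mem (gM _)), pr_mul (gM _) (ζM _ _), pr_inv (gM _), H,
        gT, pT_mul, pr_one] at h2
      have h3 := (pT_eq_one hF hV hx.li h2).1
      obtain rfl : b = 0 := (mul_eq_zero.1 (by linear_combination h3 - a * two0 F)).resolve_right s0
      exact ⟨a, H⟩
    · refine absurd (hy.not_t (h := h) hV hT hW hF hs hk (r := 0) (s := 1) (r' := a) (s' := b) ?_).2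
        one_ne_zero
      rw [← H, ζf]
      exact ((((cA 0 0).mul_right (cA 0 c)).mul_right (cA _ _)).mul_right (cA _ _)).eq
  choose α hα using ex
  have uq : ∀ {a b : F}, pT e h a 0 = pT e h b 0 → a = b := fun H => (pT_inj hF hV hx.li H).1
  intro s
  have h0 : α 1 s = 0 := by
    refine hua α (fun c s => uq ?_) (fun c s s' => uq ?_) (fun c => uq ?_) (fun r c s hr => uq ?_) s
    · rw [← hα, ← hα, ζf, ζf, add_comm s]
      simp only [mul_assoc]
      rw [(cA (c + s) s).eq, (cA (c + s) c).eq, ← mul_assoc (pY e y h c 1), (cA c s).eq, mul_assoc]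
    · have h1 : ζ c (s + s') * e (g (s + s')) = ζ c s * e (g s) * (ζ c s' * e (g s')) := by
        rw [ζg, ζg, ζg, show g (s + s') = g s * g s' from (qq_add_smul hx.xf s s').symm, map_mul]
        group
      have h2 := congrArg (pr e h) h1
      have h3 := gT s (α c s') 0
      rw [zero_mul, add_zero, mul_inv_eq_iff_eq_mul] at h3
      rw [pr_mul (ζM _ _) (gM _), pr_mul (mul_mem (ζM _ _) (gM _)) (mul_mem (ζM _ _) (gM _)),
        pr_mul (ζM _ _) (gM _), pr_mul (ζM _ _) (gM _), hα, hα, hα, mul_assoc,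
        ← mul_assoc (pr e h (e (g s))), h3, mul_assoc, ← pr_mul (gM _) (gM _), ← map_mul,
        show g s * g s' = g (s + s') from qq_add_smul hx.xf s s', ← mul_assoc, pT_mul, add_zero,
        mul_left_inj] at h2
      exact h2
    · rw [← hα, ζf, CharTwo.add_self_eq_zero, mul_assoc (pY e y h 0 1), (cA c 0).eq, ← mul_assoc,
        hy.pY_sq hW hs, one_mul, hy.pY_sq hW hs, pT_zero]
    · obtain ⟨p, hp, p1, p2⟩ := hW.wt2 x x' _ _ hs (hs.comb (a := r) (b := 0) (c := 0) (d := 1)
        (by simpa using hr))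
      simp only [zero_smul, add_zero, zero_add, one_smul] at p1 p2
      have pM : e p ∈ ML e h := scale_mem_ML p1 p2
      have pv : ∀ a b : F, ac p (a • x + b • x') = (r * a) • x + b • x' := fun a b => by
        rw [ac_add, ac_smul, ac_smul, p1, p2, smul_smul, mul_comm]
      have cj : ∀ a ∈ ML e h, pr e h (e p * a * (e p)⁻¹) =
          pr e h (e p) * pr e h a * (pr e h (e p))⁻¹ := fun a ha => by
        rw [pr_mul (mul_mem pM ha) (inv_mem pM), pr_mul pM ha, pr_inv pM]
      have cY : ∀ a, pY e y h (r * a) 1 = pr e h (e p) * pY e y h a 1 * (pr e h (e p))⁻¹ := fun a => by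
        rw [← cj _ (yM _ _), hy.eqv p hp _ (hs.q0 _ _), pv]
      have cT : ∀ a, pT e h (r * a) 0 = pr e h (e p) * pT e h a 0 * (pr e h (e p))⁻¹ := fun a => by
        rw [← cj _ (TT_mem_ML _ _), ← map_inv, ← map_mul, ← map_mul, TT_conj, pv]
      have c0 := cY 0
      rw [mul_zero] at c0
      rw [← hα, cT, ← hα, ζf, ζf, ← mul_add, cY, cY, cY]
      nth_rewrite 1 [c0]
      group
  have h1 := hα 1 s
  rw [h0, pT_zero, ← pr_one] at h1
  obtain ⟨ν, hν⟩ := (pr_eq (one_mem _) (ζM 1 s)).1 h1.symm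
  have h2 := ζg 1 s
  have h3 : D 1 0 = dd y x x' := by simp [D]
  have h4 := (hD x x' hx.l hx.r h).1 (qq (ν • x') x) (by simpa using ac_qq_comb h ν 1 0)
    (by simpa using ac_qq_comb h ν 0 1)
  have h5 : e (qq (ν • x') x) * e (qq (ν • x') x) = 1 := by
    rw [← map_mul, qq_sq (by rw [hf_smul_left, hf_symm h, mul_zero]), map_one]
  rw [hν, one_mul, h3, mul_assoc, eq_inv_mul_iff_mul_eq, ← mul_assoc, h4, mul_assoc] at h2
  refine ⟨ν, ?_⟩
  rw [EE_comm (by rw [hf_smul_left, hf_symm hx.xf, mul_zero])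
    (by rw [hf_smul_left, hf_symm h, mul_zero]), map_mul, mul_inv_eq_iff_eq_mul, mul_assoc, ← h2,
    ← mul_assoc, h5, one_mul]

end H86.SPI
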