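import Cfsg.Agent.H85.P6.H86_SPIKit
import Cfsg.Agent.H85.P6.H34_SpZ1
import Cfsg.Agent.H54.P6.H9_SPGBN
import Cfsg.Agent.H73.P6PC

/-! P6 port (row S1734), slot `NO` for `Sp₆(2)`: under the fusion pattern `t {1, b₁}` the class of `t`
does not meet `L`. -/

set_option autoImplicit false
set_option linter.unusedSectionVars false

namespace H85.P6.NOW

open H64.SG (O2 Cz Cs Ns cjs Is2 Inv2 fx mem_Cz mem_fx is2_of_sq)
open Subgroup H67.SP
open H67.UA hiding Par
open H67.SA (la)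
open H59.SO (Ind B0 cje)
open H86.SPI (hf_comm hf_self hf_smul_right' ac_TT TT_conj qq_conj qq_sq pp)
open H34.SpQE (NN NN_apply rk_eq hf_NN ac_NN exists_diag)
open H54.P6.H9.SPG (even_rk two_rk)

universe u

theorem three {H S : Type*} [Group H] [Finite S] (hS : Nat.card S = 3) (A : Subgroup H)
    (φ : A →* Equiv.Perm S) {g : H} (h1 : g ∈ O2 A) (h2 : Is2 g) (hg : g ∈ A) : φ ⟨g, hg⟩ = 1 := by
  classical
  have := Fintype.ofFinite S
  have : Nontrivial S := Finite.one_lt_card_iff_nontrivial.1 (by omega)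
  have k : O2 A ≤ ((alternatingGroup S).comap φ).map A.subtype := (closure_le _).2 fun a ha => by
    refine ⟨⟨a, ha.1⟩, ?_, rfl⟩
    obtain ⟨m, hm⟩ := ha.2
    have e : (⟨a, ha.1⟩ : A) ^ (2 * m + 1) = 1 := Subtype.ext (hm ▸ pow_orderOf_eq_one a)
    have := congrArg (fun x => Equiv.Perm.sign (φ x)) e
    simp only [map_pow, map_one, pow_succ, map_mul, pow_mul, pow_zero, one_mul,
      Int.units_mul_self, one_pow] at this
    exact this
  obtain ⟨a, a1, rfl⟩ := k h1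
  have c : Nat.card (alternatingGroup S) = 3 := by
    have := two_mul_nat_card_alternatingGroup (α := S)
    rw [Nat.card_perm, hS] at this
    change _ = 6 at this
    omega
  have e3 : φ a ^ 3 = 1 := congrArg Subtype.val (c ▸ pow_card_eq_one' (x := (⟨φ a, a1⟩ : alternatingGroup S)))
  obtain ⟨j, hj⟩ := h2
  have e2 : φ a ^ 2 ^ j = 1 := by rw [← map_pow, show a ^ 2 ^ j = 1 from Subtype.ext hj, map_one]
  exact pow_eq_one_iff_of_coprime (Nat.Coprime.pow_right j (by decide : Nat.Coprime 3 2)) |>.1 ⟨e3, e2⟩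

section X

variable {n : ℕ} {F : Type} [Field F] [StarRing F] [TrivialStar F] [CharP F 2] [Finite F] [p : Par n F]
  [Base n F]

theorem tt_sq (v : Vn n F) : TT v * TT v = 1 := Tc_mul_self (hf_self v) (star_one F)

/-- Two transvections whose product is a transvection have the same centre. -/
theorem tl {u v w : Vn n F} (hu : u ≠ 0) (h : TT u * TT v = TT w) : ∃ a : F, v = a • u := by
  by_contra k
  have k1 : ¬ ∀ y, hf y u = 0 → hf y v = 0 := fun q => k (FW.dual u v hu q)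
  have hv : v ≠ 0 := fun q => k ⟨0, by rw [q, zero_smul]⟩
  have k2 : ¬ ∀ y, hf y v = 0 → hf y u = 0 := fun q => by
    obtain ⟨a, ha⟩ := FW.dual v u hv q
    have a0 : a ≠ 0 := fun q => hu (by rw [ha, q, zero_smul])
    exact k ⟨a⁻¹, by rw [ha, smul_smul, inv_mul_cancel₀ a0, one_smul]⟩
  push Not at k1 k2
  obtain ⟨y, y1, y2⟩ := k1
  obtain ⟨x, x1, x2⟩ := k2
  have h1 := congrArg (ac · y) h
  have h2 := congrArg (ac · x) h
  simp only [ac_mul, ac_TT, y1, x1, zero_smul, add_zero, hf_add_left, hf_smul_left, zero_add,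
    add_assoc, add_right_inj] at h1 h2
  have a0 : hf x w ≠ 0 := fun q => by
    rw [q, zero_smul] at h2
    exact hu ((smul_eq_zero.1 h2).resolve_left x2)
  refine k ⟨(hf y v)⁻¹ * (hf y w * (hf x w)⁻¹ * hf x u - hf y v * hf v u), funext fun i => ?_⟩
  have h3 := congrFun h1 i
  have h4 := congrFun h2 i
  simp only [Pi.add_apply, Pi.smul_apply, smul_eq_mul] at h3 h4 ⊢
  field_simp
  linear_combination hf x w * h3 - hf y w * h4

theorem tl' {u : Vn n F} (hu : u ≠ 0) {y : XU n F} (hy : y = 1 ∨ Lr y)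
    (h : TT u * y = 1 ∨ Lr (TT u * y)) : ∃ a : F, y = TT (a • u) := by
  rcases hy with rfl | ⟨v, -, rfl⟩
  · exact ⟨0, by simp⟩
  have : ∃ w, TT u * TT v = TT w := h.elim (fun q => ⟨0, by simpa using q⟩) fun ⟨w, _, q⟩ => ⟨w, q⟩
  obtain ⟨w, hw⟩ := this
  obtain ⟨a, rfl⟩ := tl hu hw
  exact ⟨a, rfl⟩

theorem cz_TT {v : Vn n F} (hv : v ≠ 0) {c : XU n F} : c ∈ Cz (TT v) ↔ ac c v = v := by
  rw [show Cz (TT v) = Stab v from FR.cz v 1 hv one_ne_zero, mem_Stab]

theorem tl_cz {x y c : XU n F} (hx : Lr x) (hy : y = 1 ∨ Lr y) (h : x * y = 1 ∨ Lr (x * y))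
    (hc : x * c = c * x) : y * c = c * y := by
  obtain ⟨u, hu, rfl⟩ := hx
  obtain ⟨a, rfl⟩ := tl' hu hy h
  have := TT_conj c (a • u)
  rw [ac_smul, (cz_TT hu).1 (mem_Cz.2 hc), mul_inv_eq_iff_eq_mul] at this
  exact this.symm

theorem tl_card {A : Subgroup (XU n F)} (h : ∀ a ∈ A, a = 1 ∨ Lr a) : Nat.card A ≤ Nat.card F := by
  have : ∃ u : Vn n F, ∀ y ∈ A, ∃ a : F, y = TT (a • u) := by
    by_cases k : ∀ a ∈ A, a = 1
    · exact ⟨0, fun y hy => ⟨0, by simp [k y hy]⟩⟩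
    push Not at k
    obtain ⟨x, hx, x1⟩ := k
    obtain ⟨u, hu, rfl⟩ := (h x hx).resolve_left x1
    exact ⟨u, fun y hy => tl' hu (h y hy) (h _ (mul_mem hx hy))⟩
  obtain ⟨u, hu⟩ := this
  choose f hf using fun y : A => hu y y.2
  exact Nat.card_le_card_of_injective f fun a b q => Subtype.ext (by rw [hf a, hf b, q])

theorem lr_O2 [FC n F] {x : XU n F} (hx : Lr x) : x ∈ O2 (Cz x) := by
  obtain ⟨g, rfl⟩ := isConj_iff.1 ((FR.lr x).1 hx)
  have k : xb n F ∈ O2 (Cz (xb n F)) := by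
    rw [show Cz (xb n F) = PP n F from FR.cz _ 1 (ev_ne 0) one_ne_zero]
    exact Pc_le_O2 _ (FC.ob.1 ((FV.mem_Qv _ _).2 ⟨0, 1, hf_zero_left _, rfl⟩))
  refine O2_mono' ?_ (map_O2_le (MulAut.conj g).toMonoidHom _ ⟨_, k, rfl⟩)
  rintro _ ⟨a, ha, rfl⟩
  exact mem_Cz.2 (by simp only [MulEquiv.coe_toMonoidHom, MulAut.conj_apply, conj_mul, mem_Cz.1 ha])

/-- `Pc (C(b₁) ∩ C(b₁'))` is not abelian. -/
theorem nab {v w : Vn n F} (h : hf v w = 0) (l : Li v w) :
    ∃ a ∈ Pc (Stab v ⊓ Stab w), ∃ b ∈ Pc (Stab v ⊓ Stab w), a * b ≠ b * a := by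
  obtain ⟨g, rfl, rfl⟩ := FW.w2 v w h l
  have k : (Pc (Stab (ev 0 : Vn n F) ⊓ Stab (ev 1))).map (MulAut.conj g).toMonoidHom ≤
      Pc (Stab (ac g (ev 0)) ⊓ Stab (ac g (ev 1))) := (map_Pc_le' _ _).trans (Pc_mono (by
    rintro _ ⟨a, ⟨a0, a1⟩, rfl⟩
    constructor <;> refine mem_Stab.2 ?_ <;>
      simp only [MulEquiv.coe_toMonoidHom, MulAut.conj_apply, ac_mul, ac_inv_ac]
    exacts [congrArg _ (mem_Stab.1 a0), congrArg _ (mem_Stab.1 a1)]))
  refine ⟨_, k ⟨_, H73.P6PC.pcD H73.P6K.a0 (.inl rfl), rfl⟩, _,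
    k ⟨_, H73.P6PC.pcD H73.P6K.a1 (.inr (.inl rfl)), rfl⟩, fun q => ?_⟩
  rw [← map_mul, ← map_mul] at q
  have q2 := commutatorElement_eq_one_iff_mul_comm.2 ((MulAut.conj g).injective q)
  rw [H73.P6PC.cm_xa] at q2
  exact ((FR.rk _).2.1.1 ((FR.sr _).2 (IsConj.refl _))).1.2 q2

/-- `Pc (C b₃)` is abelian. -/
theorem abel3 (q : Nat.card F = 2) {u : XU n F} (hu : Inv2 u) (hr : ¬ Rt u) :
    ∀ a ∈ Pc (Cz u), ∀ b ∈ Pc (Cz u), a * b = b * a := by
  have uu := hu.1
  have six := p.six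
  have r3 : rk u = 3 := by
    have := FR.r3 u hu hr
    have := two_rk uu
    omega
  obtain ⟨d, d1, ⟨y, d2⟩, d3⟩ := exists_diag uu
  have ud : ac u d = d := d3 u (mem_Cz.2 rfl)
  have N' : ∀ v, NN (u * TT d) v = NN u v + hf v d • d := fun v => by
    rw [NN_apply, NN_apply, ac_mul, ac_TT, ac_add, ac_smul, ud, add_right_comm]
  have alt : Alt (u * TT d) := fun v => by
    rw [ac_mul, ac_TT, ac_add, ac_smul, ud, hf_add_left, d1, hf_smul_left, hf_comm d, ← pow_two,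
      CharTwo.add_self_eq_zero]
  have ev := even_rk alt
  rw [rk_eq] at ev r3
  set W := LinearMap.range (NN u)
  set W0 := LinearMap.range (NN (u * TT d))
  have l1 : W0 ≤ W := by
    rintro _ ⟨v, rfl⟩
    rw [N']; exact add_mem ⟨v, rfl⟩ (Submodule.smul_mem _ _ ⟨y, d2⟩)
  have dec : ∀ v, NN u v = NN (u * TT d) v + hf v d • d := fun v => by
    rw [N', add_assoc, v_add_self, add_zero]
  have l2 : W ≤ W0 ⊔ F ∙ d := by
    rintro _ ⟨v, rfl⟩
    rw [dec]
    exact add_mem (Submodule.mem_sup_left ⟨v, rfl⟩)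
      (Submodule.mem_sup_right (Submodule.smul_mem _ _ (Submodule.mem_span_singleton_self d)))
  have r2 : Module.finrank F W0 = 2 := by
    have a1 := Submodule.finrank_mono l1
    have a2 := Submodule.finrank_mono l2
    have a3 := Submodule.finrank_add_le_finrank_add_finrank W0 (F ∙ d)
    have a4 : Module.finrank F (F ∙ d) ≤ 1 := by simpa using finrank_span_le_card (R := F) ({d} : Set _)
    obtain ⟨j, hj⟩ := ev
    omega
  have cz : ∀ g ∈ Cz u, g ∈ Cz (u * TT d) := fun g hg => mem_Cz.2 (by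
    have := TT_conj g d
    rw [d3 g hg, mul_inv_eq_iff_eq_mul] at this
    rw [mul_assoc, ← this, ← mul_assoc, mem_Cz.1 hg, mul_assoc])
  have st : ∀ g ∈ Cz u, ∀ w ∈ W0, ac g w ∈ W0 := by
    rintro g hg _ ⟨v, rfl⟩
    exact ⟨_, (ac_NN (cz g hg) v).symm⟩
  let φ : Cz u →* Equiv.Perm {w : W0 // w ≠ 0} := MonoidHom.toHomPerm
    { toFun := fun g w => ⟨⟨ac g w.1, st g g.2 _ w.1.2⟩, fun e => w.2 (Subtype.ext (by
        have := congrArg (fun x : W0 => ac (g : XU n F)⁻¹ x) e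
        simpa only [ac_inv_ac, ZeroMemClass.coe_zero, ac_zero] using this))⟩
      map_one' := funext fun w => Subtype.ext (Subtype.ext (ac_one _))
      map_mul' := fun g h => funext fun w => Subtype.ext (Subtype.ext (ac_mul _ _ _)) }
  have c3 : Nat.card {w : W0 // w ≠ 0} = 3 := by
    have := Module.natCard_eq_pow_finrank (K := F) (V := W0)
    classical
    have _ : Fintype W0 := Fintype.ofFinite _
    rw [Nat.card_eq_fintype_card, Fintype.card_subtype_compl, Fintype.card_subtype_eq,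
      ← Nat.card_eq_fintype_card, this, r2, q]; rfl
  have fix : ∀ g ∈ Pc (Cz u), ∀ v, ac g (NN u v) = NN u v := fun g hg v => by
    refine mem_Stab.1 ((closure_le (Stab (NN u v))).2 (fun g hg => mem_Stab.2 ?_) hg)
    have g1 := H64.SG.O2_le _ hg.1
    rw [dec, ac_add, ac_smul, d3 g g1]
    congr 1
    by_cases z : NN (u * TT d) v = 0
    · rw [z, ac_zero]
    exact congrArg (fun x : {w : W0 // w ≠ 0} => (x.1 : Vn n F)) (Equiv.congr_fun
      (three c3 _ φ hg.1 hg.2 g1) ⟨⟨_, v, rfl⟩, fun e => z (congrArg Subtype.val e)⟩)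
  have ker : LinearMap.ker (NN u) = W := by
    refine (Submodule.eq_of_le_of_finrank_eq ?_ ?_).symm
    · rintro _ ⟨v, rfl⟩
      rw [LinearMap.mem_ker, NN_apply, ac_NN (mem_Cz.2 rfl), ← map_add, NN_apply, ac_add, ← ac_mul, uu,
        ac_one, add_comm v, v_add_self]
    · have := LinearMap.finrank_range_add_finrank_ker (NN u)
      rw [Module.finrank_fin_fun] at this
      change Module.finrank F W + _ = _ at this
      omega
  have mv : ∀ g ∈ Pc (Cz u), ∀ h ∈ Pc (Cz u), ∀ v, ac (g * h) v = ac g v + (ac h v + v) :=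
    fun g hg h hh v => by
    obtain ⟨z, hz⟩ : ac h v + v ∈ W := ker ▸ LinearMap.mem_ker.2 (eq_of_hf fun a => by
      rw [hf_zero_left, hf_NN uu, H73.P6K.mv (fix h hh a)])
    rw [← hz, ← fix g hg z, hz, ← ac_add, add_comm (ac h v), ← add_assoc, v_add_self, zero_add, ac_mul]
  refine fun a ha b hb => ac_ext fun v => ?_
  rw [mv a ha b hb, mv b hb a ha, add_left_comm]

/-- An involution is a product of transvections with centres in `[V, u]`. -/
theorem mem_of_TT (A : Subgroup (XU n F)) (m : ℕ) : ∀ u : XU n F, {v | ac u v ≠ v}.ncard < m →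
    u * u = 1 → (∀ y, TT (ac u y + y) ∈ A) → u ∈ A := by
  induction m with
  | zero => exact fun u h => absurd h (Nat.not_lt_zero _)
  | succ m ih =>
  intro u hm uu hA
  by_cases u1 : ∀ y, ac u y = y
  · rw [show u = 1 from ac_ext fun y => by rw [u1, ac_one]]; exact one_mem _
  have fixN : ∀ y, ac u (ac u y + y) = ac u y + y := fun y => by
    rw [ac_add, ← ac_mul, uu, ac_one, add_comm]
  have sym : ∀ z y, hf z (ac u y + y) = hf (ac u z + z) y := fun z y => by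
    rw [hf_add_left, hf_add_right, hf_ac_left, inv_eq_of_mul_eq_one_right uu]
  have perp : ∀ z y, ac u z = z → hf z (ac u y + y) = 0 := fun z y q => by
    rw [sym, q, v_add_self, hf_zero_left]
  have step : ∀ p ∈ A, p * p = 1 → u * p * u⁻¹ = p → (∀ z, ∃ z', ac p z = z + (ac u z' + z')) →
      (∀ z, ac u z = z → ac p z = z) → ∀ y, ac u y ≠ y → ac p y = ac u y → u ∈ A := by
    intro p hp pp up h1 h2 y y1 y2
    have h4 : {v | ac (u * p) v ≠ v} ⊂ {v | ac u v ≠ v} :=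
      ⟨fun z (hz : ac (u * p) z ≠ z) (q : ac u z = z) => hz (by rw [ac_mul, h2 z q, q]),
        fun q => (q y1 : ac (u * p) y ≠ y) (by rw [ac_mul, y2, ← ac_mul, uu, ac_one])⟩
    have h3 : u * p ∈ A := ih _ (lt_of_lt_of_le (Set.ncard_lt_ncard h4 (Set.toFinite _))
      (Nat.lt_succ_iff.1 hm)) (by
      rw [mul_inv_eq_iff_eq_mul] at up
      rw [mul_assoc, ← mul_assoc p, ← up, mul_assoc, pp, mul_one, uu]) fun z => by
      obtain ⟨z', hz⟩ := h1 z
      have := hA (z + z')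
      rw [ac_add, add_add_add_comm] at this
      rwa [ac_mul, hz, ac_add, fixN, add_right_comm]
    simpa using mul_mem h3 (inv_mem hp)
  have canc : ∀ y, y + (ac u y + y) = ac u y := fun y => by
    rw [add_comm (ac u y), ← add_assoc, v_add_self, zero_add]
  by_cases alt : ∀ y, hf y (ac u y + y) = 0
  · push Not at u1
    obtain ⟨y, hy⟩ := u1
    have h0 : ac u y + y ≠ 0 := fun q => hy (by rw [← canc, q, add_zero])
    obtain ⟨x, hx⟩ := FW.sep 1 ![ac u y + y] (by simpa using h0) ![1]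
    have h1 : hf x (ac u y + y) = 1 := hx 0
    have h2 := perp _ x (fixN y)
    refine step (qq (ac u x + x) (ac u y + y)) ?_ (qq_sq (perp _ y (fixN x))) ?_ (fun z => ?_)
      (fun z q => ?_) y hy ?_
    · rw [qq_eq_TT (pp h2)]
      have := hA (y + x)
      rw [ac_add, add_add_add_comm] at this
      exact mul_mem (mul_mem this (hA y)) (hA x)
    · rw [qq_conj _ (perp _ y (fixN x)), fixN, fixN]
    · refine ⟨hf z (ac u x + x) • y + hf z (ac u y + y) • x, ?_⟩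
      rw [ac_qq (pp h2), ac_add, ac_smul, ac_smul, smul_add, smul_add]
      abel
    · rw [ac_qq (pp h2), perp z x q, perp z y q]; simp
    · rw [ac_qq (pp h2), alt y, sym y x, hf_comm _ x, h1, one_smul, zero_smul, add_zero, canc]
  · push Not at alt
    obtain ⟨y0, h0⟩ := alt
    obtain ⟨y, hy⟩ : ∃ y, hf y (ac u y + y) = 1 := ⟨rt (hf y0 (ac u y0 + y0))⁻¹ • y0, by
      rw [ac_smul, ← smul_add, hf_smul_left, hf_smul_right', ← mul_assoc, ← pow_two, rt_sq,
        inv_mul_cancel₀ h0]⟩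
    refine step _ (hA y) (tt_sq _) (by rw [TT_conj, fixN]) (fun z => ⟨hf z (ac u y + y) • y, ?_⟩)
      (fun z q => ?_) y (fun q => ?_) ?_
    · rw [ac_TT, ac_smul, ← smul_add]
    · rw [ac_TT, perp z y q]; simp
    · rw [perp y y q] at hy; exact zero_ne_one hy
    · rw [ac_TT, hy, one_smul, canc]

end X

section Amb

variable {n : ℕ} {F : Type} [Field F] [StarRing F] [TrivialStar F] [CharP F 2] [Finite F] [Par n F]
  [Base n F] [FC n F] {G : Type u} [Group G] [Finite G] {e e' : XU n F →* G} {a b : G}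

/-- The fusion pattern `T ∩ t L = t {1, b₁}`. -/
structure W (e : XU n F →* G) (t : G) : Prop extends B0 e t where
  gd : ∀ u, IsConj t (t * e u) → u = 1 ∨ Lr u
  tx : ∀ u, Lr u → IsConj t (t * e u)

theorem W.ex (h : W e a) (c : IsConj a b) : ∃ e' : XU n F →* G, W e' b := by
  obtain ⟨g, rfl⟩ := isConj_iff.1 c
  have k : ∀ u, IsConj (a * e u) (g * a * g⁻¹ * cje g e u) := fun u =>
    isConj_iff.2 ⟨g, by rw [H59.SO.cje_apply, conj_mul]⟩
  exact ⟨cje g e, h.toB0.cje g, fun u q => h.gd u ((c.trans q).trans (k u).symm),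
    fun u q => (c.symm.trans (h.tx u q)).trans (k u)⟩

theorem W.nm (h : W e a) : a ∉ e.range := h.toB1.not_mem FA.ns

theorem W.sym' (h : W e a) (h' : W e' b) (c : IsConj a b) {u : XU n F} (q : b = a * e u) :
    e u ∈ e'.range := by
  rcases h.gd u (q ▸ c) with rfl | k
  · rw [map_one]; exact one_mem _
  refine (ab h'.toB0).ol _ (O2_mono' ?_ (map_O2_le e _ ⟨u, lr_O2 k, rfl⟩))
    ((is2_of_sq ((FR.rk u).1.1 k).1.1).map e)
  rintro _ ⟨x, hx, rfl⟩
  rw [mem_Cz, q, mul_assoc, ← map_mul, mem_Cz.1 hx, map_mul, ← mul_assoc, h.toB1.comm, mul_assoc]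

theorem W.tri (h : W e a) (h' : W e' b) (c : a * b = b * a) : ∃ u, b = e u ∨ b = a * e u := by
  obtain ⟨χ, i⟩ := H59.SO.exists_ind h.inj (h.cz (mem_Cz.2 c))
  obtain ⟨g, rfl⟩ := FA.two (FC.two n) χ
  exact ⟨g, (h.toB0.inner FA.ns c h'.inv.1 i).2⟩

/-- The class of `t` does not meet `L`. -/
theorem W.nr (h : W e a) (u : XU n F) : ¬ IsConj a (e u) := fun c => by
  obtain ⟨es, hs⟩ := h.ex c
  have aa := h.inv.1
  have h1 : a ∈ es.range := by
    obtain ⟨x, q | q⟩ := hs.tri h (h.toB1.comm u).symm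
    · exact ⟨x, q.symm⟩
    · exact absurd (q ▸ mul_mem ⟨u, rfl⟩ (hs.sym' h c.symm q)) h.nm
  have uu : u * u = 1 := (H59.SO.sq_e h.inj).1 hs.inv.1
  obtain ⟨y, hy⟩ : ∃ y, e (TT (ac u y + y)) ∉ es.range := by
    by_contra k
    push Not at k
    exact hs.nm (mem_of_TT (es.range.comap e) _ u (Nat.lt_succ_self _) uu k)
  generalize hv : ac u y + y = v at hy
  have v1 : TT v ≠ 1 := fun q => hy (by rw [q, map_one]; exact one_mem _)
  have v0 : v ≠ 0 := fun q => v1 (by simp [q])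
  have uv : e u * e (TT v) = e (TT v) * e u := by
    rw [← map_mul, ← map_mul, mem_Cz.1 ((cz_TT v0).2 (by
      rw [← hv, ac_add, ← ac_mul, uu, ac_one, add_comm]))]
  have cb := h.tx _ ⟨v, v0, rfl⟩
  obtain ⟨eb, hb⟩ := h.ex cb
  obtain ⟨x2, k2⟩ := h.sym' hb cb rfl
  have sb : e u * (a * e (TT v)) = a * e (TT v) * e u := by
    rw [← mul_assoc, ← h.toB1.comm, mul_assoc, uv, mul_assoc]
  obtain ⟨x, q | q⟩ := hs.tri hb sb
  · exact hy (by simpa [← mul_assoc, aa] using mul_mem h1 (⟨x, q.symm⟩ : _ ∈ es.range))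
  obtain ⟨x1, k1⟩ := hs.sym' hb (c.symm.trans cb) q
  have e1 : e u = a * e (TT v) * eb x1 := by
    rw [k1, ← mul_left_cancel_iff (a := a * e (TT v)), ← mul_assoc, hb.inv.1, one_mul, ← sb, q,
      ← mul_assoc, hs.inv.1, one_mul]
  have e2 : a = a * e (TT v) * eb x2 := by rw [k2, mul_assoc, ← map_mul, tt_sq, map_one, mul_one]
  have ne : ∀ z, e u ≠ a * e z := fun z k => h.nm ⟨u * z⁻¹, by rw [map_mul, map_inv, k]; group⟩
  obtain ⟨w1, w10, rfl⟩ := (hb.gd x1 (e1 ▸ cb.symm.trans c)).resolve_left fun k =>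
    ne (TT v) (by rw [e1, k, map_one, mul_one])
  obtain ⟨w2, w20, rfl⟩ := (hb.gd x2 (e2 ▸ cb.symm)).resolve_left fun k =>
    v1 (h.inj (by rw [← k2, k, map_one, map_one]))
  have w12 : w1 ≠ w2 := fun k => ne 1 (by rw [e1, k, ← e2, map_one, mul_one])
  have cm : TT w1 * TT w2 = TT w2 * TT w1 := (H59.SO.e_comm_iff hb.inj).1 (by
    have k := h.toB1.comm u
    generalize a * e (TT v) = b at e1 e2 hb
    rw [e1, e2] at k
    rw [mul_assoc, mul_assoc, mul_right_inj, ← mul_assoc, ← mul_assoc, ← hb.toB1.comm,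
      ← hb.toB1.comm, mul_assoc, mul_assoc, mul_right_inj] at k
    exact k.symm)
  have pe : hf w1 w2 = 0 := by
    have := (cz_TT w10).1 (mem_Cz.2 cm)
    rwa [ac_TT, add_eq_left, smul_eq_zero, or_iff_left w20] at this
  obtain ⟨a1, m1, a2, m2, nc⟩ := nab pe fun s r k => by
    rcases H73.P6PC.zo (FC.two n) s with rfl | rfl <;> rcases H73.P6PC.zo (FC.two n) r with rfl | rfl <;>
      simp only [zero_smul, one_smul, zero_add, add_zero] at k
    exacts [⟨rfl, rfl⟩, absurd k w20, absurd k w10, absurd (H73.P6K.eq_of_add k) w12]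
  have le : (Pc (Stab w1 ⊓ Stab w2)).map eb ≤ (Pc (Cz u)).map e := by
    rw [← Pc_inf h.toB0]
    refine (map_Pc_le' _ _).trans (Pc_mono ?_)
    rintro _ ⟨z, ⟨z1, z2⟩, rfl⟩
    have k : ∀ w, w ≠ 0 → z ∈ Stab w → eb z ∈ Cz (a * e (TT v) * eb (TT w)) := fun w w0 k => by
      rw [mem_Cz, mul_assoc, ← map_mul, mem_Cz.1 ((cz_TT w0).2 (mem_Stab.1 k)), map_mul, ← mul_assoc,
        hb.toB1.comm, mul_assoc]
    exact ⟨e2 ▸ k _ w20 z2, e1 ▸ k _ w10 z1⟩
  obtain ⟨b1, n1, f1⟩ := le ⟨a1, m1, rfl⟩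
  obtain ⟨b2, n2, f2⟩ := le ⟨a2, m2, rfl⟩
  refine nc ((H59.SO.e_comm_iff hb.inj).1 ?_)
  rw [← f1, ← f2, ← map_mul, ← map_mul, abel3 (FC.two n) ⟨uu, fun k => ne 1 ?_⟩
    (fun k => (ab h.toB0).nr u k c) b1 n1 b2 n2]
  rw [k, map_one] at c
  exact absurd (isConj_one_left.1 c) h.inv.2

end Amb

end H85.P6.NOW
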